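import Mathlib
import Cfsg.Agent.Helper13.TLDefs
import Cfsg.Agent.Helper52.TLUGRAM
import Cfsg.Agent.Helper52.TLUNDBLK

set_option autoImplicit false

/-!
# CALL S5954 piece UATOMP (helper86): `uatom_p`, statement verbatim from the skeleton
(mirror of the symplectic piece `atom_p`; unitary atoms are single Jordan chains).
-/

namespace Cfsg.Agent.Helper86.TI5954

open Module Polynomial
open Cfsg.Agent.Helper13.TIu Cfsg.Agent.Helper13.TIsp
open Cfsg.Agent.Helper52.TI5954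
open Cfsg.Agent.Helper46.TI5956 Cfsg.Agent.Helper52.TI5956

section geom2

variable {F : Type*} [Field F] {σ : F →+* F} {V : Type*} [AddCommGroup V] [Module F V]
  [FiniteDimensional F V] (B : V →ₛₗ[σ] V →ₗ[F] F)

theorem uatom_p (hσ2 : ∀ a, σ (σ a) = a) (hσne : σ ≠ RingHom.id F) (hS : B.IsSymm)
    (T : Module.End F V) (hT : UPres B T) (n : ℕ) (hn : 0 < n) (hTn : T ^ n = 1) (p : ℕ)
    (hNp : (T - 1) ^ p = 0) (E : Submodule F V) (hET : E.map T ≤ E) (hE : UNd B E)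
    (hE0 : E ≠ ⊥) :
    ∃ (Z : Submodule F V) (a : ℕ), Z ≤ E ∧ Z.map T ≤ Z ∧ UNd B Z ∧ 0 < a ∧ a ≤ p ∧
      JT (T - 1) Z (Multiset.replicate 1 a) := by
  classical
  have hsymm : ∀ x y : V, B x y = σ (B y x) := fun x y => (hS.eq y x).symm
  -- invariance under N
  have hNE : ∀ v ∈ E, (T - 1) v ∈ E := by
    intro v hv
    rw [LinearMap.sub_apply, Module.End.one_apply]
    exact E.sub_mem (hET (Submodule.mem_map_of_mem hv)) hv
  have hNkE : ∀ (k : ℕ) (v : V), v ∈ E → ((T - 1) ^ k) v ∈ E := by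
    intro k
    induction k with
    | zero => intro v hv; simpa using hv
    | succ k ih =>
      intro v hv
      rw [pow_succ, Module.End.mul_apply]
      exact ih _ (hNE v hv)
  -- the nilpotency index
  have hex : ∃ a : ℕ, ∀ v ∈ E, ((T - 1) ^ a) v = 0 := ⟨p, fun v _ => by rw [hNp]; rfl⟩
  obtain ⟨a, hEa, hmin⟩ : ∃ a : ℕ, (∀ v ∈ E, ((T - 1) ^ a) v = 0) ∧
      ∀ b < a, ¬ ∀ v ∈ E, ((T - 1) ^ b) v = 0 :=
    ⟨Nat.find hex, Nat.find_spec hex, fun b hb => Nat.find_min hex hb⟩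
  have hap : a ≤ p := by
    by_contra hlt
    have hlt' : p < a := Nat.lt_of_not_le hlt
    exact hmin p hlt' (fun v _ => by rw [hNp]; rfl)
  have ha0 : 0 < a := by
    rcases Nat.eq_zero_or_pos a with rfl | h
    · exfalso
      apply hE0
      rw [eq_bot_iff]
      intro v hv
      have h1 := hEa v hv
      rw [pow_zero, Module.End.one_apply] at h1
      exact (Submodule.mem_bot F).mpr h1
    · exact h
  -- the form β
  have hgram := fun (u v : V) (hu : u ∈ E) (hv : v ∈ E) (i j : ℕ) =>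
    ugram_blk B T hT n hn hTn E hET a hEa u v hu hv i j
  have hsym : ∀ u ∈ E, ∀ v ∈ E,
      B v (((T - 1) ^ (a - 1)) u) = (-1) ^ (a - 1) * σ (B u (((T - 1) ^ (a - 1)) v)) := by
    intro u hu v hv
    have h1 := (hgram u v hu hv (a - 1) 0).2 (by omega)
    rw [pow_zero, Module.End.one_apply] at h1
    rw [hsymm, h1, map_mul, map_pow, map_neg, map_one]
  -- β is nonzero
  obtain ⟨u₀, hu₀, v₀, hv₀, hβ0⟩ : ∃ u₀ ∈ E, ∃ v₀ ∈ E, B u₀ (((T - 1) ^ (a - 1)) v₀) ≠ 0 := by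
    have h1 := hmin (a - 1) (by omega)
    have h1' : ∃ v₀ ∈ E, ((T - 1) ^ (a - 1)) v₀ ≠ 0 := by
      by_contra hcon
      apply h1
      intro v hv
      by_contra hne
      exact hcon ⟨v, hv, hne⟩
    obtain ⟨v₀, hv₀, hv₀ne⟩ := h1'
    have h3 : ∃ w ∈ E, B (((T - 1) ^ (a - 1)) v₀) w ≠ 0 := by
      by_contra hcon
      apply hv₀ne
      apply hE _ (hNkE (a - 1) v₀ hv₀)
      intro w hw
      by_contra hne
      exact hcon ⟨w, hw, hne⟩
    obtain ⟨w, hw, hne⟩ := h3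
    refine ⟨w, hw, v₀, hv₀, ?_⟩
    intro h0
    apply hne
    rw [hsymm, h0, map_zero]
  -- some β v v ≠ 0
  have hex2 : ∃ v ∈ E, B v (((T - 1) ^ (a - 1)) v) ≠ 0 := by
    by_contra hcon
    have hcon' : ∀ v ∈ E, B v (((T - 1) ^ (a - 1)) v) = 0 := by
      intro v hv
      by_contra hne
      exact hcon ⟨v, hv, hne⟩
    have h3 := hsym u₀ hu₀ v₀ hv₀
    have key : ∀ c : F, c * B u₀ (((T - 1) ^ (a - 1)) v₀) +
        σ c * ((-1) ^ (a - 1) * σ (B u₀ (((T - 1) ^ (a - 1)) v₀))) = 0 := by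
      intro c
      have h1 := hcon' (u₀ + c • v₀) (E.add_mem hu₀ (E.smul_mem c hv₀))
      have e1 : B (u₀ + c • v₀) (((T - 1) ^ (a - 1)) (u₀ + c • v₀)) =
          B u₀ (((T - 1) ^ (a - 1)) u₀) + c * B u₀ (((T - 1) ^ (a - 1)) v₀) +
            σ c * B v₀ (((T - 1) ^ (a - 1)) u₀) + σ c * c * B v₀ (((T - 1) ^ (a - 1)) v₀) := by
        simp only [map_add, map_smul, LinearMap.add_apply, LinearMap.map_smulₛₗ,
          LinearMap.smul_apply, smul_eq_mul]
        ring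
      rw [e1, hcon' u₀ hu₀, hcon' v₀ hv₀, h3] at h1
      linear_combination h1
    have h4 := key 1
    rw [map_one, one_mul, one_mul] at h4
    apply hσne
    ext c
    have h5 := key c
    have h6 : (c - σ c) * B u₀ (((T - 1) ^ (a - 1)) v₀) = 0 := by
      linear_combination h5 - σ c * h4
    have h7 : c - σ c = 0 := (mul_eq_zero.mp h6).resolve_right hβ0
    rw [RingHom.id_apply]
    exact (sub_eq_zero.mp h7).symm
  obtain ⟨v, hv, hvne⟩ := hex2
  -- assemble
  have hNu : ∀ j : Fin 1, ((T - 1) ^ a) ((fun _ : Fin 1 => v) j) = 0 := fun j => hEa _ hv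
  obtain ⟨hli, hnd⟩ := und_blk B (T - 1) a v
    (fun i i' h => (hgram v v hv hv i i').1 h)
    (fun i i' h => (hgram v v hv hv i i').2 h) hvne
  have hJT := jt_blk (T - 1) a 1 (fun _ : Fin 1 => v) hNu hli
  have hinv := inv_blk (T - 1) a 1 (fun _ : Fin 1 => v) hNu
  refine ⟨_, a, ?_, ?_, hnd, ha0, hap, hJT⟩
  · rw [Submodule.span_le]
    rintro _ ⟨x, rfl⟩
    exact hNkE _ _ hv
  · rintro _ ⟨w, hw, rfl⟩
    have h1 := hinv w hw
    have h3 : T w = (T - 1) w + w := by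
      rw [LinearMap.sub_apply, Module.End.one_apply]
      abel
    rw [h3]
    exact Submodule.add_mem _ h1 hw

end geom2

end Cfsg.Agent.Helper86.TI5954
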