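import Cfsg.Agent.Helper84.FusionFocal
import Cfsg.Agent.Helper85.Factor

/-!
# Tools for computing hyperfocal subgroups

* `hyperfocal_le_of_forall_coprime`: reduction to automorphisms of order prime to `p`;
* `le_of_le_sup_commutator`: in a nilpotent group `S`, `R ≤ H [R, S]` with `H` normalized by `S` forces `R ≤ H`;
* `focalSubRel`, `le_focalSubRel`, `inv_mul_map_mem_of_stronglyClosed`: for `R` strongly closed in a saturated
  system, `x⁻¹ φ(x) ∈ hyp(F) [R, S]` for every map `φ` and every `x ∈ R` in its source.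
-/

set_option autoImplicit false

namespace Cfsg.Agent.Helper86

open Cfsg Cfsg.FusionSystem
open scoped commutatorElement

variable {Ω : Type*} [Group Ω] {S : Subgroup Ω}

/-- To bound the hyperfocal subgroup it suffices to consider the automorphisms of order prime to `p`. -/
theorem hyperfocal_le_of_forall_coprime (F : FusionSystem S) (p : ℕ) (K : Subgroup Ω)
    (h : ∀ (P : Subgroup Ω), P ≤ S → ∀ a : F.autGroup P, Nat.Coprime (orderOf a) p →
      ∀ x : P, (x : Ω)⁻¹ * ((a : MulAut P) x : P) ∈ K) : F.hyperfocalSubgroup p ≤ K := by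
  show Subgroup.closure _ ≤ _
  rw [Subgroup.closure_le]
  rintro y ⟨P, a, x, hPS, ha, rfl⟩
  suffices key : ∀ a : F.autGroup P, a ∈ pResidual p (F.autGroup P) →
      ∀ x : P, (x : Ω)⁻¹ * ((a : MulAut P) x : P) ∈ K from key a ha x
  intro a ha
  refine Subgroup.closure_induction (p := fun (a : F.autGroup P) _ =>
    ∀ x : P, (x : Ω)⁻¹ * ((a : MulAut P) x : P) ∈ K) ?_ ?_ ?_ ?_ ha
  · intro a hcop x
    exact h P hPS a hcop x
  · intro x
    have h1 : (x : Ω)⁻¹ * ((((1 : F.autGroup P) : MulAut P) x : P) : Ω) = 1 := by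
      show (x : Ω)⁻¹ * (x : Ω) = 1
      rw [inv_mul_cancel]
    rw [h1]
    exact Subgroup.one_mem _
  · intro a b _ _ iha ihb x
    have h1 : (x : Ω)⁻¹ * ((((a * b : F.autGroup P) : MulAut P) x : P) : Ω) =
        ((x : Ω)⁻¹ * (((b : MulAut P) x : P) : Ω)) *
          ((((b : MulAut P) x : P) : Ω)⁻¹ * (((a : MulAut P) ((b : MulAut P) x) : P) : Ω)) := by
      show (x : Ω)⁻¹ * (((a : MulAut P) ((b : MulAut P) x) : P) : Ω) = _
      group
    rw [h1]
    exact Subgroup.mul_mem _ (ihb x) (iha _)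
  · intro a _ iha x
    have h1 := iha (((a⁻¹ : F.autGroup P) : MulAut P) x)
    have h2 : (a : MulAut P) (((a⁻¹ : F.autGroup P) : MulAut P) x) = x := by
      rw [Subgroup.coe_inv]
      exact MulAut.apply_inv_self _ _ _
    rw [h2] at h1
    have h3 : (x : Ω)⁻¹ * ((((a⁻¹ : F.autGroup P) : MulAut P) x : P) : Ω) =
        (((((a⁻¹ : F.autGroup P) : MulAut P) x : P) : Ω)⁻¹ * (x : Ω))⁻¹ := by group
    rw [h3]
    exact Subgroup.inv_mem _ h1

/-- In a nilpotent subgroup `S`, if `R ≤ S` lies in `H [R, S]` with `H ≤ S` normalized by `S`, then `R ≤ H`. -/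
theorem le_of_le_sup_commutator {G : Type*} [Group G] (S H R : Subgroup G) [Group.IsNilpotent S]
    (hHS : H ≤ S) (hRS : R ≤ S) (hH : ∀ s ∈ S, ∀ h ∈ H, s * h * s⁻¹ ∈ H) (hR : R ≤ H ⊔ ⁅R, S⁆) : R ≤ H := by
  obtain ⟨n, hn⟩ := (Subgroup.isNilpotent_iff_lowerCentralSeries S).mp inferInstance
  have hSmap : ∀ s ∈ S, S.map (MulAut.conj s).toMonoidHom ≤ S := by
    rintro s hs _ ⟨x, hx, rfl⟩
    exact S.mul_mem (S.mul_mem hs hx) (S.inv_mem hs)
  have hmap : ∀ n, ∀ s ∈ S,
      (S.lowerCentralSeries n).map (MulAut.conj s).toMonoidHom ≤ S.lowerCentralSeries n := by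
    intro n
    induction n with
    | zero => exact hSmap
    | succ n ih =>
      intro s hs
      rw [Subgroup.lowerCentralSeries_succ, Subgroup.map_commutator]
      exact Subgroup.commutator_mono (ih s hs) (hSmap s hs)
  have hle : ∀ n, S.lowerCentralSeries n ≤ S := by
    intro n
    induction n with
    | zero => exact le_rfl
    | succ n ih =>
      rw [Subgroup.lowerCentralSeries_succ, Subgroup.commutator_le]
      intro a ha b hb
      rw [commutatorElement_def]
      exact S.mul_mem (S.mul_mem (S.mul_mem (ih ha) hb) (S.inv_mem (ih ha))) (S.inv_mem hb)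
  have key : ∀ n, R ≤ H ⊔ S.lowerCentralSeries n := by
    intro n
    induction n with
    | zero => exact hRS.trans le_sup_right
    | succ n ih =>
      have hA : ∀ s ∈ S, ∀ a ∈ H ⊔ S.lowerCentralSeries (n + 1),
          s * a * s⁻¹ ∈ H ⊔ S.lowerCentralSeries (n + 1) := by
        intro s hs a ha
        have h1 : (H ⊔ S.lowerCentralSeries (n + 1)).map (MulAut.conj s).toMonoidHom ≤
            H ⊔ S.lowerCentralSeries (n + 1) := by
          rw [Subgroup.map_sup]
          refine sup_le_sup ?_ (hmap (n + 1) s hs)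
          rintro _ ⟨x, hx, rfl⟩
          exact hH s hs x hx
        exact h1 ⟨a, ha, rfl⟩
      let T : Subgroup G :=
        { carrier := {r | r ∈ S ∧ ∀ s ∈ S, ⁅r, s⁆ ∈ H ⊔ S.lowerCentralSeries (n + 1)}
          one_mem' := ⟨S.one_mem, fun s _ => by
            rw [commutatorElement_def]
            simp⟩
          mul_mem' := by
            rintro r r' ⟨hr, hr2⟩ ⟨hr', hr2'⟩
            refine ⟨S.mul_mem hr hr', fun s hs => ?_⟩
            have e : ⁅r * r', s⁆ = (r * ⁅r', s⁆ * r⁻¹) * ⁅r, s⁆ := by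
              simp only [commutatorElement_def]; group
            rw [e]
            exact Subgroup.mul_mem _ (hA r hr _ (hr2' s hs)) (hr2 s hs)
          inv_mem' := by
            rintro r ⟨hr, hr2⟩
            refine ⟨S.inv_mem hr, fun s hs => ?_⟩
            have e : ⁅r⁻¹, s⁆ = r⁻¹ * (⁅r, s⁆)⁻¹ * r⁻¹⁻¹ := by
              simp only [commutatorElement_def]; group
            rw [e]
            exact hA r⁻¹ (S.inv_mem hr) _ (Subgroup.inv_mem _ (hr2 s hs)) }
      have hHT : H ≤ T := by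
        intro h hh
        refine ⟨hHS hh, fun s hs => Subgroup.mem_sup_left ?_⟩
        have e : ⁅h, s⁆ = h * (s * h⁻¹ * s⁻¹) := by
          simp only [commutatorElement_def]; group
        rw [e]
        exact H.mul_mem hh (hH s hs _ (H.inv_mem hh))
      have hLT : S.lowerCentralSeries n ≤ T := by
        intro l hl
        refine ⟨hle n hl, fun s hs => Subgroup.mem_sup_right ?_⟩
        rw [Subgroup.lowerCentralSeries_succ]
        exact Subgroup.commutator_mem_commutator hl hs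
      have hRT : R ≤ T := ih.trans (sup_le hHT hLT)
      have hc : ⁅R, S⁆ ≤ H ⊔ S.lowerCentralSeries (n + 1) :=
        Subgroup.commutator_le.mpr (fun r hr s hs => (hRT hr).2 s hs)
      exact hR.trans (sup_le le_sup_left hc)
  have h1 := key n
  rw [hn, sup_bot_eq] at h1
  exact h1

/-- The subsystem of the maps `φ` with `x⁻¹ φ(x) ∈ M` for all `x` of the source lying in the strongly closed
subgroup `R`, for a subgroup `M ≥ [R, S]`. -/
def focalSubRel (F : FusionSystem S) (R M : Subgroup Ω) (hR : F.StronglyClosed R) (hM : ⁅R, S⁆ ≤ M) :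
    FusionSystem S where
  Hom P := {φ | φ ∈ F.Hom P ∧ ∀ x : P, (x : Ω) ∈ R → (x : Ω)⁻¹ * φ x ∈ M}
  le_of_mem h := F.le_of_mem h.1
  injective_of_mem h := F.injective_of_mem h.1
  conj_mem := by
    intro P g hP hg
    refine ⟨F.conj_mem hP hg, fun x hx => hM ?_⟩
    have : (x : Ω)⁻¹ * conjHom P g x = ⁅(x : Ω)⁻¹, g⁆ := by
      rw [Helper84.conjHom_apply, commutatorElement_def]; simp [mul_assoc]
    rw [this]
    exact Subgroup.commutator_mem_commutator (R.inv_mem hx) hg
  comp_mem := by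
    rintro P Q φ ψ ⟨hφ, hφN⟩ ⟨hψ, hψN⟩ h
    refine ⟨F.comp_mem hφ hψ h, fun x hx => ?_⟩
    have e : (x : Ω)⁻¹ * (ψ.comp (φ.codRestrict Q h)) x =
        ((x : Ω)⁻¹ * φ x) * ((φ x)⁻¹ * ψ ⟨φ x, h x⟩) := by
      simp [mul_assoc]
    rw [e]
    exact M.mul_mem (hφN x hx) (hψN ⟨φ x, h x⟩ (Helper85.stronglyClosed_map_mem hR hφ x hx))
  inv_mem := by
    rintro P φ ⟨hφ, hφN⟩
    obtain ⟨ψ, hψ, hψ'⟩ := F.inv_mem hφ
    refine ⟨ψ, ⟨hψ, ?_⟩, hψ'⟩
    rintro ⟨_, x, rfl⟩ hx
    have e : (φ x)⁻¹ * ψ ⟨φ x, ⟨x, rfl⟩⟩ = ((x : Ω)⁻¹ * φ x)⁻¹ := by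
      rw [hψ']; simp
    show (φ x)⁻¹ * ψ ⟨φ x, _⟩ ∈ M
    rw [e]
    exact M.inv_mem (hφN x (Helper85.stronglyClosed_mem_of_map_mem hR hφ x hx))

/-- For `R` strongly closed in a saturated system, every map is in `focalSubRel F R (hyp(F) [R, S])`. -/
theorem le_focalSubRel [Finite S] (p : ℕ) [Fact p.Prime] (hS : IsPGroup p S) (F : FusionSystem S)
    (hF : F.IsSaturated p) (R : Subgroup Ω) (hR : F.StronglyClosed R) :
    F ≤ focalSubRel F R (F.hyperfocalSubgroup p ⊔ ⁅R, S⁆) hR le_sup_right := by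
  apply Helper84.alperin p hS F hF
  intro P hP α hα
  have hfn : F.IsFullyNormalized P := by
    rcases hP with rfl | hess
    · exact Helper84.fullyNormalized_self F
    · exact hess.2.1
  have hPS : P ≤ S := hfn.1
  have hfP : Finite P := Helper84.finite_of_le hPS
  obtain ⟨ha, -⟩ := Helper84.saturated_fullyNormalized hS F hF hfn
  obtain ⟨Syl, hSyl⟩ := ha.2
  rw [Helper84.mem_autGroup_iff _ hPS]
  refine ⟨Helper84.autGroup_hom F hPS hα, fun x hx => ?_⟩
  obtain ⟨b, hb, r, hr, hbr⟩ := Helper84.exists_mul_pResidual_sylow Syl ⟨α, hα⟩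
  rw [hSyl] at hr
  obtain ⟨s, hsS, hs, hrs⟩ := (Helper84.mem_autInducedBy_iff_conjAut S P _).mp hr
  have hα_eq : α = (b : MulAut P) * (r : MulAut P) := congrArg Subtype.val hbr
  have hrs' : (r : MulAut P) = Helper84.conjAut P s hs := hrs
  have e : (x : Ω)⁻¹ * (P.subtype.comp α.toMonoidHom) x =
      ((x : Ω)⁻¹ * ((Helper84.conjAut P s hs x : P) : Ω)) *
        (((Helper84.conjAut P s hs x : P) : Ω)⁻¹ *
          (((b : MulAut P) (Helper84.conjAut P s hs x) : P) : Ω)) := by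
    rw [hα_eq, hrs']
    simp [mul_assoc]
  rw [e]
  refine Subgroup.mul_mem _ (le_sup_right (a := F.hyperfocalSubgroup p) ?_)
    (le_sup_left (b := ⁅R, S⁆) ?_)
  · have : (x : Ω)⁻¹ * ((Helper84.conjAut P s hs x : P) : Ω) = ⁅(x : Ω)⁻¹, s⁆ := by
      rw [Helper84.conjAut_apply, commutatorElement_def]; simp [mul_assoc]
    rw [this]
    exact Subgroup.commutator_mem_commutator (R.inv_mem hx) hsS
  · exact Subgroup.subset_closure ⟨P, b, Helper84.conjAut P s hs x, hPS, hb, rfl⟩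

theorem inv_mul_map_mem_of_stronglyClosed [Finite S] (p : ℕ) [Fact p.Prime] (hS : IsPGroup p S)
    (F : FusionSystem S) (hF : F.IsSaturated p) (R : Subgroup Ω) (hR : F.StronglyClosed R)
    {P : Subgroup Ω} {φ : P →* Ω} (hφ : φ ∈ F.Hom P) (x : P) (hx : (x : Ω) ∈ R) :
    (x : Ω)⁻¹ * φ x ∈ F.hyperfocalSubgroup p ⊔ ⁅R, S⁆ :=
  (le_focalSubRel p hS F hF R hR P hφ).2 x hx

end Cfsg.Agent.Helper86
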