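import Cfsg.Agent.Helper86.PGroupAux

/-!
# Invariant homomorphisms on normal subgroups of `p`-groups (helper86)

Mathlib-only. In a finite `p`-group `G` with normal subgroups `U < T` there is a `G`-invariant function on `G`
with values in the group of order `p` that is multiplicative on `T`, trivial on `U` and nontrivial on `T`.
-/

set_option autoImplicit false

namespace Cfsg.Agent.Helper86

open MulAction

theorem zmod_pow_eq_one (p : ℕ) [Fact p.Prime] (a : Multiplicative (ZMod p)) : a ^ p = 1 := by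
  have hcard : Nat.card (Multiplicative (ZMod p)) = p := by simp
  have h := pow_card_eq_one' (G := Multiplicative (ZMod p)) (x := a)
  rw [hcard] at h
  exact h

theorem exists_invariant_hom {G : Type*} [Group G] [Finite G] {p : ℕ} [Fact p.Prime] (hG : IsPGroup p G)
    (T U : Subgroup G) [hT : T.Normal] [hU : U.Normal] (hUT : U ≤ T) (hne : U ≠ T) :
    ∃ ν : G → Multiplicative (ZMod p), (∀ t t', t ∈ T → t' ∈ T → ν (t * t') = ν t * ν t') ∧
      (∀ g t, ν (g * t * g⁻¹) = ν t) ∧ (∀ u ∈ U, ν u = 1) ∧ ∃ t ∈ T, ν t ≠ 1 := by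
  classical
  have hUT' : U.subgroupOf T ≠ ⊤ := by
    intro h
    apply hne
    exact le_antisymm hUT (Subgroup.subgroupOf_eq_top.1 h)
  obtain ⟨M, hM, hUM⟩ := (eq_top_or_exists_le_coatom (U.subgroupOf T)).resolve_left hUT'
  obtain ⟨ν₀, hν₀⟩ := exists_hom_ker_eq_of_isCoatom (hG.to_subgroup T) M hM
  let 𝓗 : Subgroup (↥T →* Multiplicative (ZMod p)) :=
    { carrier := {ν | ∀ u : ↥T, (u : G) ∈ U → ν u = 1}
      mul_mem' := by
        intro a b ha hb u hu
        rw [MonoidHom.mul_apply, ha u hu, hb u hu, mul_one]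
      one_mem' := by
        intro u _
        rfl
      inv_mem' := by
        intro a ha u hu
        rw [MonoidHom.inv_apply, ha u hu, inv_one] }
  have hfin : Finite (↥T →* Multiplicative (ZMod p)) :=
    Finite.of_injective (fun ν => (ν : ↥T → Multiplicative (ZMod p))) DFunLike.coe_injective
  let act : MulAction G 𝓗 :=
    { smul := fun s ν => ⟨ν.1.comp (MulAut.conjNormal s⁻¹ : MulAut ↥T).toMonoidHom, by
        intro u hu
        show ν.1 (MulAut.conjNormal s⁻¹ u) = 1
        apply ν.2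
        rw [MulAut.conjNormal_apply]
        exact hU.conj_mem _ hu _⟩
      one_smul := by
        intro ν
        apply Subtype.ext
        apply MonoidHom.ext
        intro u
        show ν.1 (MulAut.conjNormal (1 : G)⁻¹ u) = ν.1 u
        rw [inv_one, map_one]
        rfl
      mul_smul := by
        intro s s' ν
        apply Subtype.ext
        apply MonoidHom.ext
        intro u
        show ν.1 (MulAut.conjNormal (s * s')⁻¹ u) =
          ν.1 (MulAut.conjNormal s'⁻¹ (MulAut.conjNormal s⁻¹ u))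
        rw [mul_inv_rev, map_mul]
        rfl }
  have hsmul : ∀ (s : G) (ν : 𝓗) (u : ↥T), (s • ν).1 u = ν.1 (MulAut.conjNormal s⁻¹ u) :=
    fun _ _ _ => rfl
  have h𝓗 : IsPGroup p 𝓗 := by
    intro ν
    refine ⟨1, ?_⟩
    apply Subtype.ext
    apply MonoidHom.ext
    intro u
    show (ν.1 ^ p ^ 1) u = 1
    rw [pow_one, MonoidHom.pow_apply]
    exact zmod_pow_eq_one p _
  have hν₀mem : ν₀ ∈ 𝓗 := by
    intro u hu
    have : u ∈ ν₀.ker := by
      rw [hν₀]
      exact hUM (Subgroup.mem_subgroupOf.2 hu)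
    exact this
  have hν₀ne : ν₀ ≠ 1 := by
    intro h
    apply hM.1
    rw [← hν₀, h]
    exact MonoidHom.ker_one
  have hdvd : p ∣ Nat.card 𝓗 := by
    refine h𝓗.card_eq_or_dvd.resolve_left ?_
    intro h1
    have hsub : Subsingleton 𝓗 := (Nat.card_eq_one_iff_unique.1 h1).1
    have : (⟨ν₀, hν₀mem⟩ : 𝓗) = 1 := Subsingleton.elim _ _
    exact hν₀ne (congrArg Subtype.val this)
  have hfix1 : (1 : 𝓗) ∈ fixedPoints G 𝓗 := by
    intro s
    apply Subtype.ext
    apply MonoidHom.ext
    intro u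
    rfl
  obtain ⟨b, hb, hb1⟩ := hG.exists_fixed_point_of_prime_dvd_card_of_fixed_point 𝓗 hdvd hfix1
  have hbinv : ∀ (g : G) (u : ↥T), b.1 (MulAut.conjNormal g u) = b.1 u := by
    intro g u
    have h1 := congrArg (fun ν : 𝓗 => ν.1 u) (hb g⁻¹)
    simp only [hsmul, inv_inv] at h1
    exact h1
  let ν : G → Multiplicative (ZMod p) := fun g => if h : g ∈ T then b.1 ⟨g, h⟩ else 1
  have hν_pos : ∀ g (h : g ∈ T), ν g = b.1 ⟨g, h⟩ := fun g h => dif_pos h
  have hν_neg : ∀ g, g ∉ T → ν g = 1 := fun g h => dif_neg h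
  refine ⟨ν, ?_, ?_, ?_, ?_⟩
  · intro t t' ht ht'
    rw [hν_pos _ (T.mul_mem ht ht'), hν_pos _ ht, hν_pos _ ht']
    exact map_mul b.1 ⟨t, ht⟩ ⟨t', ht'⟩
  · intro g t
    by_cases ht : t ∈ T
    · rw [hν_pos _ (hT.conj_mem t ht g), hν_pos _ ht]
      have h2 := hbinv g ⟨t, ht⟩
      rw [← h2]
      congr 1
    · have h3 : g * t * g⁻¹ ∉ T := by
        intro h
        apply ht
        have h4 := hT.conj_mem _ h g⁻¹
        have h5 : g⁻¹ * (g * t * g⁻¹) * g⁻¹⁻¹ = t := by group
        rw [h5] at h4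
        exact h4
      rw [hν_neg _ h3, hν_neg _ ht]
  · intro u hu
    rw [hν_pos _ (hUT hu)]
    exact b.2 ⟨u, hUT hu⟩ hu
  · by_contra hcon
    apply hb1
    apply Subtype.ext
    apply MonoidHom.ext
    intro u
    by_contra hu
    apply hcon
    refine ⟨u.1, u.2, ?_⟩
    rw [hν_pos _ u.2]
    intro h
    apply hu
    show (1 : Multiplicative (ZMod p)) = b.1 u
    exact h.symm

end Cfsg.Agent.Helper86
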