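import Cfsg.Agent.Helper86.FusTransfer
import Cfsg.Agent.Helper86.InvHom
import Cfsg.Agent.Helper86.Hyperfocal
import Cfsg.Agent.Helper87.Frattini
import Cfsg.Agent.S5124

/-!
# Tate's theorem for saturated fusion systems: the core (helper86)

* `inner_mod_hyperfocal`: every map of a saturated fusion system is a conjugation by an element of `S` modulo
  the hyperfocal subgroup;
* `hyperfocal_le_of_le_frattini_sup`: if `U ≤ hyp(F)` is normalized by `S` and `hyp(F) ≤ Φ(S) [S,S] U`, then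
  `hyp(F) = U`;
* `inv_mul_mem_frattini`: if `Aut_F(S)` is induced by `S` and `Φ(S)` is strongly closed, then every map of the
  system is the identity modulo `Φ(S)`.
-/

set_option autoImplicit false

namespace Cfsg.Agent.Helper86

open Cfsg Cfsg.FusionSystem Cfsg.Agent.Helper87 MulAction
open scoped commutatorElement

universe u

variable {Ω : Type u} [Group Ω] {S : Subgroup Ω}

/-- Every map of a saturated fusion system is conjugation by an element of `S` modulo the hyperfocal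
subgroup. -/
theorem inner_mod_hyperfocal [Finite S] {p : ℕ} [Fact p.Prime] (hS : IsPGroup p S) (F : FusionSystem S)
    (hF : F.IsSaturated p) :
    ∀ (P : Subgroup Ω) (φ : P →* Ω), φ ∈ F.Hom P →
      ∃ s ∈ S, ∀ x : P, (s * x * s⁻¹)⁻¹ * φ x ∈ F.hyperfocalSubgroup p := by
  have hT : F.StronglyClosed (F.hyperfocalSubgroup p) := Cfsg.Agent.S5124.result p hS F hF
  have hTn : ∀ s ∈ S, ∀ t ∈ F.hyperfocalSubgroup p, s * t * s⁻¹ ∈ F.hyperfocalSubgroup p :=
    fun s hs t ht => hT.2 _ le_rfl (conjHom _ s) (F.conj_mem hT.1 hs) ⟨t, ht⟩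
  refine alperin_induction hS F hF
    (fun P φ => ∃ s ∈ S, ∀ x : P, (s * x * s⁻¹)⁻¹ * φ x ∈ F.hyperfocalSubgroup p) ?_ ?_ ?_ ?_
  · rintro P Q hQP φ θ hφ hθ ⟨s, hs, h⟩
    exact ⟨s, hs, fun x => by rw [hθ]; exact h ⟨x, hQP x.2⟩⟩
  · rintro P Q φ ψ θ hφ hψ hPQ hθ ⟨s, hs, h⟩ ⟨t, ht, h'⟩
    refine ⟨t * s, S.mul_mem ht hs, fun x => ?_⟩
    rw [hθ]
    have e : (t * s * (x : Ω) * (t * s)⁻¹)⁻¹ * ψ ⟨φ x, hPQ x⟩ =
        (t * ((s * (x : Ω) * s⁻¹)⁻¹ * φ x) * t⁻¹) * ((t * φ x * t⁻¹)⁻¹ * ψ ⟨φ x, hPQ x⟩) := by group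
    rw [e]
    exact Subgroup.mul_mem _ (hTn t ht _ (h x)) (h' ⟨φ x, hPQ x⟩)
  · rintro P Q φ ψ hφ hψ hr hPQ hψφ ⟨s, hs, h⟩
    refine ⟨s⁻¹, S.inv_mem hs, fun y => ?_⟩
    have hy : (y : Ω) ∈ φ.range := by rw [hr]; exact y.2
    obtain ⟨x, hx⟩ := hy
    have h1 := hψφ x
    have h2 : (⟨φ x, hPQ x⟩ : Q) = y := Subtype.ext hx
    rw [h2] at h1
    rw [h1, ← hx]
    have e : (s⁻¹ * φ x * s⁻¹⁻¹)⁻¹ * (x : Ω) = s⁻¹ * ((s * (x : Ω) * s⁻¹)⁻¹ * φ x)⁻¹ * s⁻¹⁻¹ := by group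
    rw [e]
    exact hTn s⁻¹ (S.inv_mem hs) _ (Subgroup.inv_mem _ (h x))
  · intro R hfa hrec _ α hα
    obtain ⟨hRS, R₀, hR₀⟩ := hfa
    have hRfin : Finite R := finite_of_le hRS
    obtain ⟨b, hb, r, hr, hαbr⟩ := Helper84.exists_mul_pResidual_sylow R₀ (⟨α, hα⟩ : F.autGroup R)
    have hr' : (r : MulAut R) ∈ autInducedBy S R := by
      have : r ∈ (autInducedBy S R).subgroupOf (F.autGroup R) := by rw [← hR₀]; exact hr
      exact Subgroup.mem_subgroupOf.1 this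
    obtain ⟨s, hs, hs'⟩ := (mem_autInducedBy_iff S R _).1 hr'
    refine ⟨s, hs, fun x => ?_⟩
    have h1 : α = (b : MulAut R) * (r : MulAut R) := congrArg Subtype.val hαbr
    have h2 : (R.subtype.comp α.toMonoidHom) x = (((b : MulAut R) ((r : MulAut R) x) : R) : Ω) := by
      rw [h1]
      rfl
    rw [h2, ← hs' x]
    exact Subgroup.subset_closure ⟨R, b, (r : MulAut R) x, hRS, hb, rfl⟩

theorem commutator_le_frattini {G : Type*} [Group G] [Finite G] {p : ℕ} [Fact p.Prime]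
    (hG : IsPGroup p G) : commutator G ≤ frattini G := by
  show commutator G ≤ Order.radical (Subgroup G)
  unfold Order.radical
  refine le_iInf₂ (fun M hM => ?_)
  obtain ⟨ν, hν⟩ := exists_hom_ker_eq_of_isCoatom hG M hM
  rw [← hν]
  exact Abelianization.commutator_subset_ker ν

/-- **Core of Tate's theorem.** If `U ≤ hyp(F)` is normalized by `S` and `hyp(F) ≤ Φ(S) [S, S] U`, then
`hyp(F) ≤ U`. -/
theorem hyperfocal_le_of_le_frattini_sup [Finite S] {p : ℕ} [Fact p.Prime] (hS : IsPGroup p S)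
    (F : FusionSystem S) (hF : F.IsSaturated p) (U : Subgroup Ω)
    (hUn : ∀ s ∈ S, ∀ u ∈ U, s * u * s⁻¹ ∈ U) (hUT : U ≤ F.hyperfocalSubgroup p)
    (hle : F.hyperfocalSubgroup p ≤ (frattini ↥S).map S.subtype ⊔ ⁅S, S⁆ ⊔ U) :
    F.hyperfocalSubgroup p ≤ U := by
  by_contra hnot
  have hT : F.StronglyClosed (F.hyperfocalSubgroup p) := Cfsg.Agent.S5124.result p hS F hF
  have hTS : F.hyperfocalSubgroup p ≤ S := hT.1
  have hTn' : ((F.hyperfocalSubgroup p).subgroupOf S).Normal := stronglyClosed_subgroupOf_normal F hT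
  have hUn' : (U.subgroupOf S).Normal := by
    refine ⟨fun n hn g => ?_⟩
    rw [Subgroup.mem_subgroupOf] at hn ⊢
    exact hUn g g.2 n hn
  have hU'T' : U.subgroupOf S ≤ (F.hyperfocalSubgroup p).subgroupOf S := fun x hx =>
    Subgroup.mem_subgroupOf.2 (hUT (Subgroup.mem_subgroupOf.1 hx))
  have hne : U.subgroupOf S ≠ (F.hyperfocalSubgroup p).subgroupOf S := by
    intro h
    apply hnot
    intro t ht
    have h1 : (⟨t, hTS ht⟩ : ↥S) ∈ (F.hyperfocalSubgroup p).subgroupOf S := Subgroup.mem_subgroupOf.2 ht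
    rw [← h] at h1
    exact Subgroup.mem_subgroupOf.1 h1
  obtain ⟨ν, hν1, hν2, hνU, t₀, ht₀, hνt₀⟩ :=
    exists_invariant_hom hS ((F.hyperfocalSubgroup p).subgroupOf S) (U.subgroupOf S) hU'T' hne
  obtain ⟨ε, hε⟩ := exists_stable_hom hS F hF (F.hyperfocalSubgroup p) hT (inner_mod_hyperfocal hS F hF)
    (zmod_pow_eq_one p) ν hν1 hν2
  -- the subgroup of `T` on which `ν · ε` is trivial
  let K' : Subgroup ↥S :=
    { carrier := {t | t ∈ (F.hyperfocalSubgroup p).subgroupOf S ∧ ν t * ε t = 1}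
      mul_mem' := by
        rintro a b ⟨ha, ha'⟩ ⟨hb, hb'⟩
        refine ⟨Subgroup.mul_mem _ ha hb, ?_⟩
        rw [hν1 a b ha hb, map_mul, mul_mul_mul_comm, ha', hb', mul_one]
      one_mem' := ⟨Subgroup.one_mem _, by rw [nu_one hν1, map_one, mul_one]⟩
      inv_mem' := by
        rintro a ⟨ha, ha'⟩
        refine ⟨Subgroup.inv_mem _ ha, ?_⟩
        rw [nu_inv hν1 ha, map_inv, ← mul_inv, ha', inv_one] }
  have hK : F.hyperfocalSubgroup p ≤ K'.map S.subtype := by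
    refine hyperfocal_le_of_forall_coprime F p _ (fun P hPS a hcop x => ?_)
    have hares : a ∈ pResidual p (F.autGroup P) := Subgroup.subset_closure hcop
    have hres : ∀ k : ℕ, a ^ k ∈ pResidual p (F.autGroup P) := fun k =>
      Subgroup.pow_mem _ hares k
    have gen : ∀ (k : ℕ) (w : P),
        (w : Ω)⁻¹ * ((((a ^ k : F.autGroup P) : MulAut P) w : P) : Ω) ∈ F.hyperfocalSubgroup p :=
      fun k w => Subgroup.subset_closure ⟨P, a ^ k, w, hPS, hres k, rfl⟩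
    have hφk : ∀ k : ℕ, P.subtype.comp ((a ^ k : F.autGroup P) : MulAut P).toMonoidHom ∈ F.Hom P :=
      fun k => (mem_autGroup_iff F hPS _).1 (a ^ k).2
    -- the element c = x⁻¹ a(x)
    have hc : ((x⁻¹ * (a : MulAut P) x : P) : Ω) ∈ F.hyperfocalSubgroup p := by
      have := gen 1 x
      rw [pow_one] at this
      exact this
    have key : ∀ k : ℕ,
        ν ⟨(x : Ω)⁻¹ * ((((a ^ k : F.autGroup P) : MulAut P) x : P) : Ω), hTS (gen k x)⟩ *
          ε ⟨(x : Ω)⁻¹ * ((((a ^ k : F.autGroup P) : MulAut P) x : P) : Ω), hTS (gen k x)⟩ =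
        (ν ⟨((x⁻¹ * (a : MulAut P) x : P) : Ω), hTS hc⟩ *
          ε ⟨((x⁻¹ * (a : MulAut P) x : P) : Ω), hTS hc⟩) ^ k := by
      intro k
      induction k with
      | zero =>
        have h0 : (⟨(x : Ω)⁻¹ * ((((a ^ 0 : F.autGroup P) : MulAut P) x : P) : Ω), hTS (gen 0 x)⟩ : ↥S) = 1 := by
          apply Subtype.ext
          show (x : Ω)⁻¹ * ((((a ^ 0 : F.autGroup P) : MulAut P) x : P) : Ω) = 1
          rw [pow_zero]
          show (x : Ω)⁻¹ * (x : Ω) = 1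
          rw [inv_mul_cancel]
        rw [h0, nu_one hν1, map_one, mul_one, pow_zero]
      | succ k ih =>
        -- the element a^k(c)
        have hak : (P.subtype.comp ((a ^ k : F.autGroup P) : MulAut P).toMonoidHom)
            (x⁻¹ * (a : MulAut P) x) ∈ F.hyperfocalSubgroup p :=
          stronglyClosed_apply_mem F hT (hφk k) _ hc
        have hsplit : (⟨(x : Ω)⁻¹ * ((((a ^ (k + 1) : F.autGroup P) : MulAut P) x : P) : Ω),
            hTS (gen (k + 1) x)⟩ : ↥S) =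
            ⟨(x : Ω)⁻¹ * ((((a ^ k : F.autGroup P) : MulAut P) x : P) : Ω), hTS (gen k x)⟩ *
            ⟨(P.subtype.comp ((a ^ k : F.autGroup P) : MulAut P).toMonoidHom)
              (x⁻¹ * (a : MulAut P) x), hTS hak⟩ := by
          apply Subtype.ext
          show (x : Ω)⁻¹ * ((((a ^ (k + 1) : F.autGroup P) : MulAut P) x : P) : Ω) =
            (x : Ω)⁻¹ * ((((a ^ k : F.autGroup P) : MulAut P) x : P) : Ω) *
              ((((a ^ k : F.autGroup P) : MulAut P) (x⁻¹ * (a : MulAut P) x) : P) : Ω)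
          rw [map_mul, map_inv, pow_succ]
          show _ = (x : Ω)⁻¹ * ((((a ^ k : F.autGroup P) : MulAut P) x : P) : Ω) *
              (((((a ^ k : F.autGroup P) : MulAut P) x : P) : Ω)⁻¹ *
                ((((a ^ k : F.autGroup P) : MulAut P) ((a : MulAut P) x) : P) : Ω))
          rw [mul_assoc, mul_inv_cancel_left]
          rfl
        rw [hsplit, hν1 _ _ (Subgroup.mem_subgroupOf.2 (gen k x)) (Subgroup.mem_subgroupOf.2 hak),
          map_mul ε, mul_mul_mul_comm, ih, hε P _ (hφk k) (x⁻¹ * (a : MulAut P) x) hc, pow_succ]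
    -- conclude with the order of `a`
    have hn : (ν ⟨((x⁻¹ * (a : MulAut P) x : P) : Ω), hTS hc⟩ *
        ε ⟨((x⁻¹ * (a : MulAut P) x : P) : Ω), hTS hc⟩) ^ orderOf a = 1 := by
      rw [← key (orderOf a)]
      have h0 : (⟨(x : Ω)⁻¹ * ((((a ^ orderOf a : F.autGroup P) : MulAut P) x : P) : Ω),
          hTS (gen (orderOf a) x)⟩ : ↥S) = 1 := by
        apply Subtype.ext
        show (x : Ω)⁻¹ * ((((a ^ orderOf a : F.autGroup P) : MulAut P) x : P) : Ω) = 1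
        rw [pow_orderOf_eq_one]
        show (x : Ω)⁻¹ * (x : Ω) = 1
        rw [inv_mul_cancel]
      rw [h0, nu_one hν1, map_one, mul_one]
    have hp : (ν ⟨((x⁻¹ * (a : MulAut P) x : P) : Ω), hTS hc⟩ *
        ε ⟨((x⁻¹ * (a : MulAut P) x : P) : Ω), hTS hc⟩) ^ p = 1 := zmod_pow_eq_one p _
    have h1 := pow_gcd_eq_one.2 ⟨hn, hp⟩
    rw [Nat.Coprime] at hcop
    rw [hcop, pow_one] at h1
    exact ⟨⟨((x⁻¹ * (a : MulAut P) x : P) : Ω), hTS hc⟩, ⟨Subgroup.mem_subgroupOf.2 hc, h1⟩, rfl⟩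
  have hη : ∀ t : ↥S, t ∈ (F.hyperfocalSubgroup p).subgroupOf S → ν t * ε t = 1 := by
    intro t ht
    obtain ⟨t₁, ht₁, h⟩ := hK (Subgroup.mem_subgroupOf.1 ht)
    have : t₁ = t := Subtype.ext h
    rw [← this]
    exact ht₁.2
  -- `ε` is trivial on `Φ(S) [S, S] U`
  have hE1 : (frattini ↥S).map S.subtype ≤ ε.ker.map S.subtype := Subgroup.map_mono (frattini_le_ker ε)
  have hE2 : ⁅S, S⁆ ≤ ε.ker.map S.subtype := by
    rw [Subgroup.commutator_le]
    intro g₁ hg₁ g₂ hg₂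
    refine ⟨⁅(⟨g₁, hg₁⟩ : ↥S), ⟨g₂, hg₂⟩⁆, ?_, rfl⟩
    apply Abelianization.commutator_subset_ker ε
    rw [commutator_def]
    exact Subgroup.commutator_mem_commutator (Subgroup.mem_top _) (Subgroup.mem_top _)
  have hE3 : U ≤ ε.ker.map S.subtype := by
    intro u hu
    have huS : u ∈ S := hTS (hUT hu)
    refine ⟨⟨u, huS⟩, ?_, rfl⟩
    rw [SetLike.mem_coe, MonoidHom.mem_ker]
    have h1 := hη ⟨u, huS⟩ (Subgroup.mem_subgroupOf.2 (hUT hu))
    rw [hνU ⟨u, huS⟩ (Subgroup.mem_subgroupOf.2 hu), one_mul] at h1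
    exact h1
  have hTE : F.hyperfocalSubgroup p ≤ ε.ker.map S.subtype := hle.trans (sup_le (sup_le hE1 hE2) hE3)
  obtain ⟨t₁, ht₁, h⟩ := hTE (Subgroup.mem_subgroupOf.1 ht₀)
  have ht₁' : t₁ = t₀ := Subtype.ext h
  rw [ht₁'] at ht₁
  have h2 := hη t₀ ht₀
  rw [MonoidHom.mem_ker.1 ht₁, mul_one] at h2
  exact hνt₀ h2

end Cfsg.Agent.Helper86
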