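import Cfsg.Agent.Helper86.FixCount

/-!
# A transfer map attached to a family of graphs (helper86)

Mathlib-only. For a finite `p`-group `G`, a normal subgroup `T`, a `G`-invariant function `ν` on `G` that is
multiplicative on `T` with values in a commutative group of exponent `p`, and a finite family of homomorphisms
`f i : H i →* G` from subgroups of `G`, the "twisted transfer" `y ↦ ν(y)^m · ∏ transfer(z i)(y)^(mult i)` takes
the same value on two elements `y, y'` of `T` as soon as the cyclic subgroups `⟨(y^k, g)⟩` and `⟨(y'^k, g)⟩`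
of `G × G` have the same weighted numbers of fixed points on the coset spaces of the graphs of the `f i`.
-/

set_option autoImplicit false

namespace Cfsg.Agent.Helper86

open MulAction Subgroup

section Gr

variable {G : Type*} [Group G]

/-- The graph of a homomorphism from a subgroup, as a subgroup of `G × G`. -/
def gr (H : Subgroup G) (f : H →* G) : Subgroup (G × G) where
  carrier := {x | ∃ h : x.1 ∈ H, f ⟨x.1, h⟩ = x.2}
  mul_mem' := by
    rintro x y ⟨hx, hx'⟩ ⟨hy, hy'⟩
    refine ⟨H.mul_mem hx hy, ?_⟩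
    have : (⟨(x * y).1, H.mul_mem hx hy⟩ : H) = ⟨x.1, hx⟩ * ⟨y.1, hy⟩ := rfl
    rw [this, map_mul, hx', hy']; rfl
  one_mem' := ⟨H.one_mem, by
    have : (⟨(1 : G × G).1, H.one_mem⟩ : H) = 1 := rfl
    rw [this, map_one]; rfl⟩
  inv_mem' := by
    rintro x ⟨hx, hx'⟩
    refine ⟨H.inv_mem hx, ?_⟩
    have : (⟨(x⁻¹).1, H.inv_mem hx⟩ : H) = (⟨x.1, hx⟩ : H)⁻¹ := rfl
    rw [this, map_inv, hx']; rfl

theorem mem_gr {H : Subgroup G} {f : H →* G} {x : G × G} :
    x ∈ gr H f ↔ ∃ h : x.1 ∈ H, f ⟨x.1, h⟩ = x.2 := Iff.rfl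

theorem card_gr (H : Subgroup G) (f : H →* G) : Nat.card (gr H f) = Nat.card H := by
  apply Nat.card_congr
  refine ⟨fun x => ⟨x.1.1, x.2.choose⟩, fun a => ⟨(a, f a), ⟨a.2, rfl⟩⟩, ?_, ?_⟩
  · rintro ⟨x, hx, hx'⟩
    apply Subtype.ext
    apply Prod.ext
    · rfl
    · exact hx'
  · intro a
    rfl

/-- Fixed points of a cyclic subgroup of `G × G` on the coset space of a graph. -/
theorem card_mul_fix_zpowers (H : Subgroup G) (f : H →* G) (u g : G) :
    Nat.card H * Nat.card (fixedPoints (zpowers ((u, g) : G × G)) ((G × G) ⧸ gr H f)) =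
      Nat.card {x : G × G // ∃ h : x.1⁻¹ * u * x.1 ∈ H, f ⟨x.1⁻¹ * u * x.1, h⟩ = x.2⁻¹ * g * x.2} := by
  rw [← card_gr H f, card_fixedPoints_quotient]
  apply Nat.card_congr
  refine Equiv.subtypeEquivRight (fun x => ?_)
  constructor
  · intro h
    exact h (u, g) (mem_zpowers _)
  · intro h d hd
    obtain ⟨k, rfl⟩ := mem_zpowers_iff.1 hd
    have h1 := map_zpow (MulAut.conj x⁻¹) ((u, g) : G × G) k
    simp only [MulAut.conj_apply, inv_inv] at h1
    rw [h1]
    exact zpow_mem h k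

end Gr

section Orbit

variable {G : Type*} [Group G] {A : Type*} [CommGroup A]

/-- `ν ∘ f`, extended by `1` outside `H`. -/
noncomputable def muFun (ν : G → A) (H : Subgroup G) (f : H →* G) (g : G) : A :=
  open Classical in if h : g ∈ H then ν (f ⟨g, h⟩) else 1

theorem muFun_of_mem (ν : G → A) {H : Subgroup G} (f : H →* G) {g : G} (h : g ∈ H) :
    muFun ν H f g = ν (f ⟨g, h⟩) := by
  unfold muFun
  rw [dif_pos h]

theorem muFun_of_not_mem (ν : G → A) {H : Subgroup G} (f : H →* G) {g : G} (h : g ∉ H) :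
    muFun ν H f g = 1 := by
  unfold muFun
  rw [dif_neg h]

theorem nu_one {T : Subgroup G} {ν : G → A} (hν1 : ∀ t t', t ∈ T → t' ∈ T → ν (t * t') = ν t * ν t') :
    ν 1 = 1 := by
  have h := hν1 1 1 T.one_mem T.one_mem
  rw [one_mul] at h
  exact (mul_eq_left.1 h.symm)

theorem nu_pow {T : Subgroup G} {ν : G → A} (hν1 : ∀ t t', t ∈ T → t' ∈ T → ν (t * t') = ν t * ν t')
    {t : G} (ht : t ∈ T) (r : ℕ) : ν (t ^ r) = ν t ^ r := by
  induction r with
  | zero => rw [pow_zero, pow_zero]; exact nu_one hν1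
  | succ r ih => rw [pow_succ, pow_succ, hν1 _ _ (T.pow_mem ht r) ht, ih]

theorem muFun_conj {ν : G → A} (hν2 : ∀ g t, ν (g * t * g⁻¹) = ν t) {H : Subgroup G} (f : H →* G)
    {h : G} (hh : h ∈ H) (x : G) : muFun ν H f (h⁻¹ * x * h) = muFun ν H f x := by
  by_cases hx : x ∈ H
  · have h1 : h⁻¹ * x * h ∈ H := H.mul_mem (H.mul_mem (H.inv_mem hh) hx) hh
    rw [muFun_of_mem ν f h1, muFun_of_mem ν f hx]
    have h2 : (⟨h⁻¹ * x * h, h1⟩ : H) = (⟨h, hh⟩ : H)⁻¹ * ⟨x, hx⟩ * ⟨h, hh⟩ := rfl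
    rw [h2, map_mul, map_mul, map_inv]
    have h3 := hν2 (f ⟨h, hh⟩)⁻¹ (f ⟨x, hx⟩)
    rw [inv_inv] at h3
    exact h3
  · have h1 : h⁻¹ * x * h ∉ H := by
      intro h1
      apply hx
      have : x = h * (h⁻¹ * x * h) * h⁻¹ := by group
      rw [this]
      exact H.mul_mem (H.mul_mem hh h1) (H.inv_mem hh)
    rw [muFun_of_not_mem ν f h1, muFun_of_not_mem ν f hx]

theorem muFun_pow {T : Subgroup G} {ν : G → A}
    (hν1 : ∀ t t', t ∈ T → t' ∈ T → ν (t * t') = ν t * ν t') {H : Subgroup G} (f : H →* G)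
    (hfT : ∀ x : H, (x : G) ∈ T → f x ∈ T) {x : G} (hx : x ∈ H) (hxT : x ∈ T) (r : ℕ) :
    muFun ν H f (x ^ r) = muFun ν H f x ^ r := by
  rw [muFun_of_mem ν f (H.pow_mem hx r), muFun_of_mem ν f hx]
  have h2 : (⟨x ^ r, H.pow_mem hx r⟩ : H) = (⟨x, hx⟩ : H) ^ r := rfl
  rw [h2, map_pow]
  exact nu_pow hν1 (hfT ⟨x, hx⟩ hxT) r

/-- The value attached to a coset: `ν (f (a⁻¹ y^n a))` for the representative `a` of the coset and `n` the
length of its orbit under `y`. -/
noncomputable def valFun (ν : G → A) (H : Subgroup G) (f : H →* G) (y : G) (x : G ⧸ H) : A :=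
  muFun ν H f (x.out⁻¹ * y ^ Function.minimalPeriod (y • ·) x * x.out)

theorem conj_pow_mem_iff (H : Subgroup G) (y a : G) (k : ℕ) :
    a⁻¹ * y ^ k * a ∈ H ↔ Function.minimalPeriod (y • ·) (a : G ⧸ H) ∣ k := by
  have h1 : y ^ k • (a : G ⧸ H) = ((y ^ k * a : G) : G ⧸ H) := rfl
  rw [← pow_smul_eq_iff_minimalPeriod_dvd, h1, QuotientGroup.eq]
  have h2 : (y ^ k * a)⁻¹ * a = (a⁻¹ * y ^ k * a)⁻¹ := by group
  rw [h2, inv_mem_iff]

theorem muFun_conj_pow {ν : G → A} (hν2 : ∀ g t, ν (g * t * g⁻¹) = ν t) (H : Subgroup G) (f : H →* G)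
    (y a : G) :
    muFun ν H f (a⁻¹ * y ^ Function.minimalPeriod (y • ·) (a : G ⧸ H) * a) =
      valFun ν H f y (a : G ⧸ H) := by
  have h1 : ((a : G ⧸ H).out : G ⧸ H) = (a : G ⧸ H) := QuotientGroup.out_eq' _
  have h2 : (a : G ⧸ H).out⁻¹ * a ∈ H := QuotientGroup.eq.1 h1
  have h3 : a⁻¹ * y ^ Function.minimalPeriod (y • ·) (a : G ⧸ H) * a =
      ((a : G ⧸ H).out⁻¹ * a)⁻¹ * ((a : G ⧸ H).out⁻¹ *
        y ^ Function.minimalPeriod (y • ·) (a : G ⧸ H) * (a : G ⧸ H).out) *
        ((a : G ⧸ H).out⁻¹ * a) := by group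
  rw [h3, muFun_conj hν2 f h2]
  rfl

variable [Finite G]

theorem minimalPeriod_smul_eq (H : Subgroup G) (y : G) (x : G ⧸ H) :
    Function.minimalPeriod (y • ·) (y • x) = Function.minimalPeriod (y • ·) x := by
  apply Function.minimalPeriod_apply
  exact Function.minimalPeriod_pos_iff_mem_periodicPts.1 (Nat.pos_of_ne_zero (NeZero.ne _))

theorem valFun_smul {ν : G → A} (hν2 : ∀ g t, ν (g * t * g⁻¹) = ν t) (H : Subgroup G) (f : H →* G)
    (y : G) (x : G ⧸ H) : valFun ν H f y (y • x) = valFun ν H f y x := by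
  have h1 : ((y * x.out : G) : G ⧸ H) = y • x := by
    have : y • ((x.out : G) : G ⧸ H) = ((y * x.out : G) : G ⧸ H) := rfl
    rw [← this, QuotientGroup.out_eq']
  rw [← h1, ← muFun_conj_pow hν2 H f y (y * x.out), h1, minimalPeriod_smul_eq]
  unfold valFun
  congr 1
  group

open Classical in
/-- Summing the fixed point numbers of the cyclic subgroups `⟨(u, g)⟩` over the `g` with `ν g = ζ`. -/
theorem sum_fix_eq {ν : G → A} (hν2 : ∀ g t, ν (g * t * g⁻¹) = ν t) (H : Subgroup G) (f : H →* G)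
    (u : G) {ζ : A} (hζ : ζ ≠ 1) :
    Nat.card H * ∑ᶠ g : G, (if ν g = ζ then
        Nat.card (fixedPoints (zpowers ((u, g) : G × G)) ((G × G) ⧸ gr H f)) else 0) =
      Nat.card G * Nat.card {a : G // muFun ν H f (a⁻¹ * u * a) = ζ} := by
  have := Fintype.ofFinite G
  rw [finsum_eq_sum_of_fintype, Finset.mul_sum]
  have h1 : ∀ g : G, Nat.card H * (if ν g = ζ then
        Nat.card (fixedPoints (zpowers ((u, g) : G × G)) ((G × G) ⧸ gr H f)) else 0) =
      ∑ x : G × G, if ν g = ζ ∧ ∃ h : x.1⁻¹ * u * x.1 ∈ H,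
        f ⟨x.1⁻¹ * u * x.1, h⟩ = x.2⁻¹ * g * x.2 then 1 else 0 := by
    intro g
    by_cases hg : ν g = ζ
    · rw [if_pos hg, card_mul_fix_zpowers, natCard_subtype_eq_card_filter, Finset.card_filter]
      refine Finset.sum_congr rfl (fun x _ => ?_)
      simp [hg]
    · simp [hg]
  rw [Finset.sum_congr rfl (fun g _ => h1 g), Finset.sum_comm]
  have h2 : ∀ x : G × G, (∑ g : G, if ν g = ζ ∧ ∃ h : x.1⁻¹ * u * x.1 ∈ H,
        f ⟨x.1⁻¹ * u * x.1, h⟩ = x.2⁻¹ * g * x.2 then 1 else 0) =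
      if muFun ν H f (x.1⁻¹ * u * x.1) = ζ then 1 else 0 := by
    intro x
    by_cases hx : x.1⁻¹ * u * x.1 ∈ H
    · rw [Finset.sum_eq_single (x.2 * f ⟨x.1⁻¹ * u * x.1, hx⟩ * x.2⁻¹)]
      · rw [muFun_of_mem ν f hx, hν2]
        by_cases h3 : ν (f ⟨x.1⁻¹ * u * x.1, hx⟩) = ζ
        · rw [if_pos h3, if_pos]
          exact ⟨h3, hx, by group⟩
        · rw [if_neg h3, if_neg]
          rintro ⟨h4, -⟩
          exact h3 h4
      · intro g _ hg
        rw [if_neg]
        rintro ⟨-, h, h5⟩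
        apply hg
        rw [h5]
        group
      · intro h
        exact absurd (Finset.mem_univ _) h
    · rw [muFun_of_not_mem ν f hx, if_neg (Ne.symm hζ)]
      apply Finset.sum_eq_zero
      intro g _
      rw [if_neg]
      rintro ⟨-, h, -⟩
      exact hx h
  rw [Finset.sum_congr rfl (fun x _ => h2 x), Fintype.sum_prod_type, natCard_subtype_eq_card_filter,
    Finset.card_filter, Finset.mul_sum]
  refine Finset.sum_congr rfl (fun a _ => ?_)
  show (∑ _y : G, if muFun ν H f (a⁻¹ * u * a) = ζ then 1 else 0) = _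
  rw [Finset.sum_const, Finset.card_univ, smul_eq_mul, Nat.card_eq_fintype_card]

open Classical in
/-- Counting the cosets satisfying an invariant predicate all of whose orbits have length `m`. -/
theorem card_orbit_pred (H : Subgroup G) (y : G) (P : G ⧸ H → Prop) (hP : ∀ x, P (y • x) ↔ P x) (m : ℕ)
    (hm : ∀ x, P x → Function.minimalPeriod (y • ·) x = m) :
    Nat.card {x : G ⧸ H // P x} =
      m * Nat.card {q : orbitRel.Quotient (zpowers y) (G ⧸ H) // P q.out} := by
  have := Fintype.ofFinite (G ⧸ H)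
  have := Fintype.ofFinite (orbitRel.Quotient (zpowers y) (G ⧸ H))
  have hPz : ∀ (k : ℤ) (x : G ⧸ H), P (y ^ k • x) ↔ P x := by
    intro k
    induction k using Int.induction_on with
    | zero => intro x; rw [zpow_zero, one_smul]
    | succ i ih =>
      intro x
      rw [zpow_add_one, mul_smul, ih (y • x), hP]
    | pred i ih =>
      intro x
      rw [zpow_sub_one, mul_smul, ih (y⁻¹ • x), ← hP (y⁻¹ • x), smul_inv_smul]
  have hPorb : ∀ (x x' : G ⧸ H), x' ∈ orbit (zpowers y) x → (P x' ↔ P x) := by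
    intro x x' hx'
    obtain ⟨⟨g, hg⟩, rfl⟩ := hx'
    obtain ⟨k, rfl⟩ := mem_zpowers_iff.1 hg
    exact hPz k x
  have hfib : ∀ (q : orbitRel.Quotient (zpowers y) (G ⧸ H)) (x : G ⧸ H),
      (Quotient.mk'' x : orbitRel.Quotient (zpowers y) (G ⧸ H)) = q ↔ x ∈ orbit (zpowers y) q.out := by
    intro q x
    rw [← orbitRel_apply, ← Quotient.eq'', Quotient.out_eq']
  rw [natCard_subtype_eq_card_filter, natCard_subtype_eq_card_filter, Finset.card_filter,
    Finset.card_filter,
    ← Finset.sum_fiberwise (s := Finset.univ)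
      (g := fun x : G ⧸ H => (Quotient.mk'' x : orbitRel.Quotient (zpowers y) (G ⧸ H)))
      (f := fun x => if P x then 1 else 0), Finset.mul_sum]
  refine Finset.sum_congr rfl (fun q _ => ?_)
  by_cases hq : P q.out
  · rw [if_pos hq, mul_one]
    rw [Finset.sum_congr rfl (g := fun _ => 1) (fun x hx => by
      rw [if_pos]
      exact (hPorb _ _ ((hfib q x).1 (Finset.mem_filter.1 hx).2)).2 hq)]
    rw [Finset.sum_const, smul_eq_mul, mul_one, ← hm _ hq]
    have : Fintype (orbit (zpowers y) q.out) := Fintype.ofFinite _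
    rw [minimalPeriod_eq_card, ← Nat.card_eq_fintype_card, natCard_set_eq_card_filter]
    congr 1
    ext x
    simp only [Finset.mem_filter, Finset.mem_univ, true_and]
    exact hfib q x
  · rw [if_neg hq, mul_zero]
    apply Finset.sum_eq_zero
    intro x hx
    rw [if_neg]
    intro hPx
    exact hq ((hPorb _ _ ((hfib q x).1 (Finset.mem_filter.1 hx).2)).1 hPx)

omit [Finite G] in
theorem conj_pow_eq (a b : G) (r : ℕ) : (a⁻¹ * b * a) ^ r = a⁻¹ * b ^ r * a := by
  induction r with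
  | zero => simp
  | succ r ih =>
    rw [pow_succ, ih, pow_succ]
    group

/-- Counting the conjugates of `y ^ (p ^ j)` that lie in `H` and are sent to `ζ`. -/
theorem card_mu_eq {p : ℕ} [Fact p.Prime] {T : Subgroup G} [hT : T.Normal] {ν : G → A}
    (hA : ∀ a : A, a ^ p = 1)
    (hν1 : ∀ t t', t ∈ T → t' ∈ T → ν (t * t') = ν t * ν t') (hν2 : ∀ g t, ν (g * t * g⁻¹) = ν t)
    (H : Subgroup G) (f : H →* G) (hfT : ∀ x : H, (x : G) ∈ T → f x ∈ T) {y : G} (hy : y ∈ T)
    {ζ : A} (hζ : ζ ≠ 1) (j : ℕ) :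
    Nat.card {a : G // muFun ν H f (a⁻¹ * y ^ (p ^ j) * a) = ζ} =
      Nat.card H * (p ^ j * Nat.card {q : orbitRel.Quotient (zpowers y) (G ⧸ H) //
        Function.minimalPeriod (y • ·) q.out = p ^ j ∧ valFun ν H f y q.out = ζ}) := by
  have hpt : ∀ a : G, muFun ν H f (a⁻¹ * y ^ (p ^ j) * a) = ζ ↔
      (Function.minimalPeriod (y • ·) (a : G ⧸ H) = p ^ j ∧ valFun ν H f y (a : G ⧸ H) = ζ) := by
    intro a
    constructor
    · intro h
      have hmem : a⁻¹ * y ^ (p ^ j) * a ∈ H := by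
        by_contra hn
        rw [muFun_of_not_mem ν f hn] at h
        exact hζ h.symm
      have hdvd := (conj_pow_mem_iff H y a (p ^ j)).1 hmem
      obtain ⟨j', hj', hn⟩ := (Nat.dvd_prime_pow (Fact.out : p.Prime)).1 hdvd
      have hc : a⁻¹ * y ^ (p ^ j') * a ∈ H := (conj_pow_mem_iff H y a _).2 (by rw [hn])
      have hcT : a⁻¹ * y ^ (p ^ j') * a ∈ T := hT.conj_mem' _ (T.pow_mem hy _) a
      have hexp : p ^ j' * p ^ (j - j') = p ^ j := by
        rw [← pow_add]
        congr 1
        omega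
      have h1 : a⁻¹ * y ^ (p ^ j) * a = (a⁻¹ * y ^ (p ^ j') * a) ^ (p ^ (j - j')) := by
        rw [conj_pow_eq, ← pow_mul, hexp]
      have h2 := muFun_conj_pow hν2 H f y a
      rw [hn] at h2
      rw [h1, muFun_pow hν1 f hfT hc hcT, h2] at h
      have hjj : j' = j := by
        by_contra hne
        have h3 : j - j' = (j - j' - 1) + 1 := by omega
        rw [h3, pow_succ, mul_comm, pow_mul, hA, one_pow] at h
        exact hζ h.symm
      rw [hjj] at hn
      rw [hjj, Nat.sub_self, pow_zero, pow_one] at h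
      exact ⟨hn, h⟩
    · rintro ⟨hn, hv⟩
      rw [← hn, muFun_conj_pow hν2 H f y a]
      exact hv
  rw [Nat.card_congr (Equiv.subtypeEquivRight hpt)]
  have h1 := QuotientGroup.card_preimage_mk H
    {x : G ⧸ H | Function.minimalPeriod (y • ·) x = p ^ j ∧ valFun ν H f y x = ζ}
  have h2 := card_orbit_pred H y
    (fun x => Function.minimalPeriod (y • ·) x = p ^ j ∧ valFun ν H f y x = ζ)
    (fun x => by rw [minimalPeriod_smul_eq, valFun_smul hν2]) (p ^ j) (fun x hx => hx.1)
  rw [← h2]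
  exact h1

/-- The transfer of `z` at `y ∈ T`, in terms of the values attached to the orbits. -/
theorem transfer_eq_val {T : Subgroup G} [hT : T.Normal] {ν : G → A}
    (hν1 : ∀ t t', t ∈ T → t' ∈ T → ν (t * t') = ν t * ν t') (hν2 : ∀ g t, ν (g * t * g⁻¹) = ν t)
    (H : Subgroup G) (f : H →* G) (z : H →* A)
    (hz : ∀ x : H, (x : G) ∈ T → z x = ν (f x) * (ν x)⁻¹) {y : G} (hy : y ∈ T) :
    MonoidHom.transfer z y =
      (∏ᶠ q : orbitRel.Quotient (zpowers y) (G ⧸ H), valFun ν H f y q.out) * ((ν y)⁻¹) ^ H.index := by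
  have : Fintype (Quotient (orbitRel (zpowers y) (G ⧸ H))) := Fintype.ofFinite _
  rw [MonoidHom.transfer_eq_prod_quotient_orbitRel_zpowers_quot, finprod_eq_prod_of_fintype,
    index_eq_sum_minimalPeriod H y, ← Finset.prod_pow_eq_pow_sum, ← Finset.prod_mul_distrib]
  refine Finset.prod_congr rfl (fun q _ => ?_)
  have hw := QuotientGroup.out_conj_pow_minimalPeriod_mem H y q.out
  have hwT : q.out.out⁻¹ * y ^ Function.minimalPeriod (y • ·) q.out * q.out.out ∈ T :=
    hT.conj_mem' _ (T.pow_mem hy _) _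
  rw [hz ⟨_, hw⟩ hwT]
  congr 1
  · unfold valFun
    rw [muFun_of_mem ν f hw]
  · show (ν (q.out.out⁻¹ * y ^ Function.minimalPeriod (y • ·) q.out * q.out.out))⁻¹ = _
    have h3 := hν2 q.out.out⁻¹ (y ^ Function.minimalPeriod (y • ·) q.out)
    rw [inv_inv] at h3
    rw [h3, nu_pow hν1 hy, inv_pow]

open Classical in
/-- Sorting the orbits by their lengths, which are powers of `p`. -/
theorem card_val_eq_sum {p : ℕ} [Fact p.Prime] {N : ℕ} (hGN : Nat.card G = p ^ N) (ν : G → A)
    (H : Subgroup G) (f : H →* G) (y : G) (ζ : A) :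
    Nat.card {q : orbitRel.Quotient (zpowers y) (G ⧸ H) // valFun ν H f y q.out = ζ} =
      ∑ j ∈ Finset.range (N + 1), Nat.card {q : orbitRel.Quotient (zpowers y) (G ⧸ H) //
        Function.minimalPeriod (y • ·) q.out = p ^ j ∧ valFun ν H f y q.out = ζ} := by
  have := Fintype.ofFinite (orbitRel.Quotient (zpowers y) (G ⧸ H))
  have hper : ∀ x : G ⧸ H, ∃ j, j ≤ N ∧ Function.minimalPeriod (y • ·) x = p ^ j := by
    intro x
    have h1 : Function.minimalPeriod (y • ·) x ∣ orderOf y :=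
      pow_smul_eq_iff_minimalPeriod_dvd.1 (by rw [pow_orderOf_eq_one, one_smul])
    have h2 : Function.minimalPeriod (y • ·) x ∣ p ^ N := by
      rw [← hGN]
      exact h1.trans (orderOf_dvd_natCard y)
    exact (Nat.dvd_prime_pow (Fact.out : p.Prime)).1 h2
  rw [natCard_subtype_eq_card_filter, Finset.card_filter]
  simp_rw [natCard_subtype_eq_card_filter, Finset.card_filter]
  rw [Finset.sum_comm]
  refine Finset.sum_congr rfl (fun q _ => ?_)
  obtain ⟨j₀, hj₀, hn⟩ := hper q.out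
  rw [Finset.sum_eq_single j₀]
  · by_cases hv : valFun ν H f y q.out = ζ
    · rw [if_pos hv, if_pos ⟨hn, hv⟩]
    · rw [if_neg hv, if_neg (fun h => hv h.2)]
  · intro j _ hj
    rw [if_neg]
    rintro ⟨h, -⟩
    apply hj
    rw [hn] at h
    exact (Nat.pow_right_injective (Fact.out : p.Prime).two_le h).symm
  · intro h
    exact absurd (Finset.mem_range.2 (by omega)) h

open Classical in
/-- The number of orbits with value `ζ ≠ 1`, in terms of fixed point numbers. -/
theorem count_main [Fintype G] {p : ℕ} [Fact p.Prime] {N : ℕ} (hGN : Nat.card G = p ^ N)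
    {T : Subgroup G} [hT : T.Normal] {ν : G → A} (hA : ∀ a : A, a ^ p = 1)
    (hν1 : ∀ t t', t ∈ T → t' ∈ T → ν (t * t') = ν t * ν t') (hν2 : ∀ g t, ν (g * t * g⁻¹) = ν t)
    (H : Subgroup G) (f : H →* G) (hfT : ∀ x : H, (x : G) ∈ T → f x ∈ T) {y : G} (hy : y ∈ T)
    {ζ : A} (hζ : ζ ≠ 1) :
    Nat.card G * (p ^ N *
        Nat.card {q : orbitRel.Quotient (zpowers y) (G ⧸ H) // valFun ν H f y q.out = ζ}) =
      ∑ j ∈ Finset.range (N + 1), p ^ (N - j) * ∑ g : G, (if ν g = ζ then
        Nat.card (fixedPoints (zpowers ((y ^ (p ^ j), g) : G × G)) ((G × G) ⧸ gr H f)) else 0) := by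
  rw [card_val_eq_sum hGN, Finset.mul_sum, Finset.mul_sum]
  refine Finset.sum_congr rfl (fun j hj => ?_)
  have hj' : j ≤ N := by
    have := Finset.mem_range.1 hj
    omega
  have h1 := sum_fix_eq hν2 H f (y ^ (p ^ j)) hζ
  rw [card_mu_eq hA hν1 hν2 H f hfT hy hζ j, finsum_eq_sum_of_fintype] at h1
  have hHpos : 0 < Nat.card H := Nat.card_pos
  have h2 : (∑ g : G, (if ν g = ζ then
        Nat.card (fixedPoints (zpowers ((y ^ (p ^ j), g) : G × G)) ((G × G) ⧸ gr H f)) else 0)) =
      Nat.card G * (p ^ j * Nat.card {q : orbitRel.Quotient (zpowers y) (G ⧸ H) //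
        Function.minimalPeriod (y • ·) q.out = p ^ j ∧ valFun ν H f y q.out = ζ}) := by
    apply Nat.eq_of_mul_eq_mul_left hHpos
    rw [h1]
    ring
  rw [h2]
  have h3 : p ^ N = p ^ (N - j) * p ^ j := by
    rw [← pow_add]
    congr 1
    omega
  rw [h3]
  ring

end Orbit

open Classical in
/-- **Stability of the twisted transfer.** -/
theorem stable_transfer {G : Type*} [Group G] [Finite G] {p : ℕ} [Fact p.Prime] (hG : IsPGroup p G)
    (T : Subgroup G) [hT : T.Normal] {A : Type*} [CommGroup A] [Finite A] (hA : ∀ a : A, a ^ p = 1)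
    (ν : G → A) (hν1 : ∀ t t', t ∈ T → t' ∈ T → ν (t * t') = ν t * ν t')
    (hν2 : ∀ g t, ν (g * t * g⁻¹) = ν t)
    {ι : Type*} [Fintype ι] (H : ι → Subgroup G) (f : ∀ i, H i →* G) (z : ∀ i, H i →* A)
    (mult : ι → ℕ) (hfT : ∀ i (x : H i), (x : G) ∈ T → f i x ∈ T)
    (hz : ∀ i (x : H i), (x : G) ∈ T → z i x = ν (f i x) * (ν x)⁻¹)
    (y y' : G) (hy : y ∈ T) (hy' : y' ∈ T)
    (hfix : ∀ (k : ℕ) (g : G),
      ∑ i, mult i * Nat.card (fixedPoints (zpowers ((y ^ k, g) : G × G)) ((G × G) ⧸ gr (H i) (f i))) =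
      ∑ i, mult i *
        Nat.card (fixedPoints (zpowers ((y' ^ k, g) : G × G)) ((G × G) ⧸ gr (H i) (f i)))) :
    ν y ^ (∑ i, mult i * (H i).index) * ∏ i, (MonoidHom.transfer (z i) y) ^ mult i =
      ν y' ^ (∑ i, mult i * (H i).index) * ∏ i, (MonoidHom.transfer (z i) y') ^ mult i := by
  obtain ⟨N, hGN⟩ := IsPGroup.iff_card.1 hG
  have := Fintype.ofFinite A
  have := Fintype.ofFinite G
  have key1 : ∀ w ∈ T,
      ν w ^ (∑ i, mult i * (H i).index) * ∏ i, (MonoidHom.transfer (z i) w) ^ mult i =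
      ∏ ζ : A, ζ ^ (∑ i, mult i *
        Nat.card {q : orbitRel.Quotient (zpowers w) (G ⧸ H i) // valFun ν (H i) (f i) w q.out = ζ}) := by
    intro w hw
    have h1 : ∀ i, MonoidHom.transfer (z i) w =
        (∏ ζ : A, ζ ^ Nat.card {q : orbitRel.Quotient (zpowers w) (G ⧸ H i) //
          valFun ν (H i) (f i) w q.out = ζ}) * ((ν w)⁻¹) ^ (H i).index := by
      intro i
      rw [transfer_eq_val hν1 hν2 (H i) (f i) (z i) (hz i) hw]
      congr 1
      have := Fintype.ofFinite (orbitRel.Quotient (zpowers w) (G ⧸ H i))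
      rw [finprod_eq_prod_of_fintype, ← Finset.prod_fiberwise Finset.univ
        (fun q : orbitRel.Quotient (zpowers w) (G ⧸ H i) => valFun ν (H i) (f i) w q.out)
        (fun q : orbitRel.Quotient (zpowers w) (G ⧸ H i) => valFun ν (H i) (f i) w q.out)]
      refine Finset.prod_congr rfl (fun ζ _ => ?_)
      rw [Finset.prod_congr rfl (g := fun _ => ζ) (fun q hq => (Finset.mem_filter.1 hq).2),
        Finset.prod_const, natCard_subtype_eq_card_filter]
    have h2 : ∏ i, (MonoidHom.transfer (z i) w) ^ mult i =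
        (∏ i, (∏ ζ : A, ζ ^ Nat.card {q : orbitRel.Quotient (zpowers w) (G ⧸ H i) //
          valFun ν (H i) (f i) w q.out = ζ}) ^ mult i) *
        ((ν w)⁻¹) ^ (∑ i, mult i * (H i).index) := by
      rw [← Finset.prod_pow_eq_pow_sum, ← Finset.prod_mul_distrib]
      refine Finset.prod_congr rfl (fun i _ => ?_)
      rw [h1 i, mul_pow, ← pow_mul, mul_comm (H i).index]
    have h3 : (∏ i, (∏ ζ : A, ζ ^ Nat.card {q : orbitRel.Quotient (zpowers w) (G ⧸ H i) //
          valFun ν (H i) (f i) w q.out = ζ}) ^ mult i) =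
        ∏ ζ : A, ζ ^ (∑ i, mult i *
          Nat.card {q : orbitRel.Quotient (zpowers w) (G ⧸ H i) // valFun ν (H i) (f i) w q.out = ζ}) := by
      simp_rw [← Finset.prod_pow, ← pow_mul]
      rw [Finset.prod_comm]
      refine Finset.prod_congr rfl (fun ζ _ => ?_)
      rw [← Finset.prod_pow_eq_pow_sum]
      refine Finset.prod_congr rfl (fun i _ => ?_)
      rw [mul_comm]
    rw [h2, h3, inv_pow, mul_left_comm, mul_inv_cancel, mul_one]
  have key2 : ∀ ζ : A, ζ ≠ 1 →
      (∑ i, mult i *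
        Nat.card {q : orbitRel.Quotient (zpowers y) (G ⧸ H i) // valFun ν (H i) (f i) y q.out = ζ}) =
      ∑ i, mult i *
        Nat.card {q : orbitRel.Quotient (zpowers y') (G ⧸ H i) // valFun ν (H i) (f i) y' q.out = ζ} := by
    intro ζ hζ
    have hcm : ∀ w ∈ T, Nat.card G * (p ^ N * ∑ i, mult i *
          Nat.card {q : orbitRel.Quotient (zpowers w) (G ⧸ H i) // valFun ν (H i) (f i) w q.out = ζ}) =
        ∑ j ∈ Finset.range (N + 1), p ^ (N - j) * ∑ g : G, (if ν g = ζ then
          ∑ i, mult i * Nat.card (fixedPoints (zpowers ((w ^ (p ^ j), g) : G × G))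
            ((G × G) ⧸ gr (H i) (f i))) else 0) := by
      intro w hw
      have h1 := fun i => count_main hGN hA hν1 hν2 (H i) (f i) (hfT i) hw hζ
      calc Nat.card G * (p ^ N * ∑ i, mult i *
            Nat.card {q : orbitRel.Quotient (zpowers w) (G ⧸ H i) // valFun ν (H i) (f i) w q.out = ζ})
          = ∑ i, mult i * (Nat.card G * (p ^ N *
            Nat.card {q : orbitRel.Quotient (zpowers w) (G ⧸ H i) //
              valFun ν (H i) (f i) w q.out = ζ})) := by
            rw [Finset.mul_sum, Finset.mul_sum]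
            refine Finset.sum_congr rfl (fun i _ => by ring)
        _ = ∑ i, mult i * ∑ j ∈ Finset.range (N + 1), p ^ (N - j) * ∑ g : G, (if ν g = ζ then
              Nat.card (fixedPoints (zpowers ((w ^ (p ^ j), g) : G × G))
                ((G × G) ⧸ gr (H i) (f i))) else 0) := by
            refine Finset.sum_congr rfl (fun i _ => by rw [h1 i])
        _ = ∑ j ∈ Finset.range (N + 1), ∑ i, mult i * (p ^ (N - j) * ∑ g : G, (if ν g = ζ then
              Nat.card (fixedPoints (zpowers ((w ^ (p ^ j), g) : G × G))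
                ((G × G) ⧸ gr (H i) (f i))) else 0)) := by
            rw [Finset.sum_comm]
            refine Finset.sum_congr rfl (fun i _ => by rw [Finset.mul_sum])
        _ = _ := by
            refine Finset.sum_congr rfl (fun j _ => ?_)
            have h4 : ∀ i, mult i * (p ^ (N - j) * ∑ g : G, (if ν g = ζ then
                Nat.card (fixedPoints (zpowers ((w ^ (p ^ j), g) : G × G))
                  ((G × G) ⧸ gr (H i) (f i))) else 0)) =
                p ^ (N - j) * ∑ g : G, (if ν g = ζ then mult i *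
                  Nat.card (fixedPoints (zpowers ((w ^ (p ^ j), g) : G × G))
                    ((G × G) ⧸ gr (H i) (f i))) else 0) := by
              intro i
              rw [mul_left_comm, Finset.mul_sum]
              congr 1
              refine Finset.sum_congr rfl (fun g _ => ?_)
              by_cases hg : ν g = ζ
              · rw [if_pos hg, if_pos hg]
              · rw [if_neg hg, if_neg hg, mul_zero]
            rw [Finset.sum_congr rfl (fun i _ => h4 i), ← Finset.mul_sum, Finset.sum_comm]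
            congr 1
            refine Finset.sum_congr rfl (fun g _ => ?_)
            by_cases hg : ν g = ζ
            · simp only [if_pos hg]
            · simp only [if_neg hg, Finset.sum_const_zero]
    have e : Nat.card G * (p ^ N * ∑ i, mult i *
          Nat.card {q : orbitRel.Quotient (zpowers y) (G ⧸ H i) // valFun ν (H i) (f i) y q.out = ζ}) =
        Nat.card G * (p ^ N * ∑ i, mult i *
          Nat.card {q : orbitRel.Quotient (zpowers y') (G ⧸ H i) //
            valFun ν (H i) (f i) y' q.out = ζ}) := by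
      rw [hcm y hy, hcm y' hy']
      refine Finset.sum_congr rfl (fun j _ => ?_)
      congr 1
      refine Finset.sum_congr rfl (fun g _ => ?_)
      rw [hfix (p ^ j) g]
    have hGpos : 0 < Nat.card G := Nat.card_pos
    have hppos : 0 < p ^ N := pow_pos (Fact.out : p.Prime).pos N
    exact Nat.eq_of_mul_eq_mul_left hppos (Nat.eq_of_mul_eq_mul_left hGpos e)
  rw [key1 y hy, key1 y' hy']
  refine Finset.prod_congr rfl (fun ζ _ => ?_)
  by_cases hζ : ζ = 1
  · rw [hζ, one_pow, one_pow]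
  · rw [key2 ζ hζ]

end Cfsg.Agent.Helper86
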