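import Cfsg.Agent.Helper86.Biset
import Cfsg.Agent.Helper86.StableTransfer

/-!
# Transfer in saturated fusion systems (helper86)

For a saturated fusion system `F` over a finite `p`-group `S`, a strongly closed subgroup `T` modulo which every
map of `F` is a conjugation by an element of `S`, and an `S`-invariant function `ν` on `S` which is
multiplicative on `T` with values in a finite commutative group of exponent `p`, there is a homomorphism
`ε : S →* A` such that `ν · ε` is stable under the maps of `F` on the elements of `T`.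
-/

set_option autoImplicit false

namespace Cfsg.Agent.Helper86

open Cfsg Cfsg.FusionSystem Cfsg.Agent.Helper87 MulAction

universe u

variable {Ω : Type u} [Group Ω] {S : Subgroup Ω}

/-- The homomorphism of `S` induced on `P.subgroupOf S` by `φ : P →* Ω` with values in `S`. -/
def restrHom (S : Subgroup Ω) {P : Subgroup Ω} (φ : P →* Ω) (hφ : ∀ x : P, φ x ∈ S) :
    (P.subgroupOf S) →* ↥S where
  toFun a := ⟨φ ⟨(a.1 : Ω), Subgroup.mem_subgroupOf.1 a.2⟩, hφ _⟩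
  map_one' := by
    apply Subtype.ext
    show φ ⟨(((1 : P.subgroupOf S) : ↥S) : Ω), _⟩ = 1
    have : (⟨(((1 : P.subgroupOf S) : ↥S) : Ω),
        Subgroup.mem_subgroupOf.1 (1 : P.subgroupOf S).2⟩ : P) = 1 := rfl
    rw [this, map_one]
  map_mul' := by
    intro a b
    apply Subtype.ext
    show φ ⟨(((a * b : P.subgroupOf S) : ↥S) : Ω), _⟩ =
      φ ⟨_, Subgroup.mem_subgroupOf.1 a.2⟩ * φ ⟨_, Subgroup.mem_subgroupOf.1 b.2⟩
    rw [← map_mul]
    rfl

theorem restrHom_coe (S : Subgroup Ω) {P : Subgroup Ω} (φ : P →* Ω) (hφ : ∀ x : P, φ x ∈ S)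
    (a : P.subgroupOf S) :
    ((restrHom S φ hφ a : ↥S) : Ω) = φ ⟨(a.1 : Ω), Subgroup.mem_subgroupOf.1 a.2⟩ := rfl

theorem gr_restrHom (S : Subgroup Ω) {P : Subgroup Ω} (φ : P →* Ω) (hφ : ∀ x : P, φ x ∈ S) :
    gr (P.subgroupOf S) (restrHom S φ hφ) = graph S P φ := by
  ext x
  constructor
  · rintro ⟨h, e⟩
    exact ⟨Subgroup.mem_subgroupOf.1 h, congrArg Subtype.val e⟩
  · rintro ⟨h, e⟩
    exact ⟨Subgroup.mem_subgroupOf.2 h, Subtype.ext e⟩

theorem stronglyClosed_apply_mem (F : FusionSystem S) {T : Subgroup Ω} (hT : F.StronglyClosed T)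
    {P : Subgroup Ω} {φ : P →* Ω} (hφ : φ ∈ F.Hom P) (x : P) (hx : (x : Ω) ∈ T) : φ x ∈ T :=
  hT.2 (P ⊓ T) inf_le_right _ (hom_restrict F hφ inf_le_left) ⟨x, ⟨x.2, hx⟩⟩

theorem stronglyClosed_subgroupOf_normal (F : FusionSystem S) {T : Subgroup Ω} (hT : F.StronglyClosed T) :
    (T.subgroupOf S).Normal := by
  refine ⟨fun n hn g => ?_⟩
  rw [Subgroup.mem_subgroupOf] at hn ⊢
  exact hT.2 T le_rfl (conjHom T g) (F.conj_mem hT.1 g.2) ⟨n, hn⟩

section ZHom

variable {G : Type*} [Group G] {A : Type*} [CommGroup A]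

theorem nu_inv {T : Subgroup G} {ν : G → A} (hν1 : ∀ t t', t ∈ T → t' ∈ T → ν (t * t') = ν t * ν t')
    {t : G} (ht : t ∈ T) : ν t⁻¹ = (ν t)⁻¹ := by
  have h := hν1 t⁻¹ t (T.inv_mem ht) ht
  rw [inv_mul_cancel, nu_one hν1] at h
  exact eq_inv_of_mul_eq_one_left h.symm

/-- For `f` congruent to conjugation by `s` modulo `T`: the homomorphism `x ↦ ν ((s x s⁻¹)⁻¹ f(x))`. -/
def zHom (T : Subgroup G) [hT : T.Normal] (ν : G → A)
    (hν1 : ∀ t t', t ∈ T → t' ∈ T → ν (t * t') = ν t * ν t')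
    (hν2 : ∀ g t, ν (g * t * g⁻¹) = ν t)
    (H : Subgroup G) (f : H →* G) (s : G) (hs : ∀ x : H, (s * x * s⁻¹)⁻¹ * f x ∈ T) : H →* A where
  toFun x := ν ((s * x * s⁻¹)⁻¹ * f x)
  map_one' := by
    have : (s * ((1 : H) : G) * s⁻¹)⁻¹ * f 1 = 1 := by
      rw [map_one, Subgroup.coe_one]
      group
    rw [this]
    exact nu_one hν1
  map_mul' := by
    intro a b
    have h1 : (s * ((a * b : H) : G) * s⁻¹)⁻¹ * f (a * b) =
        ((s * b * s⁻¹)⁻¹ * ((s * a * s⁻¹)⁻¹ * f a) * ((s * b * s⁻¹)⁻¹)⁻¹) *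
          ((s * b * s⁻¹)⁻¹ * f b) := by
      rw [map_mul, Subgroup.coe_mul]
      group
    rw [h1, hν1 _ _ (hT.conj_mem _ (hs a) _) (hs b), hν2]

theorem zHom_apply_of_mem (T : Subgroup G) [hT : T.Normal] (ν : G → A)
    (hν1 : ∀ t t', t ∈ T → t' ∈ T → ν (t * t') = ν t * ν t')
    (hν2 : ∀ g t, ν (g * t * g⁻¹) = ν t)
    (H : Subgroup G) (f : H →* G) (s : G) (hs : ∀ x : H, (s * x * s⁻¹)⁻¹ * f x ∈ T)
    (x : H) (hx : (x : G) ∈ T) (hfx : f x ∈ T) :
    zHom T ν hν1 hν2 H f s hs x = ν (f x) * (ν x)⁻¹ := by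
  show ν ((s * x * s⁻¹)⁻¹ * f x) = _
  have h1 : s * (x : G) * s⁻¹ ∈ T := hT.conj_mem _ hx s
  rw [hν1 _ _ (T.inv_mem h1) hfx, nu_inv hν1 h1, hν2, mul_comm]

end ZHom

open Classical in
theorem sum_subtype_isGraph [Finite S] (F : FusionSystem S)
    [Fintype {K : Subgroup (↥S × ↥S) // IsGraph F K}]
    (g : Subgroup (↥S × ↥S) → ℕ) (hg : ∀ K, ¬ IsGraph F K → g K = 0) :
    ∑ i : {K : Subgroup (↥S × ↥S) // IsGraph F K}, g i.1 = ∑ᶠ K, g K := by
  have := Fintype.ofFinite (Subgroup (↥S × ↥S))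
  rw [finsum_eq_sum_of_fintype,
    ← Finset.sum_subtype (Finset.univ.filter (fun K => IsGraph F K)) (by simp) g, Finset.sum_filter]
  refine Finset.sum_congr rfl (fun K _ => ?_)
  by_cases h : IsGraph F K
  · rw [if_pos h]
  · rw [if_neg h, hg K h]

/-- **Stable transfer.** -/
theorem exists_stable_hom [Finite S] {p : ℕ} [Fact p.Prime] (hS : IsPGroup p S) (F : FusionSystem S)
    (hF : F.IsSaturated p) (T : Subgroup Ω) (hT : F.StronglyClosed T)
    (hinn : ∀ (P : Subgroup Ω) (φ : P →* Ω), φ ∈ F.Hom P →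
      ∃ s ∈ S, ∀ x : P, (s * x * s⁻¹)⁻¹ * φ x ∈ T)
    {A : Type*} [CommGroup A] [Finite A] (hA : ∀ a : A, a ^ p = 1)
    (ν : ↥S → A)
    (hν1 : ∀ t t' : ↥S, t ∈ T.subgroupOf S → t' ∈ T.subgroupOf S → ν (t * t') = ν t * ν t')
    (hν2 : ∀ g t : ↥S, ν (g * t * g⁻¹) = ν t) :
    ∃ ε : ↥S →* A, ∀ (P : Subgroup Ω) (φ : P →* Ω) (hφ : φ ∈ F.Hom P) (y : P), (y : Ω) ∈ T →
      ν ⟨φ y, hom_mem F hφ y⟩ * ε ⟨φ y, hom_mem F hφ y⟩ =
        ν ⟨y, hom_le F hφ y.2⟩ * ε ⟨y, hom_le F hφ y.2⟩ := by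
  classical
  obtain ⟨mult, hsupp, hinv, hpm⟩ := exists_biset hS F hF
  have hTn : (T.subgroupOf S).Normal := stronglyClosed_subgroupOf_normal F hT
  have hfinι : Fintype {K : Subgroup (↥S × ↥S) // IsGraph F K} := Fintype.ofFinite _
  have hex : ∀ i : {K : Subgroup (↥S × ↥S) // IsGraph F K},
      ∃ (P : Subgroup Ω) (φ : P →* Ω), φ ∈ F.Hom P ∧ i.1 = graph S P φ := fun i => i.2
  choose Pc φc hφc hKc using hex
  have hsc : ∀ i : {K : Subgroup (↥S × ↥S) // IsGraph F K}, ∃ s : ↥S,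
      ∀ x : (Pc i).subgroupOf S,
        (s * x * s⁻¹)⁻¹ * restrHom S (φc i) (hom_mem F (hφc i)) x ∈ T.subgroupOf S := by
    intro i
    obtain ⟨s, hs, h⟩ := hinn (Pc i) (φc i) (hφc i)
    exact ⟨⟨s, hs⟩, fun x => Subgroup.mem_subgroupOf.2 (h ⟨x.1, Subgroup.mem_subgroupOf.1 x.2⟩)⟩
  choose sc hsc' using hsc
  have hfT : ∀ (i : {K : Subgroup (↥S × ↥S) // IsGraph F K}) (x : (Pc i).subgroupOf S),
      (x : ↥S) ∈ T.subgroupOf S → restrHom S (φc i) (hom_mem F (hφc i)) x ∈ T.subgroupOf S := by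
    intro i x hx
    rw [Subgroup.mem_subgroupOf] at hx ⊢
    exact stronglyClosed_apply_mem F hT (hφc i) ⟨x.1, Subgroup.mem_subgroupOf.1 x.2⟩ hx
  have hz : ∀ (i : {K : Subgroup (↥S × ↥S) // IsGraph F K}) (x : (Pc i).subgroupOf S),
      (x : ↥S) ∈ T.subgroupOf S →
      zHom (T.subgroupOf S) ν hν1 hν2 ((Pc i).subgroupOf S)
        (restrHom S (φc i) (hom_mem F (hφc i))) (sc i) (hsc' i) x =
        ν (restrHom S (φc i) (hom_mem F (hφc i)) x) * (ν x)⁻¹ :=
    fun i x hx => zHom_apply_of_mem (T.subgroupOf S) ν hν1 hν2 _ _ (sc i) (hsc' i) x hx (hfT i x hx)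
  have hgr : ∀ i : {K : Subgroup (↥S × ↥S) // IsGraph F K},
      gr ((Pc i).subgroupOf S) (restrHom S (φc i) (hom_mem F (hφc i))) = i.1 :=
    fun i => (gr_restrHom S (φc i) _).trans (hKc i).symm
  have hzero : ∀ K : Subgroup (↥S × ↥S), ¬ IsGraph F K → mult K = 0 := by
    intro K hK
    by_contra h
    exact hK (hsupp K h)
  have hcnt : ∀ D : Subgroup (↥S × ↥S),
      ∑ i : {K : Subgroup (↥S × ↥S) // IsGraph F K}, mult i.1 * Nat.card (fixedPoints D
        ((↥S × ↥S) ⧸ gr ((Pc i).subgroupOf S) (restrHom S (φc i) (hom_mem F (hφc i))))) =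
      cnt mult D := by
    intro D
    have h1 : ∀ i : {K : Subgroup (↥S × ↥S) // IsGraph F K}, mult i.1 * Nat.card (fixedPoints D
        ((↥S × ↥S) ⧸ gr ((Pc i).subgroupOf S) (restrHom S (φc i) (hom_mem F (hφc i))))) =
        mult i.1 * Nat.card (fixedPoints D ((↥S × ↥S) ⧸ i.1)) := by
      intro i
      rw [hgr i]
    rw [Finset.sum_congr rfl (fun i _ => h1 i)]
    exact sum_subtype_isGraph F (fun K => mult K * Nat.card (fixedPoints D ((↥S × ↥S) ⧸ K)))
      (fun K hK => by rw [hzero K hK, zero_mul])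
  have hm : ∑ i : {K : Subgroup (↥S × ↥S) // IsGraph F K}, mult i.1 * ((Pc i).subgroupOf S).index =
      ∑ᶠ K : Subgroup (↥S × ↥S), mult K * (Nat.card S / Nat.card K) := by
    have h1 : ∀ i : {K : Subgroup (↥S × ↥S) // IsGraph F K},
        ((Pc i).subgroupOf S).index = Nat.card S / Nat.card i.1 := by
      intro i
      have hP : Pc i ≤ S := hom_le F (hφc i)
      have h2 := Subgroup.card_mul_index ((Pc i).subgroupOf S)
      rw [Nat.card_congr (Subgroup.subgroupOfEquivOfLe hP).toEquiv] at h2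
      have h3 : Nat.card i.1 = Nat.card (Pc i) := by
        have h4 := card_graph hP (hom_mem F (hφc i))
        rw [← hKc i] at h4
        exact h4
      rw [h3]
      have hfinP : Finite (Pc i) := finite_of_le hP
      exact (Nat.div_eq_of_eq_mul_right Nat.card_pos h2.symm).symm
    rw [Finset.sum_congr rfl (fun i _ => by rw [h1 i])]
    exact sum_subtype_isGraph F (fun K => mult K * (Nat.card S / Nat.card K))
      (fun K hK => by rw [hzero K hK, zero_mul])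
  have hpm' : ¬ p ∣ ∑ i : {K : Subgroup (↥S × ↥S) // IsGraph F K},
      mult i.1 * ((Pc i).subgroupOf S).index := by
    rw [hm]
    exact hpm
  have hcop : Nat.Coprime (∑ i : {K : Subgroup (↥S × ↥S) // IsGraph F K},
      mult i.1 * ((Pc i).subgroupOf S).index) p :=
    ((Fact.out : p.Prime).coprime_iff_not_dvd.2 hpm').symm
  obtain ⟨m', -, hm'⟩ := Nat.exists_mul_mod_eq_one_of_coprime hcop (Fact.out : p.Prime).one_lt
  have hApow : ∀ a : A, a ^ ((∑ i : {K : Subgroup (↥S × ↥S) // IsGraph F K},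
      mult i.1 * ((Pc i).subgroupOf S).index) * m') = a := by
    intro a
    rw [← Nat.mod_add_div ((∑ i : {K : Subgroup (↥S × ↥S) // IsGraph F K},
      mult i.1 * ((Pc i).subgroupOf S).index) * m') p, hm', pow_add, pow_one, pow_mul, hA, one_pow,
      mul_one]
  refine ⟨(∏ i : {K : Subgroup (↥S × ↥S) // IsGraph F K},
    (MonoidHom.transfer (zHom (T.subgroupOf S) ν hν1 hν2 ((Pc i).subgroupOf S)
        (restrHom S (φc i) (hom_mem F (hφc i))) (sc i) (hsc' i))) ^ (mult i.1)) ^ m', ?_⟩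
  intro P φ hφ y hy
  have hP : P ≤ S := hom_le F hφ
  have hst := stable_transfer hS (T.subgroupOf S) hA ν hν1 hν2
    (fun i : {K : Subgroup (↥S × ↥S) // IsGraph F K} => (Pc i).subgroupOf S)
    (fun i => restrHom S (φc i) (hom_mem F (hφc i)))
    (fun i => zHom (T.subgroupOf S) ν hν1 hν2 ((Pc i).subgroupOf S)
        (restrHom S (φc i) (hom_mem F (hφc i))) (sc i) (hsc' i))
    (fun i => mult i.1) hfT hz
    ⟨y, hP y.2⟩ ⟨φ y, hom_mem F hφ y⟩ (Subgroup.mem_subgroupOf.2 hy)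
    (Subgroup.mem_subgroupOf.2 (stronglyClosed_apply_mem F hT hφ y hy)) ?_
  · have e1 : ∀ w : ↥S, (∏ i : {K : Subgroup (↥S × ↥S) // IsGraph F K},
        (MonoidHom.transfer (zHom (T.subgroupOf S) ν hν1 hν2 ((Pc i).subgroupOf S)
          (restrHom S (φc i) (hom_mem F (hφc i))) (sc i) (hsc' i))) ^ (mult i.1)) w =
        ∏ i : {K : Subgroup (↥S × ↥S) // IsGraph F K},
          (MonoidHom.transfer (zHom (T.subgroupOf S) ν hν1 hν2 ((Pc i).subgroupOf S)
            (restrHom S (φc i) (hom_mem F (hφc i))) (sc i) (hsc' i)) w) ^ (mult i.1) := by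
      intro w
      rw [MonoidHom.finsetProd_apply]
      rfl
    rw [MonoidHom.pow_apply, MonoidHom.pow_apply, e1, e1]
    have h2 := congrArg (fun a => a ^ m') hst
    simp only [mul_pow, ← pow_mul, hApow] at h2
    exact h2.symm
  · intro k g
    have h3 := hcnt (Subgroup.zpowers (((⟨y, hP y.2⟩ : ↥S) ^ k, g) : ↥S × ↥S))
    have h4 := hcnt (Subgroup.zpowers (((⟨φ y, hom_mem F hφ y⟩ : ↥S) ^ k, g) : ↥S × ↥S))
    refine h3.trans (Eq.trans ?_ h4.symm)
    have key : ∀ (n : ℤ) (h1 : ((((((⟨y, hP y.2⟩ : ↥S) ^ k, g) : ↥S × ↥S) ^ n).1 : ↥S) : Ω) ∈ P),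
        φ ⟨_, h1⟩ = ((((((⟨φ y, hom_mem F hφ y⟩ : ↥S) ^ k, g) : ↥S × ↥S) ^ n).1 : ↥S) : Ω) := by
      intro n h1
      have h5 : (⟨_, h1⟩ : P) = (y ^ k) ^ n := by
        apply Subtype.ext
        simp
      rw [h5, map_zpow, map_pow]
      simp
    refine cnt_eq_of_maps F mult hsupp 0 hinv hφ (subtype_mem F (le_refl S)) ?_ ?_ Nat.card_pos
    · intro x hx
      obtain ⟨n, rfl⟩ := Subgroup.mem_zpowers_iff.1 hx
      refine ⟨?_, Subtype.property _⟩
      have h6 : ((((((⟨y, hP y.2⟩ : ↥S) ^ k, g) : ↥S × ↥S) ^ n).1 : ↥S) : Ω) = ((y : Ω) ^ k) ^ n := by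
        simp
      rw [h6]
      exact P.zpow_mem (P.pow_mem y.2 k) n
    · intro x'
      constructor
      · intro hx'
        obtain ⟨n, rfl⟩ := Subgroup.mem_zpowers_iff.1 hx'
        have h6 : ((((((⟨y, hP y.2⟩ : ↥S) ^ k, g) : ↥S × ↥S) ^ n).1 : ↥S) : Ω) ∈ P := by
          have h7 : ((((((⟨y, hP y.2⟩ : ↥S) ^ k, g) : ↥S × ↥S) ^ n).1 : ↥S) : Ω) =
              ((y : Ω) ^ k) ^ n := by simp
          rw [h7]
          exact P.zpow_mem (P.pow_mem y.2 k) n
        exact ⟨_, Subgroup.zpow_mem _ (Subgroup.mem_zpowers _) n, h6, Subtype.property _,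
          (key n h6).symm, rfl⟩
      · rintro ⟨x, hx, h1, h2, e1, e2⟩
        obtain ⟨n, rfl⟩ := Subgroup.mem_zpowers_iff.1 hx
        have h8 : x' = (((⟨φ y, hom_mem F hφ y⟩ : ↥S) ^ k, g) : ↥S × ↥S) ^ n := by
          apply Prod.ext
          · exact Subtype.ext (e1.trans (key n h1))
          · exact Subtype.ext e2
        rw [h8]
        exact Subgroup.zpow_mem _ (Subgroup.mem_zpowers _) n

end Cfsg.Agent.Helper86
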