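import Cfsg.Agent.Helper84.FusionFocal
import Cfsg.Agent.Helper85.Factor
import Cfsg.Prelude.Def_FusionReduction

/-!
# Subsystems of `p`-power index, residual subsystems and residual limits

Uniqueness of the saturated subsystem of `p`-power index over a given subgroup (via the Alperin fusion theorem of
`Helper84`), invariance of the hyperfocal subgroup under passing to a normal subsystem of `p`-power index, and
uniqueness of residual limits.
-/

set_option autoImplicit false

namespace Cfsg.Agent.Helper86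

open Cfsg Cfsg.FusionSystem

variable {Ω : Type*} [Group Ω]

/-- Two fusion systems (over possibly different subgroups) with the same maps. -/
def SameHoms {U V : Subgroup Ω} (D : FusionSystem U) (D' : FusionSystem V) : Prop :=
  ∀ P : Subgroup Ω, D.Hom P = D'.Hom P

theorem SameHoms.refl {U : Subgroup Ω} (D : FusionSystem U) : SameHoms D D := fun _ => rfl

theorem SameHoms.symm {U V : Subgroup Ω} {D : FusionSystem U} {D' : FusionSystem V} (h : SameHoms D D') :
    SameHoms D' D := fun P => (h P).symm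

theorem SameHoms.trans {U V W : Subgroup Ω} {D : FusionSystem U} {D' : FusionSystem V} {D'' : FusionSystem W}
    (h : SameHoms D D') (h' : SameHoms D' D'') : SameHoms D D'' := fun P => (h P).trans (h' P)

theorem SameHoms.subgroup_eq {U V : Subgroup Ω} {D : FusionSystem U} {D' : FusionSystem V} (h : SameHoms D D') :
    U = V := by
  apply le_antisymm
  · have h1 : U.subtype ∈ D'.Hom U := h U ▸ Helper84.subtype_mem D le_rfl
    exact (D'.le_of_mem h1).1
  · have h1 : V.subtype ∈ D.Hom V := (h V).symm ▸ Helper84.subtype_mem D' le_rfl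
    exact (D.le_of_mem h1).1

/-- Transport of any property along `SameHoms`. -/
theorem SameHoms.elim {motive : ∀ {V : Subgroup Ω}, FusionSystem V → Prop} {U V : Subgroup Ω}
    {D : FusionSystem U} {D' : FusionSystem V} (h : SameHoms D D') (hm : motive D) : motive D' := by
  obtain rfl := h.subgroup_eq
  have : D = D' := Helper84.fusionSystem_ext h
  subst this
  exact hm

theorem sameHoms_of_subsystems {U V : Subgroup Ω} {D : FusionSystem U} {D' : FusionSystem V}
    (h : D.IsSubsystemOf D') (h' : D'.IsSubsystemOf D) : SameHoms D D' :=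
  fun P => Set.Subset.antisymm (h P) (h' P)

/-- The maps of a fusion system over `U` between subgroups of `T ≤ U`, as a fusion system over `T`. -/
def restrictSub {U : Subgroup Ω} (F₀ : FusionSystem U) (T : Subgroup Ω) (hTU : T ≤ U) : FusionSystem T where
  Hom P := {φ | φ ∈ F₀.Hom P ∧ P ≤ T ∧ ∀ x : P, φ x ∈ T}
  le_of_mem := by
    rintro P φ ⟨-, hP, hφ⟩
    exact ⟨hP, hφ⟩
  injective_of_mem := by
    rintro P φ ⟨hφ, -⟩
    exact F₀.injective_of_mem hφ
  conj_mem := by
    intro P g hP hg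
    refine ⟨F₀.conj_mem (hP.trans hTU) (hTU hg), hP, fun x => ?_⟩
    exact T.mul_mem (T.mul_mem hg (hP x.2)) (T.inv_mem hg)
  comp_mem := by
    rintro P Q φ ψ ⟨hφ, hP, -⟩ ⟨hψ, -, hψT⟩ h
    exact ⟨F₀.comp_mem hφ hψ h, hP, fun x => hψT _⟩
  inv_mem := by
    rintro P φ ⟨hφ, hP, hφT⟩
    obtain ⟨ψ, hψ, hψ'⟩ := F₀.inv_mem hφ
    refine ⟨ψ, ⟨hψ, ?_, ?_⟩, hψ'⟩
    · rintro _ ⟨x, rfl⟩
      exact hφT x
    · rintro ⟨_, x, rfl⟩
      rw [hψ']
      exact hP x.2

theorem map_pResidual_mem' {G G' : Type*} [Group G] [Group G'] (p : ℕ) (f : G →* G') {n : G}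
    (hn : n ∈ pResidual p G) : f n ∈ pResidual p G' := by
  refine Subgroup.closure_induction (p := fun n _ => f n ∈ pResidual p G') ?_ ?_ ?_ ?_ hn
  · intro x hx
    apply Subgroup.subset_closure
    exact Nat.Coprime.coprime_dvd_left (orderOf_map_dvd f x) hx
  · simp
  · intro x y _ _ hx hy
    rw [map_mul]
    exact Subgroup.mul_mem _ hx hy
  · intro x _ hx
    rw [map_inv]
    exact Subgroup.inv_mem _ hx

variable {S : Subgroup Ω}

/-- A saturated subsystem `E` (over `T`) of `F` is contained in every subsystem of `p`-power index in `F` over a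
subgroup containing `T`. -/
theorem subsystem_of_pPowerIndex [Finite S] {p : ℕ} [Fact p.Prime] (hS : IsPGroup p S) (F : FusionSystem S)
    {T U : Subgroup Ω} (E : FusionSystem T) (hEsat : E.IsSaturated p) (hEF : E.IsSubsystemOf F)
    (F₀ : FusionSystem U) (hTU : T ≤ U) (hidx : F₀.HasPPowerIndexIn F p) : E.IsSubsystemOf F₀ := by
  classical
  have hUS : U ≤ S := (F.le_of_mem (hidx.1 U (Helper84.subtype_mem F₀ le_rfl))).1
  have hTS : T ≤ S := hTU.trans hUS
  have hfinT : Finite T := Helper84.finite_of_le hTS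
  have hT : IsPGroup p T := hS.to_le hTS
  have key : E ≤ restrictSub F₀ T hTU := by
    apply Helper84.alperin p hT E hEsat
    intro R hR
    have hfn : E.IsFullyNormalized R := by
      rcases hR with hR | hR
      · subst hR
        refine ⟨le_rfl, fun Q _ => ?_⟩
        have h1 : normalizerIn R Q ≤ normalizerIn R R := by
          intro x hx
          exact ⟨hx.1, Subgroup.le_normalizer hx.1⟩
        exact Subgroup.card_le_of_le h1
      · exact hR.2.1
    have hRT : R ≤ T := hfn.1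
    have hRU : R ≤ U := hRT.trans hTU
    have hRS : R ≤ S := hRT.trans hTS
    obtain ⟨⟨-, Syl, hSyl⟩, -⟩ := Helper84.saturated_fullyNormalized hT E hEsat hfn
    have hfinR : Finite R := Helper84.finite_of_le hRS
    have hle : E.autGroup R ≤ F.autGroup R := by
      intro α hα
      rw [Helper84.mem_autGroup_iff F hRS]
      exact hEF R ((Helper84.mem_autGroup_iff E hRT α).mp hα)
    have hmem' : ∀ β : MulAut R, β ∈ F₀.autGroup R → β ∈ (restrictSub F₀ T hTU).autGroup R := by
      intro β hβ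
      rw [Helper84.mem_autGroup_iff _ hRT]
      exact ⟨(Helper84.mem_autGroup_iff F₀ hRU β).mp hβ, hRT, fun x => hRT (β x).2⟩
    intro α hα
    obtain ⟨b, hb, r, hr, hbr⟩ := Helper84.exists_mul_pResidual_sylow Syl ⟨α, hα⟩
    have hα' : α = (b : MulAut R) * (r : MulAut R) := congrArg Subtype.val hbr
    rw [hα']
    apply Subgroup.mul_mem
    · apply hmem'
      apply hidx.2.2 R hRU
      exact ⟨Subgroup.inclusion hle b, map_pResidual_mem' p (Subgroup.inclusion hle) hb, rfl⟩
    · apply hmem'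
      have hr' : r ∈ (Syl : Subgroup (E.autGroup R)) := hr
      rw [hSyl, Subgroup.mem_subgroupOf] at hr'
      obtain ⟨g, hg, Hg⟩ := (Helper84.mem_autInducedBy_iff T R _).mp hr'
      rw [Helper84.mem_autGroup_iff F₀ hRU]
      exact Helper84.hom_of_eq F₀ (F₀.conj_mem hRU (hTU hg)) (fun x => Hg x)
  intro P φ hφ
  exact (key P hφ).1

/-- Uniqueness of the saturated subsystem of `p`-power index over a given subgroup. -/
theorem sameHoms_of_pPowerIndex [Finite S] {p : ℕ} [Fact p.Prime] (hS : IsPGroup p S) (F : FusionSystem S)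
    {U₁ U₂ : Subgroup Ω} (D₁ : FusionSystem U₁) (D₂ : FusionSystem U₂) (h₁ : D₁.IsSaturated p)
    (h₂ : D₂.IsSaturated p) (hi₁ : D₁.HasPPowerIndexIn F p) (hi₂ : D₂.HasPPowerIndexIn F p) (hU : U₁ = U₂) :
    SameHoms D₁ D₂ :=
  sameHoms_of_subsystems (subsystem_of_pPowerIndex hS F D₁ h₁ hi₁.1 D₂ hU.le hi₂)
    (subsystem_of_pPowerIndex hS F D₂ h₂ hi₂.1 D₁ hU.ge hi₁)

theorem hyperfocalSubgroup_le (F : FusionSystem S) (p : ℕ) : F.hyperfocalSubgroup p ≤ S := by
  unfold hyperfocalSubgroup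
  rw [Subgroup.closure_le]
  rintro y ⟨P, α, x, hPS, -, rfl⟩
  exact S.mul_mem (S.inv_mem (hPS x.2)) (hPS ((α : MulAut P) x).2)

theorem hasPPowerIndexIn_self (F : FusionSystem S) (p : ℕ) : F.HasPPowerIndexIn F p :=
  ⟨fun _ => subset_rfl, hyperfocalSubgroup_le F p, fun _ _ => Subgroup.map_subtype_le _⟩

/-- The hyperfocal subgroup of a subsystem is contained in that of the system. -/
theorem hyperfocal_le_of_subsystem (F : FusionSystem S) {T : Subgroup Ω} (E : FusionSystem T)
    (hEF : E.IsSubsystemOf F) (p : ℕ) : E.hyperfocalSubgroup p ≤ F.hyperfocalSubgroup p := by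
  have hTS : T ≤ S := (F.le_of_mem (hEF T (Helper84.subtype_mem E le_rfl))).1
  show Subgroup.closure _ ≤ _
  rw [Subgroup.closure_le]
  rintro y ⟨P, a, x, hPT, ha, rfl⟩
  have hPS : P ≤ S := hPT.trans hTS
  have hle : E.autGroup P ≤ F.autGroup P := by
    intro α hα
    rw [Helper84.mem_autGroup_iff F hPS]
    exact hEF P ((Helper84.mem_autGroup_iff E hPT α).mp hα)
  exact Subgroup.subset_closure
    ⟨P, Subgroup.inclusion hle a, x, hPS, map_pResidual_mem' p (Subgroup.inclusion hle) ha, rfl⟩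

/-- If `E` is a subsystem of `p`-power index in `F` over a strongly closed subgroup `T`, then the hyperfocal
subgroup of `F` is contained in that of `E`. -/
theorem hyperfocal_le_of_pPowerIndex [Finite S] {p : ℕ} [Fact p.Prime] (hS : IsPGroup p S) (F : FusionSystem S)
    {T : Subgroup Ω} (E : FusionSystem T) (hT : F.StronglyClosed T) (hidx : E.HasPPowerIndexIn F p) :
    F.hyperfocalSubgroup p ≤ E.hyperfocalSubgroup p := by
  classical
  have hTS : T ≤ S := hT.1
  show Subgroup.closure _ ≤ _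
  rw [Subgroup.closure_le]
  rintro y ⟨P, a, x, hPS, ha, rfl⟩
  have hfinP : Finite P := Helper84.finite_of_le hPS
  suffices key : ∀ a : F.autGroup P, a ∈ pResidual p (F.autGroup P) →
      ∀ x : P, (x : Ω)⁻¹ * ((a : MulAut P) x : P) ∈ E.hyperfocalSubgroup p from key a ha x
  intro a ha
  refine Subgroup.closure_induction (p := fun (a : F.autGroup P) _ =>
    ∀ x : P, (x : Ω)⁻¹ * ((a : MulAut P) x : P) ∈ E.hyperfocalSubgroup p) ?_ ?_ ?_ ?_ ha
  · -- an automorphism of order prime to `p`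
    intro a hcop x
    have hα : (a : MulAut P) ∈ F.autGroup P := a.2
    set α : MulAut P := (a : MulAut P) with hαdef
    have hcop' : Nat.Coprime (orderOf α) p := by
      rw [hαdef, Subgroup.orderOf_coe]; exact hcop
    let zP : P := x⁻¹ * α x
    have hz_hyp : (zP : Ω) ∈ F.hyperfocalSubgroup p :=
      Subgroup.subset_closure ⟨P, a, x, hPS, Subgroup.subset_closure hcop, rfl⟩
    have hzT : (zP : Ω) ∈ T := hidx.2.1 hz_hyp
    have hQP : P ⊓ T ≤ P := inf_le_left
    have hQT : P ⊓ T ≤ T := inf_le_right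
    have hQS : P ⊓ T ≤ S := hQP.trans hPS
    have hfinQ : Finite ↥(P ⊓ T) := Helper84.finite_of_le hQS
    have hiff : ∀ y : P, ((α y : P) : Ω) ∈ T ↔ (y : Ω) ∈ T := fun y =>
      Helper85.stronglyClosed_aut_mem_iff hT hPS hα y
    let r : ↥(P ⊓ T) →* ↥(P ⊓ T) :=
      ((P.subtype.comp α.toMonoidHom).comp (Subgroup.inclusion hQP)).codRestrict (P ⊓ T)
        (fun y => ⟨(α (Subgroup.inclusion hQP y)).2, (hiff _).mpr y.2.2⟩)
    have hr_inj : Function.Injective r := by
      intro y y' h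
      have h1 : ((α (Subgroup.inclusion hQP y) : P) : Ω) = ((α (Subgroup.inclusion hQP y') : P) : Ω) :=
        congrArg (fun z : ↥(P ⊓ T) => (z : Ω)) h
      have h2 := α.injective (Subtype.ext h1)
      exact Subtype.ext (congrArg (fun z : P => (z : Ω)) h2)
    let αQ : MulAut ↥(P ⊓ T) := MulEquiv.ofBijective r (Finite.injective_iff_bijective.mp hr_inj)
    have hαQ : ∀ y : ↥(P ⊓ T), ((α (Subgroup.inclusion hQP y) : P) : Ω) = ((αQ y : ↥(P ⊓ T)) : Ω) :=
      fun _ => rfl
    have hpow : ∀ (m : ℕ) (y : ↥(P ⊓ T)),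
        (((α ^ m) (Subgroup.inclusion hQP y) : P) : Ω) = (((αQ ^ m) y : ↥(P ⊓ T)) : Ω) :=
      fun m y => Helper85.pow_restrict hQP α αQ hαQ m y
    have hαQF : αQ ∈ F.autGroup (P ⊓ T) :=
      (Helper84.mem_autGroup_iff F hQS αQ).mpr
        (Helper84.hom_of_restrict F ((Helper84.mem_autGroup_iff F hPS α).mp hα) hQP (fun y => rfl))
    have hαQk : αQ ^ orderOf α = 1 := by
      apply MulEquiv.ext
      intro y
      apply Subtype.ext
      rw [← hpow, pow_orderOf_eq_one]
      rfl
    have hcopQ : Nat.Coprime (orderOf αQ) p :=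
      Nat.Coprime.coprime_dvd_left (orderOf_dvd_of_pow_eq_one hαQk) hcop'
    have hb : (⟨αQ, hαQF⟩ : F.autGroup (P ⊓ T)) ∈ pResidual p (F.autGroup (P ⊓ T)) := by
      apply Subgroup.subset_closure
      show Nat.Coprime (orderOf (⟨αQ, hαQF⟩ : F.autGroup (P ⊓ T))) p
      rw [Subgroup.orderOf_mk]; exact hcopQ
    have hαQE : αQ ∈ E.autGroup (P ⊓ T) := hidx.2.2 (P ⊓ T) hQT ⟨_, hb, rfl⟩
    have hb' : (⟨αQ, hαQE⟩ : E.autGroup (P ⊓ T)) ∈ pResidual p (E.autGroup (P ⊓ T)) := by
      apply Subgroup.subset_closure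
      show Nat.Coprime (orderOf (⟨αQ, hαQE⟩ : E.autGroup (P ⊓ T))) p
      rw [Subgroup.orderOf_mk]; exact hcopQ
    have hgen : ∀ (y : ↥(P ⊓ T)) (i : ℕ),
        (y : Ω)⁻¹ * (((αQ ^ i) y : ↥(P ⊓ T)) : Ω) ∈ E.hyperfocalSubgroup p := fun y i =>
      Subgroup.subset_closure ⟨P ⊓ T, (⟨αQ, hαQE⟩ : E.autGroup (P ⊓ T)) ^ i, y, hQT,
        Subgroup.pow_mem _ hb' i, rfl⟩
    let M₀ : Subgroup Ω := Subgroup.closure
      {m : Ω | ∃ (y : ↥(P ⊓ T)) (i : ℕ), m = (y : Ω)⁻¹ * (((αQ ^ i) y : ↥(P ⊓ T)) : Ω)}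
    have hM₀ : M₀ ≤ E.hyperfocalSubgroup p := by
      rw [Subgroup.closure_le]
      rintro _ ⟨y, i, rfl⟩
      exact hgen y i
    have hnorm : ∀ q : ↥(P ⊓ T), ∀ m ∈ M₀, (q : Ω)⁻¹ * m * q ∈ M₀ := by
      intro q m hm
      refine Subgroup.closure_induction (p := fun m _ => (q : Ω)⁻¹ * m * q ∈ M₀) ?_ ?_ ?_ ?_ hm
      · rintro _ ⟨y, i, rfl⟩
        have h1 : (q : Ω)⁻¹ * ((y : Ω)⁻¹ * (((αQ ^ i) y : ↥(P ⊓ T)) : Ω)) * q =
            (((y * q : ↥(P ⊓ T)) : Ω)⁻¹ * (((αQ ^ i) (y * q) : ↥(P ⊓ T)) : Ω)) *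
              ((q : Ω)⁻¹ * (((αQ ^ i) q : ↥(P ⊓ T)) : Ω))⁻¹ := by
          rw [map_mul, Subgroup.coe_mul, Subgroup.coe_mul]
          group
        rw [h1]
        exact Subgroup.mul_mem _ (Subgroup.subset_closure ⟨y * q, i, rfl⟩)
          (Subgroup.inv_mem _ (Subgroup.subset_closure ⟨q, i, rfl⟩))
      · simp
      · intro m m' _ _ h h'
        have h1 : (q : Ω)⁻¹ * (m * m') * q = ((q : Ω)⁻¹ * m * q) * ((q : Ω)⁻¹ * m' * q) := by group
        rw [h1]
        exact Subgroup.mul_mem _ h h'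
      · intro m _ h
        have h1 : (q : Ω)⁻¹ * m⁻¹ * q = ((q : Ω)⁻¹ * m * q)⁻¹ := by group
        rw [h1]
        exact Subgroup.inv_mem _ h
    let zQ : ↥(P ⊓ T) := ⟨zP, ⟨zP.2, hzT⟩⟩
    have hw : ∀ j : ℕ, ∃ m ∈ M₀, (x : Ω)⁻¹ * (((α ^ j) x : P) : Ω) = (zP : Ω) ^ j * m := by
      intro j
      induction j with
      | zero => exact ⟨1, Subgroup.one_mem _, by simp⟩
      | succ j ih =>
        obtain ⟨m, hm, hmj⟩ := ih
        have h1 : (α ^ (j + 1)) x = (α ^ j) x * (α ^ j) zP := by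
          rw [pow_succ, MulAut.mul_apply, ← map_mul]
          congr 1
          show α x = x * (x⁻¹ * α x)
          group
        have h2 : (((α ^ j) zP : P) : Ω) = (((αQ ^ j) zQ : ↥(P ⊓ T)) : Ω) := hpow j zQ
        refine ⟨((zP : Ω)⁻¹ * m * zP) * ((zP : Ω)⁻¹ * (((αQ ^ j) zQ : ↥(P ⊓ T)) : Ω)),
          Subgroup.mul_mem _ (hnorm zQ m hm) (Subgroup.subset_closure ⟨zQ, j, rfl⟩), ?_⟩
        rw [h1, Subgroup.coe_mul, ← mul_assoc, hmj, h2, pow_succ]
        group
    obtain ⟨m, hm, hmk⟩ := hw (orderOf α)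
    rw [pow_orderOf_eq_one] at hmk
    have hzk : (zP : Ω) ^ orderOf α ∈ E.hyperfocalSubgroup p := by
      have h1 : (zP : Ω) ^ orderOf α = m⁻¹ := by
        have h2 : (zP : Ω) ^ orderOf α * m = 1 := by
          rw [← hmk]
          show (x : Ω)⁻¹ * (x : Ω) = 1
          rw [inv_mul_cancel]
        exact eq_inv_of_mul_eq_one_left h2
      rw [h1]
      exact Subgroup.inv_mem _ (hM₀ hm)
    obtain ⟨n, hn⟩ := hS ⟨zP, hPS zP.2⟩
    have hn' : (zP : Ω) ^ p ^ n = 1 := by
      have := congrArg Subtype.val hn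
      simpa using this
    have hcopz : Nat.Coprime (orderOf α) (orderOf (zP : Ω)) :=
      Nat.Coprime.coprime_dvd_right (orderOf_dvd_of_pow_eq_one hn') (Nat.Coprime.pow_right n hcop')
    obtain ⟨m', hm'⟩ := exists_pow_eq_self_of_coprime hcopz
    have hfinal : (zP : Ω) ∈ E.hyperfocalSubgroup p := by
      rw [← hm']
      exact Subgroup.pow_mem _ hzk m'
    exact hfinal
  · intro x
    have h1 : (x : Ω)⁻¹ * ((((1 : F.autGroup P) : MulAut P) x : P) : Ω) = 1 := by
      show (x : Ω)⁻¹ * (x : Ω) = 1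
      rw [inv_mul_cancel]
    rw [h1]
    exact Subgroup.one_mem _
  · intro a b _ _ iha ihb x
    have h1 : (x : Ω)⁻¹ * ((((a * b : F.autGroup P) : MulAut P) x : P) : Ω) =
        ((x : Ω)⁻¹ * (((b : MulAut P) x : P) : Ω)) *
          ((((b : MulAut P) x : P) : Ω)⁻¹ * (((a : MulAut P) ((b : MulAut P) x) : P) : Ω)) := by
      show (x : Ω)⁻¹ * (((a : MulAut P) ((b : MulAut P) x) : P) : Ω) = _
      group
    rw [h1]
    exact Subgroup.mul_mem _ (ihb x) (iha _)
  · intro a _ iha x
    have h1 := iha (((a⁻¹ : F.autGroup P) : MulAut P) x)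
    have h2 : (a : MulAut P) (((a⁻¹ : F.autGroup P) : MulAut P) x) = x := by
      rw [Subgroup.coe_inv]
      exact MulAut.apply_inv_self _ _ _
    rw [h2] at h1
    have h3 : (x : Ω)⁻¹ * ((((a⁻¹ : F.autGroup P) : MulAut P) x : P) : Ω) =
        (((((a⁻¹ : F.autGroup P) : MulAut P) x : P) : Ω)⁻¹ * (x : Ω))⁻¹ := by group
    rw [h3]
    exact Subgroup.inv_mem _ h1

/-- A subsystem of `p`-power index in a subsystem of `p`-power index has `p`-power index, provided it is over a
subgroup containing the hyperfocal subgroup of the big system. -/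
theorem hasPPowerIndexIn_trans {p : ℕ} (F : FusionSystem S) {T U : Subgroup Ω} (E : FusionSystem T)
    (hidx : E.HasPPowerIndexIn F p) (D : FusionSystem U) (hD : D.HasPPowerIndexIn E p)
    (hU : F.hyperfocalSubgroup p ≤ U) : D.HasPPowerIndexIn F p := by
  have hUT : U ≤ T := (E.le_of_mem (hD.1 U (Helper84.subtype_mem D le_rfl))).1
  refine ⟨fun P => (hD.1 P).trans (hidx.1 P), hU, fun P hPU => ?_⟩
  have hPT : P ≤ T := hPU.trans hUT
  rintro _ ⟨a, ha, rfl⟩
  apply hD.2.2 P hPU
  refine Subgroup.closure_induction (p := fun (a : F.autGroup P) _ =>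
    (a : MulAut P) ∈ (pResidual p (E.autGroup P)).map (E.autGroup P).subtype) ?_ ?_ ?_ ?_ ha
  · intro a hcop
    have hmem : (a : MulAut P) ∈ E.autGroup P := hidx.2.2 P hPT ⟨a, Subgroup.subset_closure hcop, rfl⟩
    refine ⟨⟨a, hmem⟩, Subgroup.subset_closure ?_, rfl⟩
    show Nat.Coprime (orderOf (⟨(a : MulAut P), hmem⟩ : E.autGroup P)) p
    rw [Subgroup.orderOf_mk, Subgroup.orderOf_coe]
    exact hcop
  · exact Subgroup.one_mem _
  · intro a b _ _ iha ihb
    exact Subgroup.mul_mem _ iha ihb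
  · intro a _ iha
    exact Subgroup.inv_mem _ iha

theorem sameHoms_of_pPrimeResidual {p : ℕ} {V : Subgroup Ω} (X X₁ X₂ : FusionSystem V)
    (h₁ : X.IsPPrimeResidual p X₁) (h₂ : X.IsPPrimeResidual p X₂) : SameHoms X₁ X₂ :=
  sameHoms_of_subsystems (h₁.2.2 X₂ h₂.1 h₂.2.1) (h₂.2.2 X₁ h₁.1 h₁.2.1)

theorem sameHoms_of_pPrimeResidual' {p : ℕ} {U V : Subgroup Ω} {D D' : FusionSystem U} {X X' : FusionSystem V}
    (h : SameHoms D X) (h₁ : D.IsPPrimeResidual p D') (h₂ : X.IsPPrimeResidual p X') : SameHoms D' X' := by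
  obtain rfl := h.subgroup_eq
  obtain rfl : D = X := Helper84.fusionSystem_ext h
  exact sameHoms_of_pPrimeResidual D D' X' h₁ h₂

/-- A system that is its own `p`-residual and `p'`-residual subsystem. -/
def IsStable (F : FusionSystem S) (p : ℕ) : Prop :=
  F.hyperfocalSubgroup p = S ∧ F.IsPPrimeResidual p F

theorem IsStable.congr {p : ℕ} {U V : Subgroup Ω} {D : FusionSystem U} {X : FusionSystem V}
    (h : SameHoms D X) (hD : IsStable D p) : IsStable X p :=
  h.elim (motive := fun {V} (X : FusionSystem V) => IsStable X p) hD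

/-- A residual limit of a stable saturated system is the system itself. -/
theorem sameHoms_of_limit_of_stable {Ω : Type*} [Group Ω] {p : ℕ} {T : Subgroup Ω}
    {L : FusionSystem T} {S : Subgroup Ω} {F : FusionSystem S} (h : IsResidualLimitOf L F p) :
    Fact p.Prime → Finite S → IsPGroup p S → F.IsSaturated p → IsStable F p → SameHoms L F := by
  induction h with
  | stable F p _ _ => intros; exact SameHoms.refl F
  | step F p D D' hD hD' hL ih =>
    intro hp hfin hS hF hst
    have hDF : SameHoms D F :=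
      sameHoms_of_pPowerIndex hS F D F hD.1 hF hD.2 (hasPPowerIndexIn_self F p) hst.1
    have hD'F : SameHoms D' F := sameHoms_of_pPrimeResidual' hDF hD' hst.2
    have hle := hyperfocalSubgroup_le F p
    have hfin' : Finite (F.hyperfocalSubgroup p) := Helper84.finite_of_le hle
    exact (ih hp hfin' (hS.to_le hle) hD'.1 (IsStable.congr hD'F.symm hst)).trans hD'F

/-- Uniqueness of the residual limit of a saturated system. -/
theorem sameHoms_of_limits {Ω : Type*} [Group Ω] {p : ℕ} {T₁ : Subgroup Ω}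
    {L₁ : FusionSystem T₁} {S : Subgroup Ω} {F : FusionSystem S} (h : IsResidualLimitOf L₁ F p) :
    Fact p.Prime → Finite S → IsPGroup p S → F.IsSaturated p →
      ∀ {T₂ : Subgroup Ω} (L₂ : FusionSystem T₂), IsResidualLimitOf L₂ F p → SameHoms L₁ L₂ := by
  induction h with
  | stable F p h1 h2 =>
    intro hp hfin hS hF T₂ L₂ h'
    exact (sameHoms_of_limit_of_stable h' hp hfin hS hF ⟨h1, h2⟩).symm
  | step F p D D' hD hD' hL ih =>
    intro hp hfin hS hF T₂ L₂ h'
    have hle := hyperfocalSubgroup_le F p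
    have hfin' : Finite (F.hyperfocalSubgroup p) := Helper84.finite_of_le hle
    cases h' with
    | stable _ _ h1 h2 =>
      exact sameHoms_of_limit_of_stable (IsResidualLimitOf.step F p D D' hD hD' hL) hp hfin hS hF ⟨h1, h2⟩
    | step _ _ D₂ D₂' hD₂ hD₂' hL₂ =>
      have e1 : D = D₂ :=
        Helper84.fusionSystem_ext (sameHoms_of_pPowerIndex hS F D D₂ hD.1 hD₂.1 hD.2 hD₂.2 rfl)
      subst e1
      have e2 : D' = D₂' := Helper84.fusionSystem_ext (sameHoms_of_pPrimeResidual D D' D₂' hD' hD₂')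
      subst e2
      exact ih hp hfin' (hS.to_le hle) hD'.1 L₂ hL₂

/-- A saturated subsystem of `p`-power index over a strongly closed subgroup has the same residual limits as
the whole (saturated) system. -/
theorem sameHoms_limit_of_pPowerIndex {Ω : Type*} [Group Ω] {S : Subgroup Ω} [Finite S] {p : ℕ} [Fact p.Prime]
    (hS : IsPGroup p S) (F : FusionSystem S) (hF : F.IsSaturated p) {T : Subgroup Ω} (E : FusionSystem T)
    (hEsat : E.IsSaturated p) (hT : F.StronglyClosed T) (hidx : E.HasPPowerIndexIn F p)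
    {U V : Subgroup Ω} (Finf : FusionSystem U) (hFinf : IsResidualLimitOf Finf F p)
    (Einf : FusionSystem V) (hEinf : IsResidualLimitOf Einf E p) : SameHoms Finf Einf := by
  have hTS : T ≤ S := hT.1
  have hfinT : Finite T := Helper84.finite_of_le hTS
  have hTp : IsPGroup p T := hS.to_le hTS
  have hhyp : E.hyperfocalSubgroup p = F.hyperfocalSubgroup p :=
    le_antisymm (hyperfocal_le_of_subsystem F E hidx.1 p) (hyperfocal_le_of_pPowerIndex hS F E hT hidx)
  have hleF := hyperfocalSubgroup_le F p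
  have hfinF : Finite (F.hyperfocalSubgroup p) := Helper84.finite_of_le hleF
  have hleE := hyperfocalSubgroup_le E p
  have hfinE : Finite (E.hyperfocalSubgroup p) := Helper84.finite_of_le hleE
  cases hEinf with
  | stable _ _ h1 h2 =>
    -- `E` is stable
    cases hFinf with
    | stable _ _ h3 h4 =>
      exact (sameHoms_of_pPowerIndex hS F E F hEsat hF hidx (hasPPowerIndexIn_self F p)
        (h1.symm.trans (hhyp.trans h3))).symm
    | step _ _ D D' hD hD' hL =>
      have hDE : SameHoms D E :=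
        sameHoms_of_pPowerIndex hS F D E hD.1 hEsat hD.2 hidx (hhyp.symm.trans h1)
      have hD'E : SameHoms D' E := sameHoms_of_pPrimeResidual' hDE hD' h2
      exact (sameHoms_of_limit_of_stable hL inferInstance hfinF (hS.to_le hleF) hD'.1
        (IsStable.congr hD'E.symm ⟨h1, h2⟩)).trans hD'E
  | step _ _ DE DE' hDE hDE' hLE =>
    have hDEF : DE.HasPPowerIndexIn F p := hasPPowerIndexIn_trans F E hidx DE hDE.2 hhyp.ge
    cases hFinf with
    | stable _ _ h3 h4 =>
      have h5 : SameHoms DE F :=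
        sameHoms_of_pPowerIndex hS F DE F hDE.1 hF hDEF (hasPPowerIndexIn_self F p) (hhyp.trans h3)
      have h6 : SameHoms DE' F := sameHoms_of_pPrimeResidual' h5 hDE' h4
      exact ((sameHoms_of_limit_of_stable hLE inferInstance hfinE (hTp.to_le hleE) hDE'.1
        (IsStable.congr h6.symm ⟨h3, h4⟩)).trans h6).symm
    | step _ _ D D' hD hD' hL =>
      have h5 : SameHoms DE D := sameHoms_of_pPowerIndex hS F DE D hDE.1 hD.1 hDEF hD.2 hhyp
      have h6 : SameHoms DE' D' := sameHoms_of_pPrimeResidual' h5 hDE' hD'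
      have hL' : IsResidualLimitOf Finf DE' p :=
        h6.symm.elim (motive := fun {V} (X : FusionSystem V) => IsResidualLimitOf Finf X p) hL
      exact (sameHoms_of_limits hLE inferInstance hfinE (hTp.to_le hleE) hDE'.1 Finf hL').symm

end Cfsg.Agent.Helper86
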