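import Cfsg.Agent.Helper86.FusBase

/-!
# The normalizer system of `S` itself

For a fusion system `F` over a finite group `S`, the map sets `F.normalizerHom S P` form a fusion system over
`N_S(S)`, and they consist of the restrictions of the maps of `F` with source `S`.
-/

set_option autoImplicit false

namespace Cfsg.Agent.Helper86

open Cfsg Cfsg.FusionSystem

variable {Ω : Type*} [Group Ω] {S : Subgroup Ω}

/-- A map of the system with source `S` (finite) is onto `S`. -/
theorem hom_top_surj [Finite S] (F : FusionSystem S) {χ : S →* Ω} (hχ : χ ∈ F.Hom S) (y : Ω) (hy : y ∈ S) :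
    ∃ x : S, χ x = y := by
  let r : S → S := fun x => ⟨χ x, (F.le_of_mem hχ).2 x⟩
  have hrinj : Function.Injective r := by
    intro a b hab
    have h1 : χ a = χ b := congrArg (fun z : S => (z : Ω)) hab
    exact F.injective_of_mem hχ h1
  obtain ⟨x, hx⟩ := (Finite.injective_iff_surjective.mp hrinj) ⟨y, hy⟩
  exact ⟨x, congrArg (fun z : S => (z : Ω)) hx⟩

theorem hom_top_range [Finite S] (F : FusionSystem S) {χ : S →* Ω} (hχ : χ ∈ F.Hom S) : χ.range = S := by
  ext y
  constructor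
  · rintro ⟨x, rfl⟩
    exact (F.le_of_mem hχ).2 x
  · intro hy
    exact hom_top_surj F hχ y hy

/-- The maps of `N_F(S)` are the restrictions of the maps of the system with source `S`. -/
theorem mem_normalizerHom_self_iff [Finite S] (F : FusionSystem S) {P : Subgroup Ω} {φ : P →* Ω} :
    φ ∈ F.normalizerHom S P ↔
      P ≤ S ∧ ∃ χ ∈ F.Hom S, ∀ (x : P) (hx : (x : Ω) ∈ S), φ x = χ ⟨x, hx⟩ := by
  constructor
  · rintro ⟨hφ, hPN, -, ψ, hψ, hψφ, -⟩
    have hPS : P ≤ S := hPN.trans inf_le_left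
    refine ⟨hPS, ψ.comp (Subgroup.inclusion (le_sup_right : S ≤ P ⊔ S)),
      hom_of_restrict F hψ le_sup_right (fun x => rfl), fun x hx => ?_⟩
    rw [← hψφ x]
    rfl
  · rintro ⟨hPS, χ, hχ, h⟩
    have hsup : P ⊔ S ≤ S := sup_le hPS le_rfl
    refine ⟨hom_of_restrict F hχ hPS (fun x => h x (hPS x.2)),
      fun x hx => ⟨hPS hx, Subgroup.le_normalizer (hPS hx)⟩,
      fun x => ?_, χ.comp (Subgroup.inclusion hsup), hom_of_restrict F hχ hsup (fun x => rfl),
      fun x => ?_, ?_⟩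
    · rw [h x (hPS x.2)]
      have := (F.le_of_mem hχ).2 ⟨x, hPS x.2⟩
      exact ⟨this, Subgroup.le_normalizer this⟩
    · rw [h x (hPS x.2)]
      rfl
    · ext y
      constructor
      · rintro ⟨x, -, rfl⟩
        exact (F.le_of_mem hχ).2 _
      · intro hy
        obtain ⟨x, hx⟩ := hom_top_surj F hχ y hy
        have hSle : S ≤ P ⊔ S := le_sup_right
        refine ⟨⟨x, hSle x.2⟩, ?_, ?_⟩
        · show (⟨(x : Ω), hSle x.2⟩ : ↥(P ⊔ S)) ∈ S.subgroupOf (P ⊔ S)
          rw [Subgroup.mem_subgroupOf]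
          exact x.2
        · rw [← hx]
          rfl

/-- The normalizer system of `S` in a fusion system over the finite group `S`. -/
def normalizerSelf [Finite S] (F : FusionSystem S) : FusionSystem (normalizerIn S S) where
  Hom P := F.normalizerHom S P
  le_of_mem := by
    rintro P φ ⟨-, hPN, hφN, -⟩
    exact ⟨hPN, hφN⟩
  injective_of_mem := by
    rintro P φ ⟨hφ, -⟩
    exact F.injective_of_mem hφ
  conj_mem := by
    intro P g hP hg
    rw [mem_normalizerHom_self_iff]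
    exact ⟨hP.trans inf_le_left, conjHom S g, F.conj_mem le_rfl hg.1, fun x hx => rfl⟩
  comp_mem := by
    intro P Q φ ψ hφ hψ h
    rw [mem_normalizerHom_self_iff] at hφ hψ ⊢
    obtain ⟨hPS, χ₁, hχ₁, h₁⟩ := hφ
    obtain ⟨hQS, χ₂, hχ₂, h₂⟩ := hψ
    refine ⟨hPS, χ₂.comp (χ₁.codRestrict S (F.le_of_mem hχ₁).2),
      F.comp_mem hχ₁ hχ₂ (F.le_of_mem hχ₁).2, fun x hx => ?_⟩
    show ψ ⟨φ x, h x⟩ = χ₂ ⟨χ₁ ⟨x, hx⟩, _⟩
    rw [h₂ ⟨φ x, h x⟩ (hQS (h x))]
    congr 1
    exact Subtype.ext (h₁ x hx)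
  inv_mem := by
    intro P φ hφ
    rw [mem_normalizerHom_self_iff] at hφ
    obtain ⟨hPS, χ, hχ, h⟩ := hφ
    obtain ⟨ψ₀, hψ₀, -, hinv, -⟩ := hom_inv F hχ (hom_top_range F hχ)
    have hrange : φ.range ≤ S := by
      rintro _ ⟨x, rfl⟩
      rw [h x (hPS x.2)]
      exact (F.le_of_mem hχ).2 _
    refine ⟨ψ₀.comp (Subgroup.inclusion hrange), ?_, fun x => ?_⟩
    · rw [mem_normalizerHom_self_iff]
      exact ⟨hrange, ψ₀, hψ₀, fun y hy => rfl⟩
    · have h3 := hinv ⟨x, hPS x.2⟩ ((F.le_of_mem hχ).2 _)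
      show ψ₀ ⟨φ x, _⟩ = (x : Ω)
      rw [← h3]
      congr 1
      exact Subtype.ext (h x (hPS x.2))

theorem normalizerSelf_isNormalizerSystem [Finite S] (F : FusionSystem S) :
    F.IsNormalizerSystem S (normalizerSelf F) := fun _ => rfl

/-- If the normalizer system of `S` is the inner system of `N_S(S)`, then every map of the system with source
`S` is conjugation by an element of `S`. -/
theorem inn_of_normalizerSelf [Finite S] (F : FusionSystem S)
    (hN : ∀ N : FusionSystem (normalizerIn S S), F.IsNormalizerSystem S N →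
      ∀ P : Subgroup Ω, N.Hom P = (innerFusionSystem (normalizerIn S S)).Hom P) :
    ∀ ψ ∈ F.Hom S, ∃ s ∈ S, ∀ x : S, ψ x = s * (x : Ω) * s⁻¹ := by
  intro ψ hψ
  have h1 : ψ ∈ (normalizerSelf F).Hom S := by
    show ψ ∈ F.normalizerHom S S
    rw [mem_normalizerHom_self_iff]
    exact ⟨le_rfl, ψ, hψ, fun x hx => rfl⟩
  rw [hN (normalizerSelf F) (normalizerSelf_isNormalizerSystem F) S] at h1
  obtain ⟨-, g, hg, h⟩ := h1
  exact ⟨g, hg.1, h⟩

end Cfsg.Agent.Helper86
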