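import Cfsg.Agent.Helper86.TateCore

/-!
# Fusion systems acting trivially modulo the Frattini subgroup (helper86)

* `inv_mul_mem_frattini`: if `Aut_F(S)` is induced by `S` and `Φ(S)` is strongly closed in the saturated fusion
  system `F`, then `x⁻¹ φ(x) ∈ Φ(S)` for every map `φ` of `F`;
* `inner_of_top_inner_of_frattini_closed`: under the same hypotheses `F` is the inner fusion system of `S`.
-/

set_option autoImplicit false

namespace Cfsg.Agent.Helper86

open Cfsg Cfsg.FusionSystem Cfsg.Agent.Helper87 MulAction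
open scoped commutatorElement

universe u

variable {Ω : Type u} [Group Ω] {S : Subgroup Ω}

theorem inv_mul_conj_mem_frattini [Finite S] {p : ℕ} [Fact p.Prime] (hS : IsPGroup p S) {a b : Ω}
    (ha : a ∈ S) (hb : b ∈ S) : a⁻¹ * (b * a * b⁻¹) ∈ (frattini ↥S).map S.subtype := by
  refine ⟨⁅(⟨a, ha⟩ : ↥S)⁻¹, ⟨b, hb⟩⁆, ?_, ?_⟩
  · apply commutator_le_frattini hS
    rw [commutator_def]
    exact Subgroup.commutator_mem_commutator (Subgroup.mem_top _) (Subgroup.mem_top _)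
  · rw [commutatorElement_def]
    show a⁻¹ * b * a⁻¹⁻¹ * b⁻¹ = a⁻¹ * (b * a * b⁻¹)
    group

theorem inv_mul_mem_frattini [Finite S] {p : ℕ} [Fact p.Prime] (hS : IsPGroup p S) (F : FusionSystem S)
    (hF : F.IsSaturated p)
    (hInn : ∀ ψ ∈ F.Hom S, ∃ s ∈ S, ∀ x : S, ψ x = s * (x : Ω) * s⁻¹)
    (hΦ : F.StronglyClosed ((frattini ↥S).map S.subtype)) :
    ∀ (P : Subgroup Ω) (φ : P →* Ω), φ ∈ F.Hom P →
      ∀ x : P, (x : Ω)⁻¹ * φ x ∈ (frattini ↥S).map S.subtype := by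
  refine alperin_induction hS F hF
    (fun P φ => ∀ x : P, (x : Ω)⁻¹ * φ x ∈ (frattini ↥S).map S.subtype) ?_ ?_ ?_ ?_
  · intro P Q hQP φ θ hφ hθ hC x
    rw [hθ]
    exact hC ⟨x, hQP x.2⟩
  · intro P Q φ ψ θ hφ hψ hPQ hθ hCφ hCψ x
    rw [hθ]
    have e : (x : Ω)⁻¹ * ψ ⟨φ x, hPQ x⟩ = ((x : Ω)⁻¹ * φ x) * ((φ x)⁻¹ * ψ ⟨φ x, hPQ x⟩) := by group
    rw [e]
    exact Subgroup.mul_mem _ (hCφ x) (hCψ ⟨φ x, hPQ x⟩)
  · intro P Q φ ψ hφ hψ hr hPQ hψφ hC y
    have hy : (y : Ω) ∈ φ.range := by rw [hr]; exact y.2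
    obtain ⟨x, hx⟩ := hy
    have h1 := hψφ x
    have h2 : (⟨φ x, hPQ x⟩ : Q) = y := Subtype.ext hx
    rw [h2] at h1
    rw [h1, ← hx]
    have e : (φ x)⁻¹ * (x : Ω) = ((x : Ω)⁻¹ * φ x)⁻¹ := by group
    rw [e]
    exact Subgroup.inv_mem _ (hC x)
  · intro R hfa hrec hbig α hα
    have hRS : R ≤ S := hfa.1
    by_cases hR : R = S
    · subst hR
      intro x
      obtain ⟨s, hs, h⟩ := hInn _ ((mem_autGroup_iff F (le_refl _) α).1 hα)
      rw [h x]
      exact inv_mul_conj_mem_frattini hS x.2 hs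
    · -- an element of `N_S(R)` outside `R`
      have hlt := card_lt_card_normalizerIn hS hRS hR
      have hex : ∃ t ∈ normalizerIn S R, t ∉ R := by
        by_contra hcon
        have hle : normalizerIn S R ≤ R := by
          intro t ht
          by_contra htR
          exact hcon ⟨t, ht, htR⟩
        have hfin : Finite R := finite_of_le hRS
        have := Subgroup.card_le_of_le hle
        omega
      obtain ⟨t, ht, htR⟩ := hex
      let K₀ : Subgroup (MulAut R) :=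
        { carrier := {κ | ∀ x : R, (x : Ω)⁻¹ * ((κ x : R) : Ω) ∈ (frattini ↥S).map S.subtype}
          mul_mem' := by
            intro κ κ' hκ hκ' x
            have e : (x : Ω)⁻¹ * (((κ * κ') x : R) : Ω) =
                ((x : Ω)⁻¹ * ((κ' x : R) : Ω)) * (((κ' x : R) : Ω)⁻¹ * ((κ (κ' x) : R) : Ω)) := by
              show (x : Ω)⁻¹ * ((κ (κ' x) : R) : Ω) = _
              group
            rw [e]
            exact Subgroup.mul_mem _ (hκ' x) (hκ (κ' x))
          one_mem' := by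
            intro x
            show (x : Ω)⁻¹ * (x : Ω) ∈ _
            rw [inv_mul_cancel]
            exact Subgroup.one_mem _
          inv_mem' := by
            intro κ hκ x
            have h1 := hκ (κ⁻¹ x)
            rw [MulAut.apply_inv_self] at h1
            have e : (x : Ω)⁻¹ * ((κ⁻¹ x : R) : Ω) = (((κ⁻¹ x : R) : Ω)⁻¹ * (x : Ω))⁻¹ := by group
            rw [e]
            exact Subgroup.inv_mem _ h1 }
      have hK : ∀ γ ∈ F.autGroup R, ∀ κ ∈ K₀, γ * κ * γ⁻¹ ∈ K₀ := by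
        intro γ hγ κ hκ x
        have hφγ : R.subtype.comp γ.toMonoidHom ∈ F.Hom R := (mem_autGroup_iff F hRS γ).1 hγ
        have hd := hκ (γ⁻¹ x)
        have h1 := stronglyClosed_apply_mem F hΦ hφγ ((γ⁻¹ x)⁻¹ * κ (γ⁻¹ x)) hd
        have e : (R.subtype.comp γ.toMonoidHom) ((γ⁻¹ x)⁻¹ * κ (γ⁻¹ x)) =
            (x : Ω)⁻¹ * (((γ * κ * γ⁻¹) x : R) : Ω) := by
          show ((γ ((γ⁻¹ x)⁻¹ * κ (γ⁻¹ x)) : R) : Ω) = (x : Ω)⁻¹ * ((γ (κ (γ⁻¹ x)) : R) : Ω)
          rw [map_mul, map_inv, MulAut.apply_inv_self]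
          rfl
        rw [e] at h1
        exact h1
      have htN : t ∈ Subgroup.normalizer (R : Set Ω) := ht.2
      have ht₀K : R.normalizerMonoidHom ⟨t, htN⟩ ∈ K₀ := by
        intro x
        rw [Subgroup.normalizerMonoidHom_apply_apply_coe]
        exact inv_mul_conj_mem_frattini hS (hRS x.2) ht.1
      obtain ⟨κ, hκK, hκA, ν, hνA, hα', R', hRR', hcardR', ψ, hψ, hψν⟩ :=
        frattini_step hS F hfa hrec K₀ hK ⟨t, htN⟩ ht.1 htR ht₀K α hα
      intro x
      have e : (R.subtype.comp α.toMonoidHom) x = ψ ⟨(κ x : R), hRR' (κ x).2⟩ := by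
        rw [hψν (κ x), hα']
        rfl
      rw [e]
      have e2 : (x : Ω)⁻¹ * ψ ⟨(κ x : R), hRR' (κ x).2⟩ =
          ((x : Ω)⁻¹ * ((κ x : R) : Ω)) * (((κ x : R) : Ω)⁻¹ * ψ ⟨(κ x : R), hRR' (κ x).2⟩) := by group
      rw [e2]
      exact Subgroup.mul_mem _ (hκK x) (hbig R' ψ hψ hcardR' ⟨(κ x : R), hRR' (κ x).2⟩)

/-- If `Aut_F(S)` is induced by `S` and `Φ(S)` is strongly closed in the saturated fusion system `F`, then
the hyperfocal subgroup of `F` is trivial. -/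
theorem hyperfocal_eq_bot_of_top_inner [Finite S] {p : ℕ} [Fact p.Prime] (hS : IsPGroup p S)
    (F : FusionSystem S) (hF : F.IsSaturated p)
    (hInn : ∀ ψ ∈ F.Hom S, ∃ s ∈ S, ∀ x : S, ψ x = s * (x : Ω) * s⁻¹)
    (hΦ : F.StronglyClosed ((frattini ↥S).map S.subtype)) : F.hyperfocalSubgroup p = ⊥ := by
  have h1 := inv_mul_mem_frattini hS F hF hInn hΦ
  have hfoc : F.focalSubgroup ≤ (frattini ↥S).map S.subtype := by
    show Subgroup.closure _ ≤ _
    rw [Subgroup.closure_le]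
    rintro y ⟨P, φ, x, hφ, rfl⟩
    exact h1 P φ hφ x
  have hhyp : F.hyperfocalSubgroup p ≤ F.focalSubgroup := by
    rw [Helper84.focal_eq p hS F hF]
    exact le_sup_left
  rw [eq_bot_iff]
  apply hyperfocal_le_of_le_frattini_sup hS F hF ⊥
  · intro s _ u hu
    rw [Subgroup.mem_bot] at hu ⊢
    rw [hu]
    group
  · exact bot_le
  · exact (hhyp.trans hfoc).trans (le_sup_of_le_left le_sup_left)

/-- A saturated fusion system with trivial hyperfocal subgroup is the inner fusion system. -/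
theorem inner_of_hyperfocal_eq_bot [Finite S] {p : ℕ} [Fact p.Prime] (hS : IsPGroup p S)
    (F : FusionSystem S) (hF : F.IsSaturated p) (hhyp : F.hyperfocalSubgroup p = ⊥) :
    ∀ P : Subgroup Ω, F.Hom P = (innerFusionSystem S).Hom P := by
  apply inner_of_aut_pgroup hS F hF
  intro R hRS α hα
  have hfin : Finite R := finite_of_le hRS
  obtain ⟨e, n', hn', hn⟩ := Nat.exists_eq_pow_mul_and_not_dvd (orderOf_pos α).ne' p
    (Fact.out : p.Prime).ne_one
  refine ⟨e, ?_⟩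
  have hβ : (α ^ p ^ e) ^ n' = 1 := by
    rw [← pow_mul, ← hn, pow_orderOf_eq_one]
  have hdvd : orderOf (α ^ p ^ e) ∣ n' := orderOf_dvd_of_pow_eq_one hβ
  have hcop : Nat.Coprime (orderOf (⟨α ^ p ^ e, Subgroup.pow_mem _ hα _⟩ : F.autGroup R)) p := by
    rw [Subgroup.orderOf_mk]
    apply Nat.Coprime.symm
    rw [(Fact.out : p.Prime).coprime_iff_not_dvd]
    intro h
    exact hn' (h.trans hdvd)
  apply MulEquiv.ext
  intro x
  have hgen : (x : Ω)⁻¹ * (((α ^ p ^ e) x : R) : Ω) ∈ F.hyperfocalSubgroup p :=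
    Subgroup.subset_closure ⟨R, ⟨α ^ p ^ e, Subgroup.pow_mem _ hα _⟩, x, hRS,
      Subgroup.subset_closure hcop, rfl⟩
  rw [hhyp, Subgroup.mem_bot] at hgen
  apply Subtype.ext
  show (((α ^ p ^ e) x : R) : Ω) = x
  calc (((α ^ p ^ e) x : R) : Ω) = (x : Ω) * ((x : Ω)⁻¹ * (((α ^ p ^ e) x : R) : Ω)) := by group
    _ = x := by rw [hgen, mul_one]

end Cfsg.Agent.Helper86
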