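import Mathlib

set_option autoImplicit false

/-!
# CALL S1382 (helper1), piece SNA (helper86, double): `bg16c_normalizer_pure`, statement verbatim
from `tools/calls/BG16cSkel.lean.txt`.
-/

namespace Cfsg.Agent.Helper86

open Subgroup

universe u

/-- SNA (pure). The normalizer of a nonempty `X ⊆ (A ⊔ B) \ (A ∪ B)` is `A ⊔ B`. -/
theorem bg16c_normalizer_pure {Γ : Type u} [Group Γ] [Finite Γ] {A B M : Subgroup Γ}
    (hAc : ∀ a ∈ A, ∀ a' ∈ A, a * a' = a' * a) (hBc : ∀ b ∈ B, ∀ b' ∈ B, b * b' = b' * b)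
    (hcomm : ∀ a ∈ A, ∀ b ∈ B, a * b = b * a) (hBM : B ≤ M)
    (hpA : ∀ z ∈ A ⊔ B, z ∉ A → z ^ Nat.card A ∈ B ∧ z ^ Nat.card A ≠ 1)
    (hpB : ∀ z ∈ A ⊔ B, z ∉ B → z ^ Nat.card B ∈ A ∧ z ^ Nat.card B ≠ 1)
    (h2 : ∀ g y : Γ, y ∈ M → y ≠ 1 → g * y * g⁻¹ ∈ B → g ∈ M)
    (h3 : ∀ g x : Γ, g ∈ M → x ∈ A → x ≠ 1 → g * x * g⁻¹ ∈ A → g ∈ A ⊔ B)
    (X : Set Γ) (hX : X ⊆ (↑(A ⊔ B) : Set Γ) \ (↑A ∪ ↑B)) (hne : X.Nonempty) :
    Subgroup.normalizer X = A ⊔ B := by
  have hcommAB : ∀ g ∈ A ⊔ B, ∀ z ∈ A ⊔ B, g * z = z * g := by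
    have h1 : A ⊔ B ≤ centralizer ((↑A ∪ ↑B : Set Γ)) := by
      refine sup_le ?_ ?_
      · intro a ha
        rw [Subgroup.mem_centralizer_iff]
        rintro h (hh | hh)
        · exact hAc h hh a ha
        · exact (hcomm a ha h hh).symm
      · intro b hb
        rw [Subgroup.mem_centralizer_iff]
        rintro h (hh | hh)
        · exact hcomm h hh b hb
        · exact hBc h hh b hb
    intro g hg z hz
    have hg' := Subgroup.mem_centralizer_iff.mp (h1 hg)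
    have h2' : A ⊔ B ≤ centralizer ({g} : Set Γ) := by
      refine sup_le ?_ ?_
      · intro a ha
        rw [Subgroup.mem_centralizer_iff]
        intro h hh
        rw [Set.mem_singleton_iff] at hh
        rw [hh]
        exact (hg' a (Or.inl ha)).symm
      · intro b hb
        rw [Subgroup.mem_centralizer_iff]
        intro h hh
        rw [Set.mem_singleton_iff] at hh
        rw [hh]
        exact (hg' b (Or.inr hb)).symm
    exact Subgroup.mem_centralizer_iff.mp (h2' hz) g (Set.mem_singleton g)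
  apply le_antisymm
  · intro g hg
    rw [Subgroup.mem_set_normalizer_iff] at hg
    obtain ⟨z, hz⟩ := hne
    have hzX := hX hz
    have hz' : g * z * g⁻¹ ∈ X := (hg z).mp hz
    have hz'X := hX hz'
    have hzA : z ∉ A := fun h => hzX.2 (Or.inl h)
    have hzB : z ∉ B := fun h => hzX.2 (Or.inr h)
    have hz'A : g * z * g⁻¹ ∉ A := fun h => hz'X.2 (Or.inl h)
    have hz'B : g * z * g⁻¹ ∉ B := fun h => hz'X.2 (Or.inr h)
    obtain ⟨hy, hy1⟩ := hpA z hzX.1 hzA
    obtain ⟨hy', -⟩ := hpA _ hz'X.1 hz'A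
    rw [conj_pow] at hy'
    have hgM : g ∈ M := h2 g _ (hBM hy) hy1 hy'
    obtain ⟨hx, hx1⟩ := hpB z hzX.1 hzB
    obtain ⟨hx', -⟩ := hpB _ hz'X.1 hz'B
    rw [conj_pow] at hx'
    exact h3 g _ hgM hx hx1 hx'
  · intro g hg
    rw [Subgroup.mem_set_normalizer_iff]
    intro h
    constructor
    · intro hh
      have h1 := hcommAB g hg h (hX hh).1
      have h2' : g * h * g⁻¹ = h := by rw [h1, mul_inv_cancel_right]
      rw [h2']
      exact hh
    · intro hh
      have h0 : g * h * g⁻¹ ∈ A ⊔ B := (hX hh).1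
      have hh' : h ∈ A ⊔ B := by
        have e : h = g⁻¹ * (g * h * g⁻¹) * g := by group
        rw [e]
        exact (A ⊔ B).mul_mem ((A ⊔ B).mul_mem ((A ⊔ B).inv_mem hg) h0) hg
      have h1 := hcommAB g hg h hh'
      have h2' : g * h * g⁻¹ = h := by rw [h1, mul_inv_cancel_right]
      rw [h2'] at hh
      exact hh

end Cfsg.Agent.Helper86
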