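import Cfsg.Agent.Helper96.CWDefs

/-! # Piece C4 of S5707: Clifford relations for `k = 4` -/

set_option autoImplicit false
set_option linter.unusedSectionVars false
set_option linter.unusedSimpArgs false
set_option linter.unusedVariables false

namespace Cfsg.Agent.Helper86.CWC4

open Matrix Cfsg Cfsg.Geo Cfsg.Agent.Helper96 Cfsg.Agent.Helper96.CW

variable {F : Type*} [Field F] {k t : ℕ}

theorem c4_bf (x y : Fin 4 → F) :
    T5.bf (G4 F) x y = x 0 * y 3 + x 1 * y 2 + x 2 * y 1 + x 3 * y 0 := by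
  simp [T5.bf, G4, Matrix.mulVec, dotProduct, Fin.sum_univ_four]

theorem c4_dm (x y : Fin 4 → F) (a b : Fin 4) :
    T5.dm (G4 F) x y a b = x a * y (Fin.rev b) - y a * x (Fin.rev b) := by
  fin_cases b <;>
    simp [T5.dm, T5.rk, G4, Matrix.mulVec, dotProduct, Fin.sum_univ_four, Matrix.vecMulVec_apply,
      Fin.rev]

/-- PIECE C4: Clifford relations for `k = 4`. -/
theorem c4 (h2 : (2 : F) = 0) (W : Matrix (Fin 4) (Fin 4) F) (hW : W ∈ SD (G4 F)) :
    (∃ l : F, Ca F * W + W * Ca F = l • (1 : Matrix (Fin 4) (Fin 4) F)) ∧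
    (∃ l : F, Cb F * W + W * Cb F = l • (1 : Matrix (Fin 4) (Fin 4) F)) := by
  obtain ⟨x, y, hbf, rfl⟩ := hW
  rw [c4_bf] at hbf
  refine ⟨⟨x 0 * y 1 + x 1 * y 0, ?_⟩, ⟨x 0 * y 2 + x 2 * y 0, ?_⟩⟩
  · ext a b
    rw [Matrix.add_apply, Matrix.mul_apply, Matrix.mul_apply, Fin.sum_univ_four, Fin.sum_univ_four]
    simp only [c4_dm]
    fin_cases a <;> fin_cases b <;>
      simp [Ca, Matrix.one_apply, Fin.rev] <;> grind
  · ext a b
    rw [Matrix.add_apply, Matrix.mul_apply, Matrix.mul_apply, Fin.sum_univ_four, Fin.sum_univ_four]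
    simp only [c4_dm]
    fin_cases a <;> fin_cases b <;>
      simp [Cb, Matrix.one_apply, Fin.rev] <;> grind

end Cfsg.Agent.Helper86.CWC4
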