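import Cfsg.Agent.Helper96.CWDefs

/-! # Piece GN of S5707: a Siegel element `1 + X_i Y_j` normalises the span of the Clifford generators -/

set_option autoImplicit false
set_option linter.unusedSectionVars false
set_option linter.unusedSimpArgs false
set_option linter.unusedVariables false

namespace Cfsg.Agent.Helper86.CWGN

open Matrix Cfsg Cfsg.Geo Cfsg.Agent.Helper96 Cfsg.Agent.Helper96.CW

variable {F : Type*} [Field F] {k t : ℕ}

/-- factor matrices at different positions commute -/
theorem gn_comm {i j : Fin t} (hij : i ≠ j) (X Y : Matrix (Fin k) (Fin k) F) :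
    facM i X * facM j Y = facM j Y * facM i X := by
  classical
  rw [facM_eq_ptM, facM_eq_ptM, ptM_mul, ptM_mul]
  congr 1
  funext l
  by_cases hli : l = i
  · subst hli
    simp only [Function.update_self, Function.update_of_ne hij, mul_one, one_mul]
  · by_cases hlj : l = j
    · subst hlj
      simp only [Function.update_self, Function.update_of_ne hli, mul_one, one_mul]
    · simp only [Function.update_of_ne hli, Function.update_of_ne hlj]

/-- the core computation: `(1 + AB) W (1 + AB) = W + λ B` -/
theorem gn_core {ι : Type*} [Fintype ι] [DecidableEq ι] (A B Wm : Matrix ι ι F) (lam : F)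
    (hAB : A * B = B * A) (hBW : B * Wm = Wm * B) (hBB : B * B = 0)
    (hAW : A * Wm + Wm * A = lam • (1 : Matrix ι ι F)) :
    (1 + A * B) * Wm * (1 + A * B) = Wm + lam • B := by
  have h1 : A * B * Wm + Wm * (A * B) = lam • B := by
    calc A * B * Wm + Wm * (A * B) = (A * Wm + Wm * A) * B := by
          rw [add_mul, mul_assoc A B Wm, hBW, ← mul_assoc A Wm B, ← mul_assoc Wm A B]
      _ = lam • B := by rw [hAW, Matrix.smul_mul, one_mul]
  have h2 : A * B * Wm * (A * B) = 0 := by
    calc A * B * Wm * (A * B) = A * (B * Wm) * (A * B) := by simp only [mul_assoc]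
      _ = A * (Wm * B) * (A * B) := by rw [hBW]
      _ = A * Wm * (B * A) * B := by simp only [mul_assoc]
      _ = A * Wm * (A * B) * B := by rw [hAB]
      _ = A * Wm * A * (B * B) := by simp only [mul_assoc]
      _ = 0 := by rw [hBB, mul_zero]
  calc (1 + A * B) * Wm * (1 + A * B)
      = Wm + (A * B * Wm + Wm * (A * B)) + A * B * Wm * (A * B) := by
        simp only [add_mul, mul_add, one_mul, mul_one]; abel
    _ = Wm + lam • B := by rw [h1, h2, add_zero]

theorem gn_lin_add {R : Type*} [Ring R] (G x y : R) : G * (x + y) * G = G * x * G + G * y * G := by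
  rw [mul_add, add_mul]

/-- PIECE GN: a Siegel element `1 + X_i Y_j` normalises the span of the Clifford generators. -/
theorem gn (h2 : (2 : F) = 0) (S : Set (Matrix (Fin k) (Fin k) F)) (i j : Fin t) (hij : i ≠ j)
    (X Y : Matrix (Fin k) (Fin k) F) (hX0 : X * X = 0) (hY0 : Y * Y = 0)
    (hX : X ∈ Submodule.span F S) (hY : Y ∈ Submodule.span F S)
    (hXc : ∀ W ∈ S, ∃ l : F, X * W + W * X = l • (1 : Matrix (Fin k) (Fin k) F))
    (hYc : ∀ W ∈ S, ∃ l : F, Y * W + W * Y = l • (1 : Matrix (Fin k) (Fin k) F)) :
    (1 + facM i X * facM j Y) * (1 + facM i X * facM j Y) = (1 : Matrix (Fin t → Fin k) (Fin t → Fin k) F) ∧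
    ∀ Z ∈ US t S, (1 + facM i X * facM j Y) * Z * (1 + facM i X * facM j Y) ∈ US t S := by
  classical
  have h11 : ∀ M : Matrix (Fin t → Fin k) (Fin t → Fin k) F, M + M = 0 := fun M => by
    rw [← two_smul F M, h2, zero_smul]
  have hAB : facM i X * facM j Y = facM j Y * facM i X := gn_comm hij X Y
  have hz : ∀ l : Fin t, facM l (0 : Matrix (Fin k) (Fin k) F) = 0 := fun l =>
    (facL k l).map_zero
  have hAA : facM i X * facM i X = 0 := by rw [facM_mul_facM, hX0, hz]
  have hBB : facM j Y * facM j Y = 0 := by rw [facM_mul_facM, hY0, hz]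
  have hNN : (facM i X * facM j Y) * (facM i X * facM j Y) = 0 := by
    calc (facM i X * facM j Y) * (facM i X * facM j Y)
        = facM i X * (facM j Y * facM i X) * facM j Y := by simp only [mul_assoc]
      _ = facM i X * (facM i X * facM j Y) * facM j Y := by rw [← hAB]
      _ = (facM i X * facM i X) * (facM j Y * facM j Y) := by simp only [mul_assoc]
      _ = 0 := by rw [hAA, zero_mul]
  have hgg : (1 + facM i X * facM j Y) * (1 + facM i X * facM j Y)
      = (1 : Matrix (Fin t → Fin k) (Fin t → Fin k) F) := by
    calc (1 + facM i X * facM j Y) * (1 + facM i X * facM j Y)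
        = 1 + (facM i X * facM j Y + facM i X * facM j Y)
            + (facM i X * facM j Y) * (facM i X * facM j Y) := by
          simp only [add_mul, mul_add, one_mul, mul_one]; abel
      _ = 1 := by rw [h11, hNN, add_zero, add_zero]
  refine ⟨hgg, ?_⟩
  have hfac : ∀ (l : Fin t) (W : Matrix (Fin k) (Fin k) F), W ∈ Submodule.span F S →
      facM l W ∈ US t S := by
    intro l W hW
    have hle : Submodule.span F S ≤ (US t S).comap (facL k l) := by
      rw [Submodule.span_le]
      intro W' hW'
      exact Submodule.subset_span (Or.inr ⟨l, W', hW', rfl⟩)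
    exact hle hW
  have hsum : ∀ (l : Fin t) (U V : Matrix (Fin k) (Fin k) F) (c : F),
      U * V + V * U = c • (1 : Matrix (Fin k) (Fin k) F) →
      facM l U * facM l V + facM l V * facM l U
        = c • (1 : Matrix (Fin t → Fin k) (Fin t → Fin k) F) := by
    intro l U V c hc
    rw [facM_mul_facM, facM_mul_facM]
    have e1 := (facL k l).map_add (U * V) (V * U)
    rw [facL_apply, facL_apply, facL_apply] at e1
    rw [← e1, hc]
    have e2 := (facL k l).map_smul c (1 : Matrix (Fin k) (Fin k) F)
    rw [facL_apply, facL_apply, facM_one] at e2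
    exact e2
  intro Z hZ
  unfold US at hZ
  induction hZ using Submodule.span_induction with
  | mem Z hZ =>
    rcases hZ with hZ | ⟨l, W, hW, rfl⟩
    · rw [Set.mem_singleton_iff] at hZ
      subst hZ
      rw [mul_one, hgg]
      exact Submodule.subset_span (Or.inl rfl)
    · have hWU : facM l W ∈ US t S := Submodule.subset_span (Or.inr ⟨l, W, hW, rfl⟩)
      by_cases hli : l = i
      · subst hli
        obtain ⟨lam, hlam⟩ := hXc W hW
        have e := gn_core (facM l X) (facM j Y) (facM l W) lam hAB (gn_comm (Ne.symm hij) Y W) hBB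
          (hsum l X W lam hlam)
        rw [e]
        exact add_mem hWU (Submodule.smul_mem _ _ (hfac j Y hY))
      · by_cases hlj : l = j
        · subst hlj
          obtain ⟨mu, hmu⟩ := hYc W hW
          have e := gn_core (facM l Y) (facM i X) (facM l W) mu hAB.symm (gn_comm hij X W) hAA
            (hsum l Y W mu hmu)
          rw [← hAB] at e
          rw [e]
          exact add_mem hWU (Submodule.smul_mem _ _ (hfac i X hX))
        · have hAW : facM i X * facM l W = facM l W * facM i X := gn_comm (Ne.symm hli) X W
          have hBW : facM j Y * facM l W = facM l W * facM j Y := gn_comm (Ne.symm hlj) Y W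
          have hc : (1 + facM i X * facM j Y) * facM l W
              = facM l W * (1 + facM i X * facM j Y) := by
            rw [add_mul, mul_add, one_mul, mul_one, mul_assoc, hBW, ← mul_assoc, hAW, mul_assoc]
          rw [hc, mul_assoc, hgg, mul_one]
          exact hWU
  | zero => rw [mul_zero, zero_mul]; exact zero_mem _
  | add x y _ _ hx hy => rw [gn_lin_add]; exact add_mem hx hy
  | smul c x _ hx => rw [Matrix.mul_smul, Matrix.smul_mul]; exact Submodule.smul_mem _ c hx

end Cfsg.Agent.Helper86.CWGN
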