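import Cfsg.Agent.Helper96.CWDefs

/-! # Piece N0 of S5707: `1 + X_i Y_j` is not in the tensor-wreath group -/

set_option autoImplicit false
set_option linter.unusedSectionVars false
set_option linter.unusedSimpArgs false
set_option linter.unusedVariables false

namespace Cfsg.Agent.Helper86.CWN0

open Matrix Cfsg Cfsg.Geo Cfsg.Agent.Helper96 Cfsg.Agent.Helper96.CW

variable {F : Type*} [Field F] {k t : ℕ}

/-- entries of `X_i Y_j` at indices agreeing off `{i, j}` -/
theorem n0_entry {i j : Fin t} (hij : i ≠ j) (X Y : Matrix (Fin k) (Fin k) F)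
    (x a : Fin t → Fin k) (hx : ∀ l, l ≠ i → l ≠ j → x l = a l) :
    (facM i X * facM j Y) x a = X (x i) (a i) * Y (x j) (a j) := by
  classical
  rw [facM_eq_ptM, facM_eq_ptM, ptM_mul, ptM_apply, Fintype.prod_eq_mul i j hij]
  · simp only [Function.update_self, Function.update_of_ne hij, Function.update_of_ne hij.symm,
      mul_one, one_mul]
  · rintro l ⟨hli, hlj⟩
    simp only [Function.update_of_ne hli, Function.update_of_ne hlj, mul_one, hx l hli hlj,
      Matrix.one_apply_eq]

/-- PIECE N0: `1 + X_i Y_j` is not in the tensor-wreath group (it maps a pure vector to a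
non-pure one; use `Sy.std_pure_gen`). -/
theorem n0 [Finite F] (i j : Fin t) (hij : i ≠ j) (X Y : Matrix (Fin k) (Fin k) F)
    (α α' : Fin k) (hα : α ≠ α') (hX : X α' α ≠ 0) (β β' : Fin k) (hβ : β ≠ β') (hY : Y β' β ≠ 0)
    (g : GL (Fin t → Fin k) F) (hg : g ∈ tensorWreathStandard k t F) :
    (g : Matrix (Fin t → Fin k) (Fin t → Fin k) F) ≠ 1 + facM i X * facM j Y := by
  classical
  intro hgN
  obtain ⟨a, hai, haj⟩ : ∃ a : Fin t → Fin k, a i = α ∧ a j = β :=
    ⟨Function.update (fun _ => α) j β, by rw [Function.update_of_ne hij],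
      by rw [Function.update_self]⟩
  have hpure : Sy.IsPureVecT (Pi.single a (1 : F) : (Fin t → Fin k) → F) := by
    refine ⟨fun l => Pi.single (a l) 1, fun x => ?_⟩
    by_cases hx : x = a
    · rw [hx, Pi.single_eq_same]
      simp
    · rw [Pi.single_eq_of_ne hx]
      obtain ⟨l, hl⟩ := Function.ne_iff.1 hx
      exact (Finset.prod_eq_zero (Finset.mem_univ l) (Pi.single_eq_of_ne hl _)).symm
  obtain ⟨u, hu⟩ := Sy.std_pure_gen g hg _ hpure
  rw [hgN] at hu
  have hv : ∀ x, (1 + facM i X * facM j Y : Matrix (Fin t → Fin k) (Fin t → Fin k) F) x a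
      = ∏ l, u l (x l) := by
    intro x
    rw [← hu x, Matrix.mulVec_single_one]
    rfl
  have hN : ∀ x, (∀ l, l ≠ i → l ≠ j → x l = a l) →
      (1 + facM i X * facM j Y : Matrix (Fin t → Fin k) (Fin t → Fin k) F) x a
        = (if x = a then 1 else 0) + X (x i) α * Y (x j) β := by
    intro x hx
    rw [Matrix.add_apply, Matrix.one_apply, n0_entry hij X Y x a hx, hai, haj]
  obtain ⟨c, hci, hcj, hcl⟩ : ∃ c : Fin t → Fin k, c i = α' ∧ c j = β ∧ ∀ l, l ≠ i → c l = a l :=
    ⟨Function.update a i α', Function.update_self ..,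
      by rw [Function.update_of_ne hij.symm, haj], fun l hl => Function.update_of_ne hl ..⟩
  obtain ⟨d, hdi, hdj, hdl⟩ : ∃ d : Fin t → Fin k, d i = α ∧ d j = β' ∧ ∀ l, l ≠ j → d l = a l :=
    ⟨Function.update a j β', by rw [Function.update_of_ne hij, hai], Function.update_self ..,
      fun l hl => Function.update_of_ne hl ..⟩
  obtain ⟨b, hbi, hbj, hbl⟩ : ∃ b : Fin t → Fin k, b i = α' ∧ b j = β' ∧
      ∀ l, l ≠ i → l ≠ j → b l = a l :=
    ⟨Function.update c j β', by rw [Function.update_of_ne hij, hci], Function.update_self ..,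
      fun l hli hlj => by rw [Function.update_of_ne hlj, hcl l hli]⟩
  have hca : c ≠ a := fun h => hα (hai.symm.trans ((congrFun h i).symm.trans hci))
  have hda : d ≠ a := fun h => hβ (haj.symm.trans ((congrFun h j).symm.trans hdj))
  have hba : b ≠ a := fun h => hα (hai.symm.trans ((congrFun h i).symm.trans hbi))
  have ea : ∏ l, u l (a l) = 1 + X α α * Y β β := by
    rw [← hv a, hN a (fun _ _ _ => rfl), if_pos rfl, hai, haj]
  have eb : ∏ l, u l (b l) = X α' α * Y β' β := by
    rw [← hv b, hN b hbl, if_neg hba, zero_add, hbi, hbj]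
  have ec : ∏ l, u l (c l) = X α' α * Y β β := by
    rw [← hv c, hN c (fun l hli _ => hcl l hli), if_neg hca, zero_add, hci, hcj]
  have ed : ∏ l, u l (d l) = X α α * Y β' β := by
    rw [← hv d, hN d (fun l _ hlj => hdl l hlj), if_neg hda, zero_add, hdi, hdj]
  have hprod : (∏ l, u l (a l)) * (∏ l, u l (b l)) = (∏ l, u l (c l)) * (∏ l, u l (d l)) := by
    rw [← Finset.prod_mul_distrib, ← Finset.prod_mul_distrib]
    apply Finset.prod_congr rfl
    intro l _
    by_cases hli : l = i
    · rw [hli, hai, hbi, hci, hdi, mul_comm]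
    · by_cases hlj : l = j
      · rw [hlj, haj, hbj, hcj, hdj]
      · rw [hbl l hli hlj, hcl l hli, hdl l hlj]
  rw [ea, eb, ec, ed] at hprod
  have hzero : X α' α * Y β' β = 0 := by linear_combination hprod
  exact mul_ne_zero hX hY hzero

end Cfsg.Agent.Helper86.CWN0
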