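import Mathlib
import Cfsg.Agent.Helper96.OHDefs
import Cfsg.Agent.Helper96.OHAll
import Cfsg.Agent.Helper31.OHOFIX
import Cfsg.Agent.Helper37.OHOFIXCONGR
import Cfsg.Agent.Helper35.ELSUBT
import Cfsg.Agent.Helper86.ELCNTCore
import Cfsg.Agent.Helper86.ELNDIVCore

set_option autoImplicit false

/-!
# CALL S90 (row S5990), hypothesis stage NDIVM, core (helper86), ALL characteristics.

`el_ndiv_of_bad_m`: the ambient form `Q` is of MINUS type; if some isometry `T` with `T ^ r = 1`
has a fixed space of dimension `< c` and `m < c`, then `r` does not divide the number of elliptic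
`m`-spaces, provided `m < dim (fixed space)` or (`m = dim (fixed space)` and (`i` odd or
`|ι| / i` even)).  (Port of `el_ndiv_of_bad`, which is the PLUS-type ambient case.)
-/

namespace Cfsg.Agent.Helper86.EL5988

open Module Polynomial Cfsg Cfsg.Geo
open Cfsg.Agent.Helper13.TIu Cfsg.Agent.Helper96.OH
open Cfsg.Agent.Helper31.OH5992 Cfsg.Agent.Helper37.OH5992 Cfsg.Agent.Helper96.OHAll

variable {ι : Type} [Fintype ι] [DecidableEq ι] {F : Type*} [Field F] (Q : (ι → F) → F)

/-- NDIV from a bad element, ambient form of MINUS type: an isometry of order `r` with a small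
fixed space. -/
theorem el_ndiv_of_bad_m [Fintype F] (hQ : IsNondegenerateQuadraticForm Q) (hminus : ¬ OPl Q ⊤)
    (d : ℕ) (hcard : Fintype.card ι = 2 * d)
    (r : ℕ) [Fact r.Prime] (hr2 : 2 < r) (hrF : (r : F) ≠ 0) (i c : ℕ)
    (hi : i = orderOf ((Fintype.card F : ℕ) : ZMod r)) (hc : c = if Even i then i else 2 * i)
    (m : ℕ) (hme : Even m) (hm0 : 0 < m) (hmc : m < c)
    (T : Module.End F (ι → F)) (hT : OPres Q T) (hTr : T ^ r = 1)
    (hfix : finrank F (LinearMap.ker (T - 1)) < c)
    (hk : m < finrank F (LinearMap.ker (T - 1)) ∨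
      (m = finrank F (LinearMap.ker (T - 1)) ∧ (Odd i ∨ Even (Fintype.card ι / i)))) :
    ¬ r ∣ Nat.card {W : Submodule F (ι → F) // finrank F W = m ∧ ONd Q W ∧ ¬ OPl Q W} := by
  classical
  have hrpr : r.Prime := Fact.out
  have hinj : Function.Injective T := by
    have h1 : T ^ (r - 1) * T = 1 := by
      rw [← pow_succ, Nat.sub_add_cancel hrpr.one_le, hTr]
    intro u v huv
    have h2 := congrArg (T ^ (r - 1)) huv
    rw [← Module.End.mul_apply, ← Module.End.mul_apply, h1] at h2
    exact h2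
  have hcev : Even c := by
    rw [hc]
    split_ifs with h
    · exact h
    · exact even_two_mul i
  -- the fixed space and its complement
  obtain ⟨hCnd, P, -, hPT, hPnd, hPk, hsup, horth, hdim⟩ :=
    o_fix Q hQ T hT r hrpr.pos hrF hTr ⊤ le_top (ond_top Q hQ)
  rw [top_inf_eq] at hCnd hsup horth hdim
  rw [finrank_top, Module.finrank_fintype_fun_eq_card] at hdim
  have hcP : c ∣ finrank F P := by
    have h1 := oall_cdvd Q hQ T hT r hr2 hrF hTr i c hi hc P hPT hPnd
    rw [hPk, finrank_bot, Nat.sub_zero] at h1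
    exact h1
  have hPev : Even (finrank F P) := hcev.trans_dvd hcP
  have hCev : Even (finrank F (LinearMap.ker (T - 1))) := by
    obtain ⟨a, ha⟩ := hPev
    exact ⟨d - a, by omega⟩
  -- the fixed point congruence
  have hcong := o_fix_congr T r hTr (fun W => finrank F W = m ∧ ONd Q W ∧ ¬ OPl Q W)
    (fun W hW => el_pres_map Q hQ T hT hinj m W hW)
  have hinC : ∀ W : Submodule F (ι → F), (finrank F W = m ∧ ONd Q W ∧ ¬ OPl Q W) →
      W.map T ≤ W → W ≤ LinearMap.ker (T - 1) := by
    intro W hW hWT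
    have h1 := oall_cdvd Q hQ T hT r hr2 hrF hTr i c hi hc W hWT hW.2.1
    have h3 : finrank F (W ⊓ LinearMap.ker (T - 1) : Submodule F (ι → F)) ≤ finrank F W :=
      Submodule.finrank_mono inf_le_left
    have h2 : finrank F W - finrank F (W ⊓ LinearMap.ker (T - 1) : Submodule F (ι → F)) = 0 :=
      Nat.eq_zero_of_dvd_of_lt h1 (by rw [hW.1]; omega)
    have h4 : W ⊓ LinearMap.ker (T - 1) = W :=
      Submodule.eq_of_le_of_finrank_eq inf_le_left (by omega)
    rw [← h4]
    exact inf_le_right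
  have hCfix : ∀ W : Submodule F (ι → F), W ≤ LinearMap.ker (T - 1) → W.map T ≤ W := by
    rintro W hW _ ⟨w, hw, rfl⟩
    have h1 := hW hw
    rw [LinearMap.mem_ker, LinearMap.sub_apply, Module.End.one_apply, sub_eq_zero] at h1
    rw [h1]
    exact hw
  have hcard2 : Nat.card {W : Submodule F (ι → F) //
      (finrank F W = m ∧ ONd Q W ∧ ¬ OPl Q W) ∧ W.map T ≤ W} =
      Nat.card {W : Submodule F (ι → F) //
        (finrank F W = m ∧ ONd Q W ∧ ¬ OPl Q W) ∧ W ≤ LinearMap.ker (T - 1)} :=
    Nat.card_congr (Equiv.subtypeEquivRight (fun W =>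
      ⟨fun h => ⟨h.1, hinC W h.1 h.2⟩, fun h => ⟨h.1, hCfix W h.2⟩⟩))
  rw [hcard2] at hcong
  intro hr
  have hr' : r ∣ Nat.card {W : Submodule F (ι → F) //
      (finrank F W = m ∧ ONd Q W ∧ ¬ OPl Q W) ∧ W ≤ LinearMap.ker (T - 1)} :=
    (Nat.ModEq.dvd_iff hcong (dvd_refl r)).mp hr
  rcases hk with hk | ⟨hmeq, hty⟩
  · obtain ⟨k, hk'⟩ := hCev
    obtain ⟨X, hXC, hXnd, hXdim, hXty⟩ := Cfsg.Agent.Helper35.EL.el_sub Q hQ
      (LinearMap.ker (T - 1)) hCnd k (by omega) m hme hm0 (by omega) False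
    exact el_ndiv_core Q hQ r hr2 hrF i c hi hc m hme _ hCnd hfix X
      ⟨⟨hXdim, hXnd, fun h => hXty.mp h⟩, hXC⟩ hr'
  · -- the fixed space itself is the only elliptic `m`-subspace
    have hPpl : OPl Q P := by
      rcases Nat.even_or_odd i with hev | hodd
      · have hevA : Even (Fintype.card ι / i) := by
          rcases hty with hodd | hevA
          · exact absurd hev (Nat.not_even_iff_odd.mpr hodd)
          · exact hevA
        have hci : c = i := by rw [hc, if_pos hev]
        obtain ⟨t, ht⟩ := hcP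
        rw [hci] at ht
        have hi0 : 0 < i := by omega
        have hmi : m < i := by omega
        have hdivP : finrank F P / i = t := by
          rw [ht]
          exact Nat.mul_div_cancel_left t hi0
        have hdivι : Fintype.card ι / i = t := by
          have h1 : Fintype.card ι = m + i * t := by omega
          rw [h1, Nat.add_mul_div_left m t hi0, Nat.div_eq_of_lt hmi, zero_add]
        apply (oall_type_even Q hQ T hT r hr2 hrF hTr (hi ▸ hev) P hPT hPnd hPk).mpr
        rw [← hi, hdivP]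
        rw [hdivι] at hevA
        exact hevA
      · exact oall_type_odd Q hQ T hT r hr2 hrF hTr (hi ▸ hodd) P hPT hPnd hPk
    have hCnpl : ¬ OPl Q (LinearMap.ker (T - 1)) := by
      intro hpl
      have h1 := Cfsg.Agent.Helper33.o_type_mul Q hQ (LinearMap.ker (T - 1)) P hCnd hPnd horth
        hCev hPev
      rw [hsup] at h1
      exact hminus (h1.mpr ⟨fun _ => hPpl, fun _ => hpl⟩)
    have huniq : Nat.card {W : Submodule F (ι → F) //
        (finrank F W = m ∧ ONd Q W ∧ ¬ OPl Q W) ∧ W ≤ LinearMap.ker (T - 1)} = 1 := by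
      rw [Nat.card_eq_one_iff_unique]
      refine ⟨⟨fun a b => Subtype.ext ?_⟩,
        ⟨⟨LinearMap.ker (T - 1), ⟨hmeq.symm, hCnd, hCnpl⟩, le_refl _⟩⟩⟩
      have ha : a.1 = LinearMap.ker (T - 1) :=
        Submodule.eq_of_le_of_finrank_eq a.2.2 (by rw [a.2.1.1, hmeq])
      have hb : b.1 = LinearMap.ker (T - 1) :=
        Submodule.eq_of_le_of_finrank_eq b.2.2 (by rw [b.2.1.1, hmeq])
      rw [ha, hb]
    rw [huniq] at hr'
    exact hrpr.ne_one (Nat.dvd_one.mp hr')

end Cfsg.Agent.Helper86.EL5988
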