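import Cfsg.Agent.Helper86.FocalIndA
import Cfsg.Agent.S5132
import Cfsg.Agent.S5133
import Cfsg.Agent.S5134

/-!
# Control of transfer by a functor: the induction, part C (helper86)

The case of a saturated system with a nontrivial normal subgroup `Q` of largest order: modulo `Q`, the quotients
`x⁻¹ φ(x)` of the maps of `F` lie in `T` (through the factor system `F/Q` and the normalizer system of the preimage
of `W(S/Q)`).
-/

set_option autoImplicit false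

namespace Cfsg.Agent.Helper86

open Cfsg Cfsg.FusionSystem Cfsg.Agent.Helper84

universe u

section FocC

variable {p : ℕ} [Fact p.Prime] (W : ∀ (Q : Type u) [Group Q], Subgroup Q)

variable {Ω : Type u} [Group Ω] {S : Subgroup Ω}

/-- Modulo a normal subgroup of `F` of largest order, `foc(F)` lies in `T`. -/
theorem foc_mod_normal (hW1 : WPos p W) (hW2 : WIso p W) [Finite S] (hS : IsPGroup p S)
    (F : FusionSystem S) (hF : F.IsSaturated p) (ih : IHT W p F) {Q : Subgroup Ω} (hQn : F.IsNormal Q)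
    (hQbot : Q ≠ ⊥) (hmax : ∀ Y, F.IsNormal Y → Q ≤ Y → Y = Q)
    {T : Subgroup Ω} (hT : FocN F (Wsub W S) T) :
    ∀ (P : Subgroup Ω) (φ : P →* Ω), φ ∈ F.Hom P → ∀ x : P,
      ∃ t ∈ T, t⁻¹ * ((x : Ω)⁻¹ * φ x) ∈ Q := by
  have hQS := hQn.1
  by_cases hQS' : Q = S
  · intro P φ hφ x
    refine ⟨1, T.one_mem, ?_⟩
    rw [hQS', inv_one, one_mul]
    exact S.mul_mem (S.inv_mem (hom_le F hφ x.2)) (hom_mem F hφ x)
  have hsc := normal_stronglyClosed F hQn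
  have hnorm : S ≤ Subgroup.normalizer (Q : Set Ω) := normal_le_normalizer F hQn
  have hQnS : (Q.subgroupOf S).Normal := (Subgroup.normal_subgroupOf_iff_le_normalizer hQS).2 hnorm
  have hfQ : Finite Q := finite_of_le hQS
  obtain ⟨E', hE'⟩ := S5132.result p hS F Q hsc
  have hsurj := S5134.result p hS F hF Q hsc (QuotientGroup.mk' (Q.subgroupOf S)) E' hE'
  have hE'sat := S5133.result p hS F hF E' (QuotientGroup.mk' (Q.subgroupOf S)) hsurj
  obtain ⟨-, hker, hrange, hHom⟩ := hE'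
  have hpq : IsPGroup p (↥S ⧸ Q.subgroupOf S) := hS.to_quotient _
  have hpT : IsPGroup p ↥(⊤ : Subgroup (↥S ⧸ Q.subgroupOf S)) := hpq.to_subgroup _
  have hcard : Nat.card ↥(⊤ : Subgroup (↥S ⧸ Q.subgroupOf S)) < Nat.card S := by
    rw [Subgroup.card_top, ← Subgroup.index_eq_card, ← Subgroup.card_mul_index (Q.subgroupOf S)]
    have h1 : 1 < Nat.card (Q.subgroupOf S) := by
      rw [Nat.card_congr (Subgroup.subgroupOfEquivOfLe hQS).toEquiv]
      exact (Subgroup.one_lt_card_iff_ne_bot Q).2 hQbot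
    have h2 : 0 < (Q.subgroupOf S).index := Nat.pos_of_ne_zero Subgroup.index_ne_zero_of_finite
    exact lt_mul_of_one_lt_left h2 h1
  have hXE' := ih (↥S ⧸ Q.subgroupOf S) ⊤ hpT E' hE'sat (Or.inl hcard)
  -- the quotient is nontrivial
  obtain ⟨s₀, hs₀S, hs₀Q⟩ := SetLike.not_le_iff_exists.1 (fun h : S ≤ Q => hQS' (le_antisymm hQS h))
  have hnt : Nontrivial (↥S ⧸ Q.subgroupOf S) :=
    nontrivial_of_ne (QuotientGroup.mk' (Q.subgroupOf S) ⟨s₀, hs₀S⟩) 1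
      (fun h => hs₀Q ((hker ⟨s₀, hs₀S⟩).1 h))
  have hW'bot : Wsub W (⊤ : Subgroup (↥S ⧸ Q.subgroupOf S)) ≠ ⊥ := Wsub_ne_bot W hW1 hpT top_ne_bot
  have hW'norm := le_normalizer_Wsub W hW2 hpT
  -- the preimage `U` of `W(S/Q)`
  have hUS : preimageAlong (QuotientGroup.mk' (Q.subgroupOf S))
      (Wsub W (⊤ : Subgroup (↥S ⧸ Q.subgroupOf S))) ≤ S := Helper85.preimageAlong_le _ _
  have hfU : Finite ↥(preimageAlong (QuotientGroup.mk' (Q.subgroupOf S))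
      (Wsub W (⊤ : Subgroup (↥S ⧸ Q.subgroupOf S)))) := finite_of_le hUS
  have hQU : Q ≤ preimageAlong (QuotientGroup.mk' (Q.subgroupOf S))
      (Wsub W (⊤ : Subgroup (↥S ⧸ Q.subgroupOf S))) := by
    intro q hq
    refine (Helper85.mem_preimageAlong _ _ q).2 ⟨hQS hq, ?_⟩
    rw [(hker ⟨q, hQS hq⟩).2 hq]
    exact Subgroup.one_mem _
  have hUQ : preimageAlong (QuotientGroup.mk' (Q.subgroupOf S))
      (Wsub W (⊤ : Subgroup (↥S ⧸ Q.subgroupOf S))) ≠ Q := by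
    intro e
    obtain ⟨⟨w, hw⟩, hw1⟩ := (Subgroup.ne_bot_iff_exists_ne_one).1 hW'bot
    obtain ⟨s, rfl⟩ := QuotientGroup.mk'_surjective (Q.subgroupOf S) w
    have h1 : (s : Ω) ∈ preimageAlong (QuotientGroup.mk' (Q.subgroupOf S))
        (Wsub W (⊤ : Subgroup (↥S ⧸ Q.subgroupOf S))) :=
      (Helper85.mem_preimageAlong _ _ _).2 ⟨s.2, hw⟩
    rw [e] at h1
    apply hw1
    apply Subtype.ext
    exact (hker s).2 h1
  have hUnorm : S ≤ Subgroup.normalizer ((preimageAlong (QuotientGroup.mk' (Q.subgroupOf S))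
      (Wsub W (⊤ : Subgroup (↥S ⧸ Q.subgroupOf S))) : Subgroup Ω) : Set Ω) := by
    intro s hs
    apply mem_normalizer_of_forall_conj_mem
    intro a ha
    obtain ⟨haS, haW⟩ := (Helper85.mem_preimageAlong _ _ a).1 ha
    refine (Helper85.mem_preimageAlong _ _ _).2 ⟨S.mul_mem (S.mul_mem hs haS) (S.inv_mem hs), ?_⟩
    have e : (⟨s * a * s⁻¹, S.mul_mem (S.mul_mem hs haS) (S.inv_mem hs)⟩ : S) =
        ⟨s, hs⟩ * ⟨a, haS⟩ * ⟨s, hs⟩⁻¹ := rfl
    rw [e, map_mul, map_mul, map_inv]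
    exact (Subgroup.mem_normalizer_iff.1 (hW'norm (Subgroup.mem_top _)) _).1 haW
  have hUn : ¬ F.IsNormal (preimageAlong (QuotientGroup.mk' (Q.subgroupOf S))
      (Wsub W (⊤ : Subgroup (↥S ⧸ Q.subgroupOf S)))) := fun h => hUQ (hmax _ h hQU)
  have hfocU := focN_of_normal_in_S W hS F hF ih hUS hUnorm hUn hT
  -- the quotients of the normalizer system of `W(S/Q)` in the quotient system lie in the image of `T`
  have hT' : FocN E' (Wsub W (⊤ : Subgroup (↥S ⧸ Q.subgroupOf S)))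
      (imageAlong (QuotientGroup.mk' (Q.subgroupOf S)) T) := by
    intro P' φ' hφ' x'
    obtain ⟨hφ'E, hP'N, hφ'N, ψ', hψ'E, hψ'φ', hψ'W⟩ := hφ'
    obtain ⟨-, ψ, hψ, hB, hψS, hmemB, hcomm⟩ := (hHom _ ψ').1 hψ'E
    have hUB : preimageAlong (QuotientGroup.mk' (Q.subgroupOf S))
        (Wsub W (⊤ : Subgroup (↥S ⧸ Q.subgroupOf S))) ≤
        preimageAlong (QuotientGroup.mk' (Q.subgroupOf S))
          (P' ⊔ Wsub W (⊤ : Subgroup (↥S ⧸ Q.subgroupOf S))) :=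
      Helper85.preimageAlong_mono _ le_sup_right
    have hψU : ((preimageAlong (QuotientGroup.mk' (Q.subgroupOf S))
        (Wsub W (⊤ : Subgroup (↥S ⧸ Q.subgroupOf S)))).subgroupOf
          (preimageAlong (QuotientGroup.mk' (Q.subgroupOf S))
            (P' ⊔ Wsub W (⊤ : Subgroup (↥S ⧸ Q.subgroupOf S))))).map ψ =
        preimageAlong (QuotientGroup.mk' (Q.subgroupOf S))
          (Wsub W (⊤ : Subgroup (↥S ⧸ Q.subgroupOf S))) := by
      refine map_subgroupOf_eq_of_forall_mem hUB (F.injective_of_mem hψ) (fun b hb => ?_)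
      obtain ⟨hbS, hbW⟩ := (Helper85.mem_preimageAlong _ _ _).1 hb
      refine (Helper85.mem_preimageAlong _ _ _).2 ⟨hψS b, ?_⟩
      rw [← hcomm b]
      exact (le_of_eq hψ'W) ⟨⟨_, hmemB b⟩, hbW, rfl⟩
    have hψN := normalizerHom_of_self F hUB (le_inf hB (hB.trans hUnorm)) hψ hψU
    obtain ⟨s, hs⟩ := QuotientGroup.mk'_surjective (Q.subgroupOf S) (x' : ↥S ⧸ Q.subgroupOf S)
    have hsB : (s : Ω) ∈ preimageAlong (QuotientGroup.mk' (Q.subgroupOf S))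
        (P' ⊔ Wsub W (⊤ : Subgroup (↥S ⧸ Q.subgroupOf S))) := by
      refine (Helper85.mem_preimageAlong _ _ _).2 ⟨s.2, ?_⟩
      rw [hs]
      exact (le_sup_left : P' ≤ P' ⊔ Wsub W (⊤ : Subgroup (↥S ⧸ Q.subgroupOf S))) x'.2
    have hfoc := hfocU _ ψ hψN ⟨s, hsB⟩
    refine (Helper85.mem_imageAlong _ T _).2
      ⟨_, S.mul_mem (S.inv_mem s.2) (hψS ⟨s, hsB⟩), hfoc, ?_⟩
    have e1 : (⟨(s : Ω)⁻¹ * ψ ⟨s, hsB⟩, S.mul_mem (S.inv_mem s.2) (hψS ⟨s, hsB⟩)⟩ : S) =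
        s⁻¹ * ⟨ψ ⟨s, hsB⟩, hψS ⟨s, hsB⟩⟩ := rfl
    rw [e1, map_mul, map_inv, hs, ← hcomm ⟨s, hsB⟩, ← hψ'φ' x']
    have e : Subgroup.inclusion le_sup_left x' =
        ⟨QuotientGroup.mk' (Q.subgroupOf S) ⟨(⟨s, hsB⟩ : ↥(preimageAlong
          (QuotientGroup.mk' (Q.subgroupOf S)) (P' ⊔ Wsub W (⊤ : Subgroup (↥S ⧸ Q.subgroupOf S))))),
            hB hsB⟩, hmemB ⟨s, hsB⟩⟩ := Subtype.ext hs.symm
    rw [e]
  have hfocE' := hXE' _ hT'
  intro P φ hφ x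
  obtain ⟨φ', hφ', hRS, hφS, hR', hcomm⟩ := hsurj.1.2 P φ hφ
  have h1 := hfocE' _ φ' hφ' ⟨_, hR' x⟩
  rw [hcomm x] at h1
  obtain ⟨t, htS, htT, ht⟩ := (Helper85.mem_imageAlong _ T _).1 h1
  refine ⟨t, htT, ?_⟩
  have h2 : QuotientGroup.mk' (Q.subgroupOf S)
      (⟨t, htS⟩⁻¹ * (⟨x, hRS x.2⟩⁻¹ * ⟨φ x, hφS x⟩)) = 1 := by
    rw [map_mul, map_inv, ht, map_mul, map_inv]
    exact inv_mul_cancel _
  exact (hker _).1 h2

end FocC

end Cfsg.Agent.Helper86
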