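import Cfsg.Agent.Helper86.StableTransfer

/-!
# The transfer map attached to a family of graphs, for general coefficients (helper86)

Mathlib-only. The stability statement of `StableTransfer.lean` without the assumption that the coefficient
group has exponent `p`: the orbits are sorted by their lengths, and the numbers of orbits of a given length
and a given value are recovered from the fixed point numbers by induction on the length.
-/

set_option autoImplicit false

namespace Cfsg.Agent.Helper86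

open MulAction Subgroup

section GenOrbit

variable {G : Type*} [Group G] {A : Type*} [CommGroup A] [Finite G]

/-- The number of orbits of `y` on `G ⧸ H` of length `p ^ j` whose value has `p ^ e`-th power `ζ`. -/
noncomputable def orbNum (p : ℕ) (ν : G → A) (H : Subgroup G) (f : H →* G) (y : G) (j e : ℕ) (ζ : A) : ℕ :=
  Nat.card {q : orbitRel.Quotient (zpowers y) (G ⧸ H) //
    Function.minimalPeriod (y • ·) q.out = p ^ j ∧ valFun ν H f y q.out ^ (p ^ e) = ζ}

open Classical in
/-- Counting the conjugates of `y ^ (p ^ j)` that lie in `H` and are sent to `ζ`, for general coefficients. -/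
theorem card_mu_eq_gen {p : ℕ} [Fact p.Prime] {T : Subgroup G} [hT : T.Normal] {ν : G → A}
    (hν1 : ∀ t t', t ∈ T → t' ∈ T → ν (t * t') = ν t * ν t') (hν2 : ∀ g t, ν (g * t * g⁻¹) = ν t)
    (H : Subgroup G) (f : H →* G) (hfT : ∀ x : H, (x : G) ∈ T → f x ∈ T) {y : G} (hy : y ∈ T)
    {ζ : A} (hζ : ζ ≠ 1) (j : ℕ) :
    Nat.card {a : G // muFun ν H f (a⁻¹ * y ^ (p ^ j) * a) = ζ} =
      Nat.card H * ∑ j' ∈ Finset.range (j + 1), p ^ j' * orbNum p ν H f y j' (j - j') ζ := by
  have hpt : ∀ a : G, muFun ν H f (a⁻¹ * y ^ (p ^ j) * a) = ζ ↔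
      ∃ j' ∈ Finset.range (j + 1), (Function.minimalPeriod (y • ·) (a : G ⧸ H) = p ^ j' ∧
        valFun ν H f y (a : G ⧸ H) ^ (p ^ (j - j')) = ζ) := by
    intro a
    constructor
    · intro h
      have hmem : a⁻¹ * y ^ (p ^ j) * a ∈ H := by
        by_contra hn
        rw [muFun_of_not_mem ν f hn] at h
        exact hζ h.symm
      have hdvd := (conj_pow_mem_iff H y a (p ^ j)).1 hmem
      obtain ⟨j', hj', hn⟩ := (Nat.dvd_prime_pow (Fact.out : p.Prime)).1 hdvd
      have hc : a⁻¹ * y ^ (p ^ j') * a ∈ H := (conj_pow_mem_iff H y a _).2 (by rw [hn])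
      have hcT : a⁻¹ * y ^ (p ^ j') * a ∈ T := hT.conj_mem' _ (T.pow_mem hy _) a
      have hexp : p ^ j' * p ^ (j - j') = p ^ j := by
        rw [← pow_add]
        congr 1
        omega
      have h1 : a⁻¹ * y ^ (p ^ j) * a = (a⁻¹ * y ^ (p ^ j') * a) ^ (p ^ (j - j')) := by
        rw [conj_pow_eq, ← pow_mul, hexp]
      have h2 := muFun_conj_pow hν2 H f y a
      rw [hn] at h2
      rw [h1, muFun_pow hν1 f hfT hc hcT, h2] at h
      exact ⟨j', Finset.mem_range.2 (by omega), hn, h⟩
    · rintro ⟨j', hj', hn, hv⟩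
      have hj'' : j' ≤ j := by
        have := Finset.mem_range.1 hj'
        omega
      have hc : a⁻¹ * y ^ (p ^ j') * a ∈ H := (conj_pow_mem_iff H y a _).2 (by rw [hn])
      have hcT : a⁻¹ * y ^ (p ^ j') * a ∈ T := hT.conj_mem' _ (T.pow_mem hy _) a
      have hexp : p ^ j' * p ^ (j - j') = p ^ j := by
        rw [← pow_add]
        congr 1
        omega
      have h1 : a⁻¹ * y ^ (p ^ j) * a = (a⁻¹ * y ^ (p ^ j') * a) ^ (p ^ (j - j')) := by
        rw [conj_pow_eq, ← pow_mul, hexp]
      have h2 := muFun_conj_pow hν2 H f y a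
      rw [hn] at h2
      rw [h1, muFun_pow hν1 f hfT hc hcT, h2]
      exact hv
  rw [Nat.card_congr (Equiv.subtypeEquivRight hpt)]
  have h1 := QuotientGroup.card_preimage_mk H
    {x : G ⧸ H | ∃ j' ∈ Finset.range (j + 1), (Function.minimalPeriod (y • ·) x = p ^ j' ∧
        valFun ν H f y x ^ (p ^ (j - j')) = ζ)}
  refine h1.trans ?_
  congr 1
  have := Fintype.ofFinite (G ⧸ H)
  have h2 : ∀ j', p ^ j' * orbNum p ν H f y j' (j - j') ζ =
      Nat.card {x : G ⧸ H // Function.minimalPeriod (y • ·) x = p ^ j' ∧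
        valFun ν H f y x ^ (p ^ (j - j')) = ζ} := by
    intro j'
    exact (card_orbit_pred H y
      (fun x => Function.minimalPeriod (y • ·) x = p ^ j' ∧ valFun ν H f y x ^ (p ^ (j - j')) = ζ)
      (fun x => by rw [minimalPeriod_smul_eq, valFun_smul hν2]) (p ^ j') (fun x hx => hx.1)).symm
  rw [Finset.sum_congr rfl (fun j' _ => h2 j')]
  show Nat.card {x : G ⧸ H // ∃ j' ∈ Finset.range (j + 1), (Function.minimalPeriod (y • ·) x = p ^ j' ∧
        valFun ν H f y x ^ (p ^ (j - j')) = ζ)} = _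
  rw [natCard_subtype_eq_card_filter, Finset.card_filter]
  simp_rw [natCard_subtype_eq_card_filter, Finset.card_filter]
  rw [Finset.sum_comm]
  refine Finset.sum_congr rfl (fun x _ => ?_)
  by_cases hx : ∃ j' ∈ Finset.range (j + 1), (Function.minimalPeriod (y • ·) x = p ^ j' ∧
        valFun ν H f y x ^ (p ^ (j - j')) = ζ)
  · rw [if_pos hx]
    obtain ⟨j₀, hj₀, hn, hv⟩ := hx
    rw [Finset.sum_eq_single j₀]
    · rw [if_pos ⟨hn, hv⟩]
    · intro j' _ hj'
      rw [if_neg]
      rintro ⟨h, -⟩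
      apply hj'
      rw [hn] at h
      exact (Nat.pow_right_injective (Fact.out : p.Prime).two_le h).symm
    · intro h
      exact absurd hj₀ h
  · rw [if_neg hx]
    symm
    apply Finset.sum_eq_zero
    intro j' hj'
    rw [if_neg]
    intro h
    exact hx ⟨j', hj', h⟩

open Classical in
/-- Sorting the orbits with `p ^ e`-th power of the value equal to `ζ` by their values. -/
theorem orbNum_eq_sum [Fintype A] (p : ℕ) (ν : G → A) (H : Subgroup G) (f : H →* G) (y : G) (j e : ℕ)
    (ζ : A) :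
    orbNum p ν H f y j e ζ = ∑ c : A, if c ^ (p ^ e) = ζ then orbNum p ν H f y j 0 c else 0 := by
  have := Fintype.ofFinite (orbitRel.Quotient (zpowers y) (G ⧸ H))
  unfold orbNum
  rw [natCard_subtype_eq_card_filter, Finset.card_filter]
  simp_rw [natCard_subtype_eq_card_filter, Finset.card_filter]
  have h1 : ∀ c : A, (if c ^ (p ^ e) = ζ then
      ∑ q : orbitRel.Quotient (zpowers y) (G ⧸ H),
        (if Function.minimalPeriod (y • ·) q.out = p ^ j ∧ valFun ν H f y q.out ^ (p ^ 0) = c
          then 1 else 0) else 0) =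
      ∑ q : orbitRel.Quotient (zpowers y) (G ⧸ H),
        (if c ^ (p ^ e) = ζ ∧ Function.minimalPeriod (y • ·) q.out = p ^ j ∧ valFun ν H f y q.out = c
          then 1 else 0) := by
    intro c
    by_cases hc : c ^ (p ^ e) = ζ
    · rw [if_pos hc]
      refine Finset.sum_congr rfl (fun q _ => ?_)
      simp [hc]
    · rw [if_neg hc]
      symm
      apply Finset.sum_eq_zero
      intro q _
      rw [if_neg]
      rintro ⟨h, -⟩
      exact hc h
  rw [Finset.sum_congr rfl (fun c _ => h1 c), Finset.sum_comm]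
  refine Finset.sum_congr rfl (fun q _ => ?_)
  rw [Finset.sum_eq_single (valFun ν H f y q.out)]
  · by_cases h : Function.minimalPeriod (y • ·) q.out = p ^ j ∧ valFun ν H f y q.out ^ (p ^ e) = ζ
    · rw [if_pos h, if_pos ⟨h.2, h.1, rfl⟩]
    · rw [if_neg h, if_neg]
      rintro ⟨h2, h3, -⟩
      exact h ⟨h3, h2⟩
  · intro c _ hc
    rw [if_neg]
    rintro ⟨-, -, h⟩
    exact hc h.symm
  · intro h
    exact absurd (Finset.mem_univ _) h

end GenOrbit

open Classical in
/-- **Stability of the twisted transfer**, for general coefficients. -/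
theorem stable_transfer_gen {G : Type*} [Group G] [Finite G] {p : ℕ} [Fact p.Prime] (hG : IsPGroup p G)
    (T : Subgroup G) [hT : T.Normal] {A : Type*} [CommGroup A] [Finite A]
    (ν : G → A) (hν1 : ∀ t t', t ∈ T → t' ∈ T → ν (t * t') = ν t * ν t')
    (hν2 : ∀ g t, ν (g * t * g⁻¹) = ν t)
    {ι : Type*} [Fintype ι] (H : ι → Subgroup G) (f : ∀ i, H i →* G) (z : ∀ i, H i →* A)
    (mult : ι → ℕ) (hfT : ∀ i (x : H i), (x : G) ∈ T → f i x ∈ T)
    (hz : ∀ i (x : H i), (x : G) ∈ T → z i x = ν (f i x) * (ν x)⁻¹)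
    (y y' : G) (hy : y ∈ T) (hy' : y' ∈ T)
    (hfix : ∀ (k : ℕ) (g : G),
      ∑ i, mult i * Nat.card (fixedPoints (zpowers ((y ^ k, g) : G × G)) ((G × G) ⧸ gr (H i) (f i))) =
      ∑ i, mult i *
        Nat.card (fixedPoints (zpowers ((y' ^ k, g) : G × G)) ((G × G) ⧸ gr (H i) (f i)))) :
    ν y ^ (∑ i, mult i * (H i).index) * ∏ i, (MonoidHom.transfer (z i) y) ^ mult i =
      ν y' ^ (∑ i, mult i * (H i).index) * ∏ i, (MonoidHom.transfer (z i) y') ^ mult i := by
  obtain ⟨N, hGN⟩ := IsPGroup.iff_card.1 hG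
  have := Fintype.ofFinite A
  have := Fintype.ofFinite G
  have key1 : ∀ w ∈ T,
      ν w ^ (∑ i, mult i * (H i).index) * ∏ i, (MonoidHom.transfer (z i) w) ^ mult i =
      ∏ ζ : A, ζ ^ (∑ i, mult i *
        Nat.card {q : orbitRel.Quotient (zpowers w) (G ⧸ H i) // valFun ν (H i) (f i) w q.out = ζ}) := by
    intro w hw
    have h1 : ∀ i, MonoidHom.transfer (z i) w =
        (∏ ζ : A, ζ ^ Nat.card {q : orbitRel.Quotient (zpowers w) (G ⧸ H i) //
          valFun ν (H i) (f i) w q.out = ζ}) * ((ν w)⁻¹) ^ (H i).index := by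
      intro i
      rw [transfer_eq_val hν1 hν2 (H i) (f i) (z i) (hz i) hw]
      congr 1
      have := Fintype.ofFinite (orbitRel.Quotient (zpowers w) (G ⧸ H i))
      rw [finprod_eq_prod_of_fintype, ← Finset.prod_fiberwise Finset.univ
        (fun q : orbitRel.Quotient (zpowers w) (G ⧸ H i) => valFun ν (H i) (f i) w q.out)
        (fun q : orbitRel.Quotient (zpowers w) (G ⧸ H i) => valFun ν (H i) (f i) w q.out)]
      refine Finset.prod_congr rfl (fun ζ _ => ?_)
      rw [Finset.prod_congr rfl (g := fun _ => ζ) (fun q hq => (Finset.mem_filter.1 hq).2),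
        Finset.prod_const, natCard_subtype_eq_card_filter]
    have h2 : ∏ i, (MonoidHom.transfer (z i) w) ^ mult i =
        (∏ i, (∏ ζ : A, ζ ^ Nat.card {q : orbitRel.Quotient (zpowers w) (G ⧸ H i) //
          valFun ν (H i) (f i) w q.out = ζ}) ^ mult i) *
        ((ν w)⁻¹) ^ (∑ i, mult i * (H i).index) := by
      rw [← Finset.prod_pow_eq_pow_sum, ← Finset.prod_mul_distrib]
      refine Finset.prod_congr rfl (fun i _ => ?_)
      rw [h1 i, mul_pow, ← pow_mul, mul_comm (H i).index]
    have h3 : (∏ i, (∏ ζ : A, ζ ^ Nat.card {q : orbitRel.Quotient (zpowers w) (G ⧸ H i) //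
          valFun ν (H i) (f i) w q.out = ζ}) ^ mult i) =
        ∏ ζ : A, ζ ^ (∑ i, mult i *
          Nat.card {q : orbitRel.Quotient (zpowers w) (G ⧸ H i) // valFun ν (H i) (f i) w q.out = ζ}) := by
      simp_rw [← Finset.prod_pow, ← pow_mul]
      rw [Finset.prod_comm]
      refine Finset.prod_congr rfl (fun ζ _ => ?_)
      rw [← Finset.prod_pow_eq_pow_sum]
      refine Finset.prod_congr rfl (fun i _ => ?_)
      rw [mul_comm]
    rw [h2, h3, inv_pow, mul_left_comm, mul_inv_cancel, mul_one]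
  -- the weighted fixed point numbers in terms of the weighted orbit numbers
  have hM : ∀ w ∈ T, ∀ ζ : A, ζ ≠ 1 → ∀ j : ℕ,
      (∑ g : G, (if ν g = ζ then ∑ i, mult i * Nat.card (fixedPoints
        (zpowers ((w ^ (p ^ j), g) : G × G)) ((G × G) ⧸ gr (H i) (f i))) else 0)) =
      Nat.card G * ∑ j' ∈ Finset.range (j + 1), p ^ j' *
        ∑ i, mult i * orbNum p ν (H i) (f i) w j' (j - j') ζ := by
    intro w hw ζ hζ j
    have h1 : ∀ i, (∑ g : G, (if ν g = ζ then Nat.card (fixedPoints
        (zpowers ((w ^ (p ^ j), g) : G × G)) ((G × G) ⧸ gr (H i) (f i))) else 0)) =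
        Nat.card G * ∑ j' ∈ Finset.range (j + 1), p ^ j' * orbNum p ν (H i) (f i) w j' (j - j') ζ := by
      intro i
      have h2 := sum_fix_eq hν2 (H i) (f i) (w ^ (p ^ j)) hζ
      rw [card_mu_eq_gen hν1 hν2 (H i) (f i) (hfT i) hw hζ j, finsum_eq_sum_of_fintype] at h2
      have hHpos : 0 < Nat.card (H i) := Nat.card_pos
      apply Nat.eq_of_mul_eq_mul_left hHpos
      rw [h2]
      ring
    calc (∑ g : G, (if ν g = ζ then ∑ i, mult i * Nat.card (fixedPoints
          (zpowers ((w ^ (p ^ j), g) : G × G)) ((G × G) ⧸ gr (H i) (f i))) else 0))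
        = ∑ i, mult i * ∑ g : G, (if ν g = ζ then Nat.card (fixedPoints
          (zpowers ((w ^ (p ^ j), g) : G × G)) ((G × G) ⧸ gr (H i) (f i))) else 0) := by
          simp_rw [Finset.mul_sum]
          rw [Finset.sum_comm]
          refine Finset.sum_congr rfl (fun g _ => ?_)
          by_cases hg : ν g = ζ
          · simp only [if_pos hg]
          · simp only [if_neg hg, mul_zero, Finset.sum_const_zero]
      _ = ∑ i, mult i * (Nat.card G * ∑ j' ∈ Finset.range (j + 1),
            p ^ j' * orbNum p ν (H i) (f i) w j' (j - j') ζ) := by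
          refine Finset.sum_congr rfl (fun i _ => by rw [h1 i])
      _ = _ := by
          simp_rw [Finset.mul_sum]
          rw [Finset.sum_comm]
          refine Finset.sum_congr rfl (fun j' _ => ?_)
          refine Finset.sum_congr rfl (fun i _ => ?_)
          ring
  have hE : ∀ ζ : A, ζ ≠ 1 → ∀ j : ℕ,
      (∑ j' ∈ Finset.range (j + 1), p ^ j' * ∑ i, mult i * orbNum p ν (H i) (f i) y j' (j - j') ζ) =
      ∑ j' ∈ Finset.range (j + 1), p ^ j' * ∑ i, mult i * orbNum p ν (H i) (f i) y' j' (j - j') ζ := by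
    intro ζ hζ j
    have hGpos : 0 < Nat.card G := Nat.card_pos
    apply Nat.eq_of_mul_eq_mul_left hGpos
    rw [← hM y hy ζ hζ j, ← hM y' hy' ζ hζ j]
    refine Finset.sum_congr rfl (fun g _ => ?_)
    rw [hfix (p ^ j) g]
  have hpow : ∀ (w : G) (j e : ℕ) (ζ : A),
      (∑ i, mult i * orbNum p ν (H i) (f i) w j e ζ) =
      ∑ c : A, if c ^ (p ^ e) = ζ then ∑ i, mult i * orbNum p ν (H i) (f i) w j 0 c else 0 := by
    intro w j e ζ
    have h1 : ∀ i, mult i * orbNum p ν (H i) (f i) w j e ζ =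
        ∑ c : A, if c ^ (p ^ e) = ζ then mult i * orbNum p ν (H i) (f i) w j 0 c else 0 := by
      intro i
      rw [orbNum_eq_sum p ν (H i) (f i) w j e ζ, Finset.mul_sum]
      refine Finset.sum_congr rfl (fun c _ => ?_)
      by_cases hc : c ^ (p ^ e) = ζ
      · rw [if_pos hc, if_pos hc]
      · rw [if_neg hc, if_neg hc, mul_zero]
    rw [Finset.sum_congr rfl (fun i _ => h1 i), Finset.sum_comm]
    refine Finset.sum_congr rfl (fun c _ => ?_)
    by_cases hc : c ^ (p ^ e) = ζ
    · simp only [if_pos hc]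
    · simp only [if_neg hc, Finset.sum_const_zero]
  have hind : ∀ j : ℕ, ∀ ζ : A, ζ ≠ 1 →
      (∑ i, mult i * orbNum p ν (H i) (f i) y j 0 ζ) =
      ∑ i, mult i * orbNum p ν (H i) (f i) y' j 0 ζ := by
    intro j
    induction j using Nat.strong_induction_on with
    | _ j ih =>
    intro ζ hζ
    have h1 := hE ζ hζ j
    rw [Finset.sum_range_succ, Finset.sum_range_succ, Nat.sub_self] at h1
    have h2 : (∑ j' ∈ Finset.range j, p ^ j' * ∑ i, mult i * orbNum p ν (H i) (f i) y j' (j - j') ζ) =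
        ∑ j' ∈ Finset.range j, p ^ j' * ∑ i, mult i * orbNum p ν (H i) (f i) y' j' (j - j') ζ := by
      refine Finset.sum_congr rfl (fun j' hj' => ?_)
      congr 1
      rw [hpow y j' (j - j') ζ, hpow y' j' (j - j') ζ]
      refine Finset.sum_congr rfl (fun c _ => ?_)
      by_cases hc : c ^ (p ^ (j - j')) = ζ
      · rw [if_pos hc, if_pos hc]
        refine ih j' (Finset.mem_range.1 hj') c ?_
        intro hc1
        rw [hc1, one_pow] at hc
        exact hζ hc.symm
      · rw [if_neg hc, if_neg hc]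
    rw [h2] at h1
    have h3 := Nat.add_left_cancel h1
    exact Nat.eq_of_mul_eq_mul_left (pow_pos (Fact.out : p.Prime).pos j) h3
  have key2 : ∀ ζ : A, ζ ≠ 1 →
      (∑ i, mult i *
        Nat.card {q : orbitRel.Quotient (zpowers y) (G ⧸ H i) // valFun ν (H i) (f i) y q.out = ζ}) =
      ∑ i, mult i *
        Nat.card {q : orbitRel.Quotient (zpowers y') (G ⧸ H i) // valFun ν (H i) (f i) y' q.out = ζ} := by
    intro ζ hζ
    have hsum : ∀ w : G, (∑ i, mult i *
        Nat.card {q : orbitRel.Quotient (zpowers w) (G ⧸ H i) // valFun ν (H i) (f i) w q.out = ζ}) =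
        ∑ j ∈ Finset.range (N + 1), ∑ i, mult i * orbNum p ν (H i) (f i) w j 0 ζ := by
      intro w
      rw [Finset.sum_comm]
      refine Finset.sum_congr rfl (fun i _ => ?_)
      rw [card_val_eq_sum hGN ν (H i) (f i) w ζ, Finset.mul_sum]
      refine Finset.sum_congr rfl (fun j _ => ?_)
      congr 1
      unfold orbNum
      simp only [pow_zero, pow_one]
    rw [hsum y, hsum y']
    exact Finset.sum_congr rfl (fun j _ => hind j ζ hζ)
  rw [key1 y hy, key1 y' hy']
  refine Finset.prod_congr rfl (fun ζ _ => ?_)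
  by_cases hζ : ζ = 1
  · rw [hζ, one_pow, one_pow]
  · rw [key2 ζ hζ]

end Cfsg.Agent.Helper86
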