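import Cfsg.Agent.Helper86.FusTransfer
import Cfsg.Agent.Helper86.GenTransfer

/-!
# The transfer and the focal subgroup of a saturated fusion system (helper86)

For a saturated fusion system `F` over `S`, a strongly closed subgroup `Q` and a homomorphism `lam` from `S` to a
finite commutative group which is `F`-stable on the elements of `Q`: `lam` is trivial on `foc(F) ∩ Q`.
-/

set_option autoImplicit false

namespace Cfsg.Agent.Helper86

open Cfsg Cfsg.FusionSystem Cfsg.Agent.Helper87 MulAction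

universe u

variable {Ω : Type u} [Group Ω] {S : Subgroup Ω}

/-- **Transfer on a strongly closed subgroup.** -/
theorem focal_ker_of_stable [Finite S] {p : ℕ} [Fact p.Prime] (hS : IsPGroup p S) (F : FusionSystem S)
    (hF : F.IsSaturated p) (Q : Subgroup Ω) (hQ : F.StronglyClosed Q)
    {A : Type*} [CommGroup A] [Finite A] (lam : ↥S →* A)
    (hQT : ∀ (P : Subgroup Ω) (φ : P →* Ω) (hφ : φ ∈ F.Hom P) (y : P), (y : Ω) ∈ Q →
      lam ⟨φ y, hom_mem F hφ y⟩ = lam ⟨y, hom_le F hφ y.2⟩)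
    (x : Ω) (hxS : x ∈ S) (hxf : x ∈ F.focalSubgroup) (hxQ : x ∈ Q) : lam ⟨x, hxS⟩ = 1 := by
  classical
  obtain ⟨mult, hsupp, hinv, hpm⟩ := exists_biset hS F hF
  have hQn : (Q.subgroupOf S).Normal := stronglyClosed_subgroupOf_normal F hQ
  have hfinι : Fintype {K : Subgroup (↥S × ↥S) // IsGraph F K} := Fintype.ofFinite _
  have hex : ∀ i : {K : Subgroup (↥S × ↥S) // IsGraph F K},
      ∃ (P : Subgroup Ω) (φ : P →* Ω), φ ∈ F.Hom P ∧ i.1 = graph S P φ := fun i => i.2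
  choose Pc φc hφc hKc using hex
  have hgr : ∀ i : {K : Subgroup (↥S × ↥S) // IsGraph F K},
      gr ((Pc i).subgroupOf S) (restrHom S (φc i) (hom_mem F (hφc i))) = i.1 :=
    fun i => (gr_restrHom S (φc i) _).trans (hKc i).symm
  have hzero : ∀ K : Subgroup (↥S × ↥S), ¬ IsGraph F K → mult K = 0 := by
    intro K hK
    by_contra h
    exact hK (hsupp K h)
  have hcnt : ∀ D : Subgroup (↥S × ↥S),
      ∑ i : {K : Subgroup (↥S × ↥S) // IsGraph F K}, mult i.1 * Nat.card (fixedPoints D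
        ((↥S × ↥S) ⧸ gr ((Pc i).subgroupOf S) (restrHom S (φc i) (hom_mem F (hφc i))))) =
      cnt mult D := by
    intro D
    have h1 : ∀ i : {K : Subgroup (↥S × ↥S) // IsGraph F K}, mult i.1 * Nat.card (fixedPoints D
        ((↥S × ↥S) ⧸ gr ((Pc i).subgroupOf S) (restrHom S (φc i) (hom_mem F (hφc i))))) =
        mult i.1 * Nat.card (fixedPoints D ((↥S × ↥S) ⧸ i.1)) := by
      intro i
      rw [hgr i]
    rw [Finset.sum_congr rfl (fun i _ => h1 i)]
    exact sum_subtype_isGraph F (fun K => mult K * Nat.card (fixedPoints D ((↥S × ↥S) ⧸ K)))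
      (fun K hK => by rw [hzero K hK, zero_mul])
  have hm : ∑ i : {K : Subgroup (↥S × ↥S) // IsGraph F K}, mult i.1 * ((Pc i).subgroupOf S).index =
      ∑ᶠ K : Subgroup (↥S × ↥S), mult K * (Nat.card S / Nat.card K) := by
    have h1 : ∀ i : {K : Subgroup (↥S × ↥S) // IsGraph F K},
        ((Pc i).subgroupOf S).index = Nat.card S / Nat.card i.1 := by
      intro i
      have hP : Pc i ≤ S := hom_le F (hφc i)
      have h2 := Subgroup.card_mul_index ((Pc i).subgroupOf S)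
      rw [Nat.card_congr (Subgroup.subgroupOfEquivOfLe hP).toEquiv] at h2
      have h3 : Nat.card i.1 = Nat.card (Pc i) := by
        have h4 := card_graph hP (hom_mem F (hφc i))
        rw [← hKc i] at h4
        exact h4
      rw [h3]
      have hfinP : Finite (Pc i) := finite_of_le hP
      exact (Nat.div_eq_of_eq_mul_right Nat.card_pos h2.symm).symm
    rw [Finset.sum_congr rfl (fun i _ => by rw [h1 i])]
    exact sum_subtype_isGraph F (fun K => mult K * (Nat.card S / Nat.card K))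
      (fun K hK => by rw [hzero K hK, zero_mul])
  have hpm' : ¬ p ∣ ∑ i : {K : Subgroup (↥S × ↥S) // IsGraph F K},
      mult i.1 * ((Pc i).subgroupOf S).index := by
    rw [hm]
    exact hpm
  have hcop : Nat.Coprime (∑ i : {K : Subgroup (↥S × ↥S) // IsGraph F K},
      mult i.1 * ((Pc i).subgroupOf S).index) p :=
    ((Fact.out : p.Prime).coprime_iff_not_dvd.2 hpm').symm
  -- the homomorphisms `z i`
  obtain ⟨z, hz⟩ : ∃ z : ∀ i : {K : Subgroup (↥S × ↥S) // IsGraph F K}, ((Pc i).subgroupOf S) →* A,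
      ∀ i (a : (Pc i).subgroupOf S), z i a =
        lam (restrHom S (φc i) (hom_mem F (hφc i)) a) * (lam (a : ↥S))⁻¹ :=
    ⟨fun i => (lam.comp (restrHom S (φc i) (hom_mem F (hφc i)))) /
      (lam.comp ((Pc i).subgroupOf S).subtype), fun i a => by
        rw [MonoidHom.div_apply, div_eq_mul_inv]
        rfl⟩
  have hzQ : ∀ i (a : (Pc i).subgroupOf S), ((a : ↥S) : Ω) ∈ Q → z i a = 1 := by
    intro i a ha
    rw [hz i a]
    have h1 := hQT (Pc i) (φc i) (hφc i) ⟨(a : ↥S), Subgroup.mem_subgroupOf.1 a.2⟩ ha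
    have h2 : lam (restrHom S (φc i) (hom_mem F (hφc i)) a) = lam (a : ↥S) := h1
    rw [h2, mul_inv_cancel]
  -- the stable map
  have hν2 : ∀ g t : ↥S, lam (g * t * g⁻¹) = lam t := by
    intro g t
    rw [map_mul, map_mul, map_inv, mul_comm (lam g), mul_assoc, mul_inv_cancel, mul_one]
  have hstab : ∀ (P : Subgroup Ω) (φ : P →* Ω) (hφ : φ ∈ F.Hom P) (y : P),
      lam ⟨y, hom_le F hφ y.2⟩ ^ (∑ i : {K : Subgroup (↥S × ↥S) // IsGraph F K},
          mult i.1 * ((Pc i).subgroupOf S).index) *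
        ∏ i : {K : Subgroup (↥S × ↥S) // IsGraph F K},
          (MonoidHom.transfer (z i) (⟨y, hom_le F hφ y.2⟩ : ↥S)) ^ mult i.1 =
      lam ⟨φ y, hom_mem F hφ y⟩ ^ (∑ i : {K : Subgroup (↥S × ↥S) // IsGraph F K},
          mult i.1 * ((Pc i).subgroupOf S).index) *
        ∏ i : {K : Subgroup (↥S × ↥S) // IsGraph F K},
          (MonoidHom.transfer (z i) (⟨φ y, hom_mem F hφ y⟩ : ↥S)) ^ mult i.1 := by
    intro P φ hφ y
    have hP : P ≤ S := hom_le F hφ
    refine stable_transfer_gen hS (⊤ : Subgroup ↥S) (fun w => lam w) (fun t t' _ _ => map_mul lam t t') hν2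
      (fun i : {K : Subgroup (↥S × ↥S) // IsGraph F K} => (Pc i).subgroupOf S)
      (fun i => restrHom S (φc i) (hom_mem F (hφc i))) z
      (fun i => mult i.1) (fun _ _ _ => Subgroup.mem_top _) (fun i a _ => hz i a)
      ⟨y, hP y.2⟩ ⟨φ y, hom_mem F hφ y⟩ (Subgroup.mem_top _) (Subgroup.mem_top _) ?_
    intro k g
    have h3 := hcnt (Subgroup.zpowers (((⟨y, hP y.2⟩ : ↥S) ^ k, g) : ↥S × ↥S))
    have h4 := hcnt (Subgroup.zpowers (((⟨φ y, hom_mem F hφ y⟩ : ↥S) ^ k, g) : ↥S × ↥S))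
    refine h3.trans (Eq.trans ?_ h4.symm)
    have key : ∀ (n : ℤ) (h1 : ((((((⟨y, hP y.2⟩ : ↥S) ^ k, g) : ↥S × ↥S) ^ n).1 : ↥S) : Ω) ∈ P),
        φ ⟨_, h1⟩ = ((((((⟨φ y, hom_mem F hφ y⟩ : ↥S) ^ k, g) : ↥S × ↥S) ^ n).1 : ↥S) : Ω) := by
      intro n h1
      have h5 : (⟨_, h1⟩ : P) = (y ^ k) ^ n := by
        apply Subtype.ext
        simp
      rw [h5, map_zpow, map_pow]
      simp
    refine cnt_eq_of_maps F mult hsupp 0 hinv hφ (subtype_mem F (le_refl S)) ?_ ?_ Nat.card_pos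
    · intro x hx
      obtain ⟨n, rfl⟩ := Subgroup.mem_zpowers_iff.1 hx
      refine ⟨?_, Subtype.property _⟩
      have h6 : ((((((⟨y, hP y.2⟩ : ↥S) ^ k, g) : ↥S × ↥S) ^ n).1 : ↥S) : Ω) = ((y : Ω) ^ k) ^ n := by
        simp
      rw [h6]
      exact P.zpow_mem (P.pow_mem y.2 k) n
    · intro x'
      constructor
      · intro hx'
        obtain ⟨n, rfl⟩ := Subgroup.mem_zpowers_iff.1 hx'
        have h6 : ((((((⟨y, hP y.2⟩ : ↥S) ^ k, g) : ↥S × ↥S) ^ n).1 : ↥S) : Ω) ∈ P := by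
          have h7 : ((((((⟨y, hP y.2⟩ : ↥S) ^ k, g) : ↥S × ↥S) ^ n).1 : ↥S) : Ω) =
              ((y : Ω) ^ k) ^ n := by simp
          rw [h7]
          exact P.zpow_mem (P.pow_mem y.2 k) n
        exact ⟨_, Subgroup.zpow_mem _ (Subgroup.mem_zpowers _) n, h6, Subtype.property _,
          (key n h6).symm, rfl⟩
      · rintro ⟨x, hx, h1, h2, e1, e2⟩
        obtain ⟨n, rfl⟩ := Subgroup.mem_zpowers_iff.1 hx
        have h8 : x' = (((⟨φ y, hom_mem F hφ y⟩ : ↥S) ^ k, g) : ↥S × ↥S) ^ n := by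
          apply Prod.ext
          · exact Subtype.ext (e1.trans (key n h1))
          · exact Subtype.ext e2
        rw [h8]
        exact Subgroup.zpow_mem _ (Subgroup.mem_zpowers _) n
  -- the stable map as a homomorphism
  obtain ⟨Ψ, hΨ⟩ : ∃ Ψ : ↥S →* A, ∀ w : ↥S, Ψ w =
      lam w ^ (∑ i : {K : Subgroup (↥S × ↥S) // IsGraph F K}, mult i.1 * ((Pc i).subgroupOf S).index) *
        ∏ i : {K : Subgroup (↥S × ↥S) // IsGraph F K}, (MonoidHom.transfer (z i) w) ^ mult i.1 :=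
    ⟨lam ^ (∑ i : {K : Subgroup (↥S × ↥S) // IsGraph F K}, mult i.1 * ((Pc i).subgroupOf S).index) *
        ∏ i : {K : Subgroup (↥S × ↥S) // IsGraph F K}, (MonoidHom.transfer (z i)) ^ mult i.1, fun w => by
      rw [MonoidHom.mul_apply, MonoidHom.pow_apply, MonoidHom.finsetProd_apply]
      rfl⟩
  -- `Ψ` is trivial on the focal subgroup
  have hfoc : F.focalSubgroup ≤ Ψ.ker.map S.subtype := by
    refine (Subgroup.closure_le _).2 ?_
    rintro _ ⟨P, φ, y, hφ, rfl⟩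
    refine ⟨(⟨y, hom_le F hφ y.2⟩ : ↥S)⁻¹ * ⟨φ y, hom_mem F hφ y⟩, ?_, rfl⟩
    show _ ∈ Ψ.ker
    rw [MonoidHom.mem_ker, map_mul, map_inv, hΨ, hΨ, ← hstab P φ hφ y, inv_mul_cancel]
  obtain ⟨s, hs, hsx⟩ := hfoc hxf
  have hsx' : s = ⟨x, hxS⟩ := Subtype.ext hsx
  rw [hsx'] at hs
  have h1 : Ψ ⟨x, hxS⟩ = 1 := MonoidHom.mem_ker.1 hs
  -- the transfers of the `z i` are trivial on `Q`
  have htr : ∀ i : {K : Subgroup (↥S × ↥S) // IsGraph F K},
      MonoidHom.transfer (z i) (⟨x, hxS⟩ : ↥S) = 1 := by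
    intro i
    have := Fintype.ofFinite (Quotient (orbitRel (Subgroup.zpowers (⟨x, hxS⟩ : ↥S))
      (↥S ⧸ (Pc i).subgroupOf S)))
    rw [MonoidHom.transfer_eq_prod_quotient_orbitRel_zpowers_quot]
    apply Finset.prod_eq_one
    intro q _
    apply hzQ
    have hxQ' : (⟨x, hxS⟩ : ↥S) ∈ Q.subgroupOf S := Subgroup.mem_subgroupOf.2 hxQ
    exact Subgroup.mem_subgroupOf.1 (hQn.conj_mem' _ ((Q.subgroupOf S).pow_mem hxQ' _) _)
  rw [hΨ, Finset.prod_eq_one (fun i _ => by rw [htr i, one_pow]), mul_one] at h1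
  -- the order of `lam x` is a power of `p` and divides a number prime to `p`
  obtain ⟨N, hN⟩ := hS ⟨x, hxS⟩
  have h2 : lam ⟨x, hxS⟩ ^ (p ^ N) = 1 := by rw [← map_pow, hN, map_one]
  have h3 := orderOf_dvd_of_pow_eq_one h1
  have h4 := orderOf_dvd_of_pow_eq_one h2
  have h5 : orderOf (lam ⟨x, hxS⟩) = 1 :=
    Nat.eq_one_of_dvd_coprimes (Nat.Coprime.pow_right N hcop) h3 h4
  exact orderOf_eq_one_iff.1 h5

end Cfsg.Agent.Helper86
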