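import Cfsg.Agent.Helper86.FocalIndC
import Cfsg.Agent.Helper86.FocalTransfer

/-!
# Control of transfer by a functor: the induction, part D (helper86)

The constrained case (through a model, the local hypothesis `WLocFocal` and the focal subgroup theorem), the case
of a nontrivial normal subgroup (through the transfer), and the induction `xt_all`: a positive characteristic
`p`-functor `W` satisfying `O_p(G) ∩ [G, G] = O_p(G) ∩ [N, N]`, `N = N_G(W(P))`, in all finite groups `G` with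
`C_G(O_p(G)) ≤ O_p(G)` controls transfer in every saturated fusion system.
-/

set_option autoImplicit false

namespace Cfsg.Agent.Helper86

open Cfsg Cfsg.FusionSystem Cfsg.Agent.Helper84

open scoped commutatorElement

universe u

/-- The local condition on commutators: `O_p(G) ∩ [G, G] = O_p(G) ∩ [N, N]`, `N = N_G(W(P))`, for every finite
group `G` with `C_G(O_p(G)) ≤ O_p(G)` and Sylow `p`-subgroup `P`. -/
def WLocFocal (p : ℕ) [Fact p.Prime] (W : ∀ (Q : Type u) [Group Q], Subgroup Q) : Prop :=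
  ∀ (G : Type u) [Group G] [Finite G] (P : Sylow p G),
    Subgroup.centralizer ((Cfsg.pCore p G : Subgroup G) : Set G) ≤ Cfsg.pCore p G →
    Cfsg.pCore p G ⊓ commutator G = Cfsg.pCore p G ⊓
      (commutator ↥(Subgroup.normalizer
        (((W ↥(P : Subgroup G)).map (P : Subgroup G).subtype : Subgroup G) : Set G))).map
        (Subgroup.normalizer
          (((W ↥(P : Subgroup G)).map (P : Subgroup G).subtype : Subgroup G) : Set G)).subtype

section FocD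

variable {p : ℕ} [Fact p.Prime] (W : ∀ (Q : Type u) [Group Q], Subgroup Q)

variable {Ω : Type u} [Group Ω] {S : Subgroup Ω}

/-- The constrained case: the quotients `x⁻¹ φ(x)` for `x` in a normal centric subgroup lie in `T`. -/
theorem foc_of_model (hW2 : WIso p W) (hC : WLocFocal p W) [Finite S]
    (hS : IsPGroup p S) (F : FusionSystem S) (hF : F.IsSaturated p) {R : Subgroup Ω}
    (hRn : F.IsNormal R) (hRc : F.IsCentric R) {T : Subgroup Ω} (hT : FocN F (Wsub W S) T)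
    (P : Subgroup Ω) (φ : P →* Ω) (hφ : φ ∈ F.Hom P) (x : P) (hxR : (x : Ω) ∈ R) :
    (x : Ω)⁻¹ * φ x ∈ T := by
  have hRS := hRn.1
  obtain ⟨G, hG, ι, hM⟩ := exists_model p hS F hF hRn hRc
  have hcore := le_corePre hS F hF hRn hRc hM
  obtain ⟨hfin, hreal, ⟨Ts, hTs⟩, hcR⟩ := hM
  have hinj := hreal.1
  obtain ⟨hWe1, hWe2⟩ := Wsub_equiv W hW2 hS
    ((MonoidHom.ofInjective hinj).trans (MulEquiv.subgroupCongr hTs.symm))
  have hTp : IsPGroup p ↥(Ts : Subgroup G) := Ts.2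
  have hTN : (Ts : Subgroup G) ≤
      Subgroup.normalizer ((Wsub W (Ts : Subgroup G) : Subgroup G) : Set G) :=
    le_normalizer_Wsub W hW2 hTp
  have hWS : Wsub W S ≤ S := Wsub_le W S
  have hfinW : Finite ↥(Wsub W S) := finite_of_le hWS
  have hPS : P ≤ S := hom_le F hφ
  have hxS : (x : Ω) ∈ S := hPS x.2
  have hφS : φ x ∈ S := hom_mem F hφ x
  have hφR : φ x ∈ R := stronglyClosed_apply_mem F (normal_stronglyClosed F hRn) hφ x hxR
  obtain ⟨g, hg⟩ := (hreal.2 P hPS φ (hom_mem F hφ)).1 hφ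
  have e1 : (⟨(x : Ω)⁻¹ * φ x, S.mul_mem (S.inv_mem hxS) hφS⟩ : S) = ⟨x, hxS⟩⁻¹ * ⟨φ x, hφS⟩ := rfl
  have he : ι ⟨(x : Ω)⁻¹ * φ x, S.mul_mem (S.inv_mem hxS) hφS⟩ = ⁅(ι ⟨x, hxS⟩)⁻¹, g⁆ := by
    rw [e1, map_mul, map_inv, hg x, commutatorElement_def]
    group
  have hecomm : ι ⟨(x : Ω)⁻¹ * φ x, S.mul_mem (S.inv_mem hxS) hφS⟩ ∈ commutator G := by
    rw [he]
    exact Subgroup.commutator_mem_commutator (Subgroup.mem_top _) (Subgroup.mem_top _)
  have hecore : ι ⟨(x : Ω)⁻¹ * φ x, S.mul_mem (S.inv_mem hxS) hφS⟩ ∈ pCore p G := by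
    have h1 : ι ⟨x, hxS⟩ ∈ pCore p G := (mem_corePre_iff p ι ⟨x, hxS⟩).1 (hcore hxR)
    have h2 : ι ⟨φ x, hφS⟩ ∈ pCore p G := (mem_corePre_iff p ι ⟨φ x, hφS⟩).1 (hcore hφR)
    rw [e1, map_mul, map_inv]
    exact (pCore p G).mul_mem ((pCore p G).inv_mem h1) h2
  have h4 : ι ⟨(x : Ω)⁻¹ * φ x, S.mul_mem (S.inv_mem hxS) hφS⟩ ∈
      (commutator ↥(Subgroup.normalizer ((Wsub W (Ts : Subgroup G) : Subgroup G) : Set G))).map
        (Subgroup.normalizer ((Wsub W (Ts : Subgroup G) : Subgroup G) : Set G)).subtype :=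
    ((le_of_eq (hC G Ts hcR)) ⟨hecore, hecomm⟩).2
  obtain ⟨n, hn, hne⟩ := h4
  have hne' : (n : G) = ι ⟨(x : Ω)⁻¹ * φ x, S.mul_mem (S.inv_mem hxS) hφS⟩ := hne
  have hnT : n ∈ ((Ts.subtype hTN : Sylow p _) : Subgroup _) := by
    rw [Sylow.coe_subtype, Subgroup.mem_subgroupOf, hne', hTs]
    exact ⟨_, rfl⟩
  have hnfoc : n ∈ (((Ts.subtype hTN : Sylow p _) : Subgroup _)).focalSubgroup := by
    rw [← Subgroup.commutator_inf_eq_focalSubgroup]
    exact ⟨hn, hnT⟩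
  have hle : (((Ts.subtype hTN : Sylow p _) : Subgroup _)).focalSubgroup ≤
      ((T.subgroupOf S).map ι).comap
        (Subgroup.normalizer ((Wsub W (Ts : Subgroup G) : Subgroup G) : Set G)).subtype := by
    rw [Subgroup.focalSubgroup_def]
    refine (Subgroup.closure_le _).2 ?_
    rintro _ ⟨hgH, a, haH, u, rfl⟩
    rw [Sylow.coe_subtype, Subgroup.mem_subgroupOf] at hgH haH
    have hgH' : (a : G) * u * (a : G)⁻¹ * (u : G)⁻¹ ∈ (Ts : Subgroup G) := hgH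
    have haH' : (a : G) ∈ ι.range := (le_of_eq hTs) haH
    obtain ⟨s, hs⟩ := haH'
    -- `b = s⁻¹`
    have hb : ι s⁻¹ = (a : G)⁻¹ := by rw [map_inv, hs]
    have hcb : (u : G) * ι s⁻¹ * (u : G)⁻¹ ∈ ι.range := by
      refine (le_of_eq hTs) ?_
      rw [hb]
      have e2 : (u : G) * (a : G)⁻¹ * (u : G)⁻¹ = (a : G)⁻¹ * ((a : G) * u * (a : G)⁻¹ * (u : G)⁻¹) := by
        group
      rw [e2]
      exact (Ts : Subgroup G).mul_mem ((Ts : Subgroup G).inv_mem haH) hgH'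
    have hP₀S : Subgroup.zpowers ((s⁻¹ : S) : Ω) ⊔ Wsub W S ≤ S :=
      sup_le ((Subgroup.zpowers_le).2 (s⁻¹ : S).2) hWS
    have hmem : ∀ y : ↥(Subgroup.zpowers ((s⁻¹ : S) : Ω) ⊔ Wsub W S),
        (u : G) * ι ⟨y, hP₀S y.2⟩ * (u : G)⁻¹ ∈ ι.range := by
      have h5 : Subgroup.zpowers ((s⁻¹ : S) : Ω) ⊔ Wsub W S ≤
          ((ι.range.comap ((MulAut.conj (u : G)).toMonoidHom.comp ι))).map S.subtype := by
        refine sup_le ((Subgroup.zpowers_le).2 ⟨s⁻¹, hcb, rfl⟩) ?_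
        intro w hw
        refine ⟨⟨w, hWS hw⟩, ?_, rfl⟩
        have h6 := hWe1 w (hWS hw) hw
        have h7 : (u : G) * ι ⟨w, hWS hw⟩ * (u : G)⁻¹ ∈ Wsub W (Ts : Subgroup G) :=
          (Subgroup.mem_normalizer_iff.1 u.2 _).1 h6
        show (u : G) * ι ⟨w, hWS hw⟩ * (u : G)⁻¹ ∈ ι.range
        rw [← hTs]
        exact Wsub_le W _ h7
      intro y
      obtain ⟨s', hs', e3⟩ := h5 y.2
      have e4 : s' = ⟨y, hP₀S y.2⟩ := Subtype.ext e3
      rw [e4] at hs'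
      exact hs'
    obtain ⟨ψ, hψ, hψι⟩ := exists_conj_hom F hreal hP₀S (u : G) hmem
    have hψW : ∀ w : ↥(Subgroup.zpowers ((s⁻¹ : S) : Ω) ⊔ Wsub W S), (w : Ω) ∈ Wsub W S →
        ψ w ∈ Wsub W S := by
      intro w hw
      obtain ⟨hx, hx'⟩ := hψι w
      have h6 := hWe1 w (hWS hw) hw
      have h7 : (u : G) * ι ⟨w, hWS hw⟩ * (u : G)⁻¹ ∈ Wsub W (Ts : Subgroup G) :=
        (Subgroup.mem_normalizer_iff.1 u.2 _).1 h6
      obtain ⟨y, hyS, hyW, hy⟩ := hWe2 _ h7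
      have h8 : ι ⟨y, hyS⟩ = ι ⟨ψ w, hx⟩ := hy.trans hx'.symm
      have h9 : y = ψ w := congrArg Subtype.val (hinj h8)
      rw [← h9]
      exact hyW
    have hψN : ψ ∈ F.normalizerHom (Wsub W S) (Subgroup.zpowers ((s⁻¹ : S) : Ω) ⊔ Wsub W S) :=
      normalizerHom_of_self F le_sup_right (le_inf hP₀S (hP₀S.trans (le_normalizer_Wsub W hW2 hS))) hψ
        (map_subgroupOf_eq_of_forall_mem le_sup_right (F.injective_of_mem hψ) hψW)
    have hbP₀ : ((s⁻¹ : S) : Ω) ∈ Subgroup.zpowers ((s⁻¹ : S) : Ω) ⊔ Wsub W S :=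
      (le_sup_left : Subgroup.zpowers ((s⁻¹ : S) : Ω) ≤ _) (Subgroup.mem_zpowers _)
    have hfoc := hT _ ψ hψN ⟨_, hbP₀⟩
    obtain ⟨hx, hx'⟩ := hψι ⟨_, hbP₀⟩
    show ((⁅a, u⁆ : ↥(Subgroup.normalizer ((Wsub W (Ts : Subgroup G) : Subgroup G) : Set G))) : G) ∈
      (T.subgroupOf S).map ι
    refine ⟨⟨((s⁻¹ : S) : Ω)⁻¹ * ψ ⟨_, hbP₀⟩, S.mul_mem (S.inv_mem (s⁻¹ : S).2) hx⟩,
      Subgroup.mem_subgroupOf.2 hfoc, ?_⟩
    have e5 : (⟨((s⁻¹ : S) : Ω)⁻¹ * ψ ⟨_, hbP₀⟩, S.mul_mem (S.inv_mem (s⁻¹ : S).2) hx⟩ : S) =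
        (s⁻¹)⁻¹ * ⟨ψ ⟨_, hbP₀⟩, hx⟩ := rfl
    rw [e5, map_mul, map_inv, hx']
    have e6 : (⟨((s⁻¹ : S) : Ω), hP₀S hbP₀⟩ : S) = s⁻¹ := rfl
    rw [e6, hb]
    show _ = (a : G) * u * (a : G)⁻¹ * (u : G)⁻¹
    group
  have h10 := hle hnfoc
  rw [Subgroup.mem_comap] at h10
  obtain ⟨t, ht, hte⟩ := h10
  have h11 : ι t = ι ⟨(x : Ω)⁻¹ * φ x, S.mul_mem (S.inv_mem hxS) hφS⟩ := hte.trans hne'
  have h12 := hinj h11
  rw [h12] at ht
  exact Subgroup.mem_subgroupOf.1 ht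

omit [Fact p.Prime] in
/-- A homomorphism to a finite commutative group whose kernel is a given subgroup containing the
commutators. -/
theorem exists_hom_ker_eq {G : Type u} [Group G] [Finite G] (K : Subgroup G)
    (hK : ∀ a b : G, a * b * a⁻¹ * b⁻¹ ∈ K) :
    ∃ (A : Type u) (_ : CommGroup A) (_ : Finite A) (lam : G →* A), ∀ x : G, lam x = 1 ↔ x ∈ K := by
  refine ⟨Abelianization G ⧸ K.map Abelianization.of, inferInstance, inferInstance,
    (QuotientGroup.mk' _).comp Abelianization.of, fun x => ?_⟩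
  rw [MonoidHom.comp_apply, QuotientGroup.mk'_apply, QuotientGroup.eq_one_iff]
  constructor
  · rintro ⟨t, ht, hte⟩
    have h1 : t⁻¹ * x ∈ commutator G := (QuotientGroup.eq (s := commutator G)).1 hte
    have h2 : commutator G ≤ K := by
      rw [commutator_def, Subgroup.commutator_le]
      intro a _ b _
      exact hK a b
    have e : x = t * (t⁻¹ * x) := by group
    rw [e]
    exact K.mul_mem ht (h2 h1)
  · intro hx
    exact ⟨x, hx, rfl⟩

/-- The case of a nontrivial normal subgroup of largest order. -/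
theorem xt_caseC (hW1 : WPos p W) (hW2 : WIso p W) (hC : WLocFocal p W) [Finite S]
    (hS : IsPGroup p S) (F : FusionSystem S) (hF : F.IsSaturated p) (ih : IHT W p F)
    {Q : Subgroup Ω} (hQn : F.IsNormal Q) (hQbot : Q ≠ ⊥) (hmax : ∀ Y, F.IsNormal Y → Q ≤ Y → Y = Q)
    {T : Subgroup Ω} (hT : FocN F (Wsub W S) T) : FocIn F T := by
  -- reduction to the case `T ≤ foc(F)`
  suffices h : ∀ T₀ : Subgroup Ω, T₀ ≤ F.focalSubgroup → FocN F (Wsub W S) T₀ → FocIn F T₀ by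
    have h1 : FocN F (Wsub W S) (T ⊓ F.focalSubgroup) := fun P φ hφ x =>
      ⟨hT P φ hφ x, Subgroup.subset_closure ⟨P, φ, x, hφ.1, rfl⟩⟩
    intro P φ hφ x
    exact (h _ inf_le_right h1 P φ hφ x).1
  clear hT T
  intro T hTfoc hT
  have hQS := hQn.1
  have hsc := normal_stronglyClosed F hQn
  have hnorm := normal_le_normalizer F hQn
  have hRS : Q ⊔ centralizerIn S Q ≤ S := sup_le hQS inf_le_left
  have hfR : Finite ↥(Q ⊔ centralizerIn S Q) := finite_of_le hRS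
  have hWS : Wsub W S ≤ S := Wsub_le W S
  have hfinW : Finite ↥(Wsub W S) := finite_of_le hWS
  have hRnorm : S ≤ Subgroup.normalizer ((Q ⊔ centralizerIn S Q : Subgroup Ω) : Set Ω) := by
    intro s hs
    have h1 : (Q ⊔ centralizerIn S Q).map (MulAut.conj s).toMonoidHom ≤ Q ⊔ centralizerIn S Q := by
      rw [Subgroup.map_sup]
      refine sup_le_sup ?_ ?_
      · rintro _ ⟨q, hq, rfl⟩
        exact (Subgroup.mem_normalizer_iff.1 (hnorm hs) q).1 hq
      · rintro _ ⟨c, hc, rfl⟩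
        refine ⟨S.mul_mem (S.mul_mem hs hc.1) (S.inv_mem hs), ?_⟩
        show _ ∈ Subgroup.centralizer (Q : Set Ω)
        rw [Subgroup.mem_centralizer_iff]
        intro q hq
        have hq' : s⁻¹ * q * s ∈ Q := by
          have h2 := (Subgroup.mem_normalizer_iff.1 (hnorm (S.inv_mem hs)) q).1 hq
          simpa using h2
        have h2 := hc.2 _ hq'
        show q * (s * c * s⁻¹) = s * c * s⁻¹ * q
        calc q * (s * c * s⁻¹) = s * ((s⁻¹ * q * s) * c) * s⁻¹ := by group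
          _ = s * (c * (s⁻¹ * q * s)) * s⁻¹ := by rw [h2]
          _ = s * c * s⁻¹ * q := by group
    apply mem_normalizer_of_forall_conj_mem
    intro a ha
    exact h1 ⟨a, ha, rfl⟩
  -- the quotients `y⁻¹ φ(y)` for `y ∈ Q` lie in `T`
  have hstar : ∀ (P : Subgroup Ω) (φ : P →* Ω), φ ∈ F.Hom P → ∀ y : P, (y : Ω) ∈ Q →
      (y : Ω)⁻¹ * φ y ∈ T := by
    by_cases hRn : F.IsNormal (Q ⊔ centralizerIn S Q)
    · have hRc : F.IsCentric (Q ⊔ centralizerIn S Q) := by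
        refine ⟨hRS, fun R' hR' => ?_⟩
        obtain ⟨φ, hφ, rfl⟩ := hR'
        have h1 : φ.range = Q ⊔ centralizerIn S Q :=
          Helper87.range_eq_of_forall_mem F hφ
            (fun x => (normal_stronglyClosed F hRn).2 _ le_rfl φ hφ x)
        rw [h1]
        intro c hc
        exact (le_sup_right : centralizerIn S Q ≤ Q ⊔ centralizerIn S Q)
          ⟨hc.1, Subgroup.centralizer_le (SetLike.coe_subset_coe.2 le_sup_left) hc.2⟩
      intro P φ hφ y hy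
      exact foc_of_model W hW2 hC hS F hF hRn hRc hT P φ hφ y
        ((le_sup_left : Q ≤ Q ⊔ centralizerIn S Q) hy)
    · have hfocR := focN_of_normal_in_S W hS F hF ih hRS hRnorm hRn hT
      intro P φ hφ y hy
      obtain ⟨ψ, hψ, hψφ, hψQ⟩ := hQn.2 P φ hφ
      have hψQ' : ψ.comp (Subgroup.inclusion le_sup_right) ∈ F.Hom Q :=
        hom_of_restrict F hψ le_sup_right (fun _ => rfl)
      obtain ⟨ψ₂, hψ₂, hψ₂ext, hψ₂R⟩ := exists_ext_sup_centralizer hS F hF hQn hψQ'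
      have hψ₂N : ψ₂ ∈ F.normalizerHom (Q ⊔ centralizerIn S Q) (Q ⊔ centralizerIn S Q) :=
        normalizerHom_of_self F le_rfl (le_normalizerIn hRS) hψ₂
          (map_subgroupOf_eq_of_forall_mem le_rfl (F.injective_of_mem hψ₂) (fun x _ => hψ₂R x))
      have h1 := hfocR _ ψ₂ hψ₂N ⟨y, (le_sup_left : Q ≤ Q ⊔ centralizerIn S Q) hy⟩
      have h2 := hψ₂ext ⟨y, hy⟩
      have e1 : Subgroup.inclusion (le_sup_left : Q ≤ Q ⊔ centralizerIn S Q) ⟨y, hy⟩ =
          ⟨y, (le_sup_left : Q ≤ Q ⊔ centralizerIn S Q) hy⟩ := rfl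
      rw [e1] at h2
      rw [h2] at h1
      rw [← hψφ y]
      have e2 : Subgroup.inclusion (le_sup_left : P ≤ P ⊔ Q) y =
          Subgroup.inclusion (le_sup_right : Q ≤ P ⊔ Q) ⟨y, hy⟩ := Subtype.ext rfl
      rw [e2]
      exact h1
  -- commutators of `S` lie in `T`
  have hcomm : ∀ a b : ↥S, ((a * b * a⁻¹ * b⁻¹ : ↥S) : Ω) ∈ T := by
    intro a b
    have hconj : conjHom S (b : Ω) ∈ F.Hom S := F.conj_mem le_rfl b.2
    have hmap : ∀ w : ↥S, (w : Ω) ∈ Wsub W S → conjHom S (b : Ω) w ∈ Wsub W S := by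
      intro w hw
      exact (Subgroup.mem_normalizer_iff.1 (le_normalizer_Wsub W hW2 hS b.2) _).1 hw
    have hN : conjHom S (b : Ω) ∈ F.normalizerHom (Wsub W S) S :=
      normalizerHom_of_self F hWS (le_inf le_rfl (le_normalizer_Wsub W hW2 hS)) hconj
        (map_subgroupOf_eq_of_forall_mem hWS (F.injective_of_mem hconj) hmap)
    have h1 := hT S _ hN (a⁻¹)
    have e : ((a * b * a⁻¹ * b⁻¹ : ↥S) : Ω) =
        (((a⁻¹ : ↥S) : Ω))⁻¹ * ((b : Ω) * ((a⁻¹ : ↥S) : Ω) * (b : Ω)⁻¹) := by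
      simp only [Subgroup.coe_mul, Subgroup.coe_inv]
      group
    rw [e]
    exact h1
  obtain ⟨A, hA, hAfin, lam, hlam⟩ := exists_hom_ker_eq (T.subgroupOf S)
    (fun a b => Subgroup.mem_subgroupOf.2 (hcomm a b))
  have hQT : ∀ (P : Subgroup Ω) (φ : P →* Ω) (hφ : φ ∈ F.Hom P) (y : P), (y : Ω) ∈ Q →
      lam ⟨φ y, Helper87.hom_mem F hφ y⟩ = lam ⟨y, Helper87.hom_le F hφ y.2⟩ := by
    intro P φ hφ y hy
    have h1 := hstar P φ hφ y hy
    have h2 : lam ((⟨y, hom_le F hφ y.2⟩ : ↥S)⁻¹ * ⟨φ y, hom_mem F hφ y⟩) = 1 :=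
      (hlam _).2 (Subgroup.mem_subgroupOf.2 h1)
    rw [map_mul, map_inv] at h2
    exact (inv_mul_eq_one.1 h2).symm
  intro P φ hφ x
  obtain ⟨t, htT, hq⟩ := foc_mod_normal W hW1 hW2 hS F hF ih hQn hQbot hmax hT P φ hφ x
  have hqS : t⁻¹ * ((x : Ω)⁻¹ * φ x) ∈ S := hQS hq
  have hqfoc : t⁻¹ * ((x : Ω)⁻¹ * φ x) ∈ F.focalSubgroup :=
    F.focalSubgroup.mul_mem (F.focalSubgroup.inv_mem (hTfoc htT))
      (Subgroup.subset_closure ⟨P, φ, x, hφ, rfl⟩)
  have h1 := focal_ker_of_stable hS F hF Q hsc lam hQT _ hqS hqfoc hq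
  have h2 : t⁻¹ * ((x : Ω)⁻¹ * φ x) ∈ T := Subgroup.mem_subgroupOf.1 ((hlam _).1 h1)
  have e : (x : Ω)⁻¹ * φ x = t * (t⁻¹ * ((x : Ω)⁻¹ * φ x)) := by group
  rw [e]
  exact T.mul_mem htT h2

/-- The induction step. -/
theorem xt_step (hW1 : WPos p W) (hW2 : WIso p W) (hC : WLocFocal p W) [Finite S]
    (hS : IsPGroup p S) (F : FusionSystem S) (hF : F.IsSaturated p) (ih : IHT W p F) : XT W F := by
  intro T hT
  by_cases hA : ∃ Q, F.IsNormal Q ∧ Q ≠ ⊥
  · obtain ⟨Q₀, hQ₀, hQ₀bot⟩ := hA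
    obtain ⟨Q, hQn, hcard, hmax⟩ := exists_max_normal F hQ₀
    have hQbot : Q ≠ ⊥ := by
      have : Finite Q₀ := finite_of_le hQ₀.1
      have : Finite Q := finite_of_le hQn.1
      have h1 := (Subgroup.one_lt_card_iff_ne_bot Q₀).2 hQ₀bot
      exact (Subgroup.one_lt_card_iff_ne_bot Q).1 (lt_of_lt_of_le h1 hcard)
    exact xt_caseC W hW1 hW2 hC hS F hF ih hQn hQbot hmax hT
  · exact xt_caseA W hW1 hW2 hS F hF ih (fun Q hQ => by_contra (fun h => hA ⟨Q, hQ, h⟩)) hT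

/-- **Control of transfer** (element form) in every saturated fusion system. -/
theorem xt_all (hW1 : WPos p W) (hW2 : WIso p W) (hC : WLocFocal p W) :
    ∀ (n k : ℕ) (Ω : Type u) [Group Ω] (S : Subgroup Ω) [Finite S], IsPGroup p S →
      ∀ F : FusionSystem S, F.IsSaturated p → Nat.card S = n → dnn F = k → XT W F := by
  intro n
  induction n using Nat.strong_induction_on with
  | _ n ihn =>
  intro k
  induction k using Nat.strong_induction_on with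
  | _ k ihk =>
  intro Ω _ S _ hS F hF hn hk
  apply xt_step W hW1 hW2 hC hS F hF
  intro Ω' _ S' _ hS' F' hF' hlt
  rcases hlt with h | ⟨h1, h2⟩
  · exact ihn (Nat.card S') (hn ▸ h) (dnn F') Ω' S' hS' F' hF' rfl rfl
  · exact ihk (dnn F') (hk ▸ h2) Ω' S' hS' F' hF' (h1.trans hn) rfl

end FocD

end Cfsg.Agent.Helper86
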