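import Mathlib

set_option autoImplicit false

namespace Cfsg.Agent.Helper86

open Subgroup

/-- Let `α` be an automorphism of `q`-power order of a group `X` and `N` a finite `p`-subgroup (`p ≠ q`)
such that `x⁻¹ α(x) ∈ N` for all `x`. Then every coset `xN` contains a fixed point of `α`. -/
theorem exists_fixed_in_coset {X : Type*} [Group X] (N : Subgroup X) [Finite N] {p q : ℕ}
    [Fact p.Prime] [Fact q.Prime] (hN : IsPGroup p N) (hpq : p ≠ q) (α : MulAut X) (n : ℕ)
    (hα : α ^ q ^ n = 1) (hαN : ∀ x : X, x⁻¹ * α x ∈ N) (x : X) :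
    ∃ y ∈ N, α (x * y) = x * y := by
  classical
  have hmem : ∀ y : N, x⁻¹ * α (x * y) ∈ N := by
    intro y
    have h1 : x⁻¹ * α (x * y) = (x⁻¹ * α x) * ((y : X) * ((y : X)⁻¹ * α y)) := by
      rw [map_mul]; group
    rw [h1]
    exact N.mul_mem (hαN x) (N.mul_mem y.2 (hαN y))
  let f : N → N := fun y => ⟨x⁻¹ * α (x * y), hmem y⟩
  have hf : Function.Injective f := by
    intro y y' h
    have h1 : x⁻¹ * α (x * y) = x⁻¹ * α (x * y') := congrArg Subtype.val h
    have h2 := α.injective (mul_left_cancel h1)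
    exact Subtype.ext (mul_left_cancel h2)
  let σ : Equiv.Perm N := Equiv.ofBijective f (Finite.injective_iff_bijective.mp hf)
  have hσ : ∀ (m : ℕ) (y : N), ((σ ^ m) y : X) = x⁻¹ * (α ^ m) (x * y) := by
    intro m
    induction m with
    | zero => intro y; simp
    | succ m ih =>
      intro y
      rw [pow_succ, Equiv.Perm.mul_apply, ih]
      show x⁻¹ * (α ^ m) (x * (x⁻¹ * α (x * y))) = _
      rw [mul_inv_cancel_left, pow_succ, MulAut.mul_apply]
  have hσ1 : σ ^ q ^ n = 1 := by
    ext y
    rw [hσ, hα]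
    simp
  let _ : Fintype N := Fintype.ofFinite N
  have hcard : ¬ q ∣ Fintype.card N := by
    obtain ⟨k, hk⟩ := (IsPGroup.iff_card).mp hN
    rw [← Nat.card_eq_fintype_card, hk]
    intro h
    have := (Nat.prime_dvd_prime_iff_eq (Fact.out : q.Prime) (Fact.out : p.Prime)).mp
      ((Fact.out : q.Prime).dvd_of_dvd_pow h)
    exact hpq this.symm
  obtain ⟨y, hy⟩ := Equiv.Perm.exists_fixed_point_of_prime hcard hσ1
  refine ⟨y, y.2, ?_⟩
  have h1 : x⁻¹ * α (x * y) = y := congrArg Subtype.val hy
  calc α (x * y) = x * (x⁻¹ * α (x * y)) := by group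
    _ = x * y := by rw [h1]

/-- A maximal subgroup of a finite `p`-group is the kernel of a homomorphism onto the group of order `p`. -/
theorem exists_hom_ker_eq_of_isCoatom {Q : Type*} [Group Q] [Finite Q] {p : ℕ} [Fact p.Prime]
    (hQ : IsPGroup p Q) (M : Subgroup Q) (hM : IsCoatom M) :
    ∃ ν : Q →* Multiplicative (ZMod p), ν.ker = M := by
  have : Group.IsNilpotent Q := hQ.isNilpotent
  have : M.Normal :=
    NormalizerCondition.normal_of_coatom M Group.normalizerCondition_of_isNilpotent hM
  have hne : Nat.card (Q ⧸ M) ≠ 1 := by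
    intro h
    have : M.index = 1 := h
    exact hM.1 (Subgroup.index_eq_one.mp this)
  have hp : p ∣ Nat.card (Q ⧸ M) := (hQ.to_quotient M).card_eq_or_dvd.resolve_left hne
  obtain ⟨g, hg⟩ := exists_prime_orderOf_dvd_card' p hp
  have hz : Subgroup.zpowers g = ⊤ := by
    have h1 : M ≤ (zpowers g).comap (QuotientGroup.mk' M) := by
      intro x hx
      rw [Subgroup.mem_comap]
      have : (QuotientGroup.mk' M) x = 1 := (QuotientGroup.eq_one_iff x).mpr hx
      rw [this]; exact Subgroup.one_mem _
    rcases eq_or_lt_of_le h1 with h | h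
    · exfalso
      obtain ⟨x, rfl⟩ := QuotientGroup.mk_surjective g
      have hx : x ∈ (zpowers (QuotientGroup.mk x : Q ⧸ M)).comap (QuotientGroup.mk' M) := by
        rw [Subgroup.mem_comap]; exact Subgroup.mem_zpowers _
      rw [← h] at hx
      have h2 : (QuotientGroup.mk x : Q ⧸ M) = 1 := (QuotientGroup.eq_one_iff x).mpr hx
      rw [h2, orderOf_one] at hg
      exact (Fact.out : p.Prime).one_lt.ne hg
    · have h2 := hM.2 _ h
      rw [eq_top_iff]
      intro y _
      obtain ⟨x, rfl⟩ := QuotientGroup.mk_surjective y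
      have : x ∈ (zpowers g).comap (QuotientGroup.mk' M) := by rw [h2]; trivial
      exact this
  have hcard : Nat.card (Q ⧸ M) = p := by
    rw [← hg, ← Nat.card_zpowers, hz, Subgroup.card_top]
  let e : (Q ⧸ M) ≃* Multiplicative (ZMod p) := mulEquivOfPrimeCardEq hcard (by simp)
  refine ⟨e.toMonoidHom.comp (QuotientGroup.mk' M), ?_⟩
  ext x
  rw [MonoidHom.mem_ker]
  show e (QuotientGroup.mk x) = 1 ↔ x ∈ M
  rw [← QuotientGroup.eq_one_iff (N := M) x]
  constructor
  · intro h
    exact e.injective (h.trans (map_one e).symm)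
  · intro h
    rw [h, map_one]

/-- An automorphism of `q`-power order of a finite `p`-group (`q ≠ p`) that fixes every homomorphism to the
group of order `p` is trivial. -/
theorem mulAut_eq_one_of_fix_homs {Q : Type*} [Group Q] [Finite Q] {p q : ℕ} [Fact p.Prime]
    [Fact q.Prime] (hQ : IsPGroup p Q) (hpq : p ≠ q) (α : MulAut Q) (n : ℕ) (hα : α ^ q ^ n = 1)
    (hfix : ∀ ν : Q →* Multiplicative (ZMod p), ∀ x : Q, ν (α x) = ν x) : α = 1 := by
  let C : Subgroup Q :=
    { carrier := {x | α x = x}
      mul_mem' := by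
        intro a b ha hb
        have ha' : α a = a := ha
        have hb' : α b = b := hb
        show α (a * b) = a * b
        rw [map_mul, ha', hb']
      one_mem' := by simp
      inv_mem' := by
        intro a ha
        have ha' : α a = a := ha
        show α a⁻¹ = a⁻¹
        rw [map_inv, ha'] }
  by_contra hne
  have hC : C ≠ ⊤ := by
    intro h
    apply hne
    ext x
    have : x ∈ C := by rw [h]; trivial
    exact this
  obtain ⟨M, hM, hCM⟩ := (eq_top_or_exists_le_coatom C).resolve_left hC
  obtain ⟨ν, hν⟩ := exists_hom_ker_eq_of_isCoatom hQ M hM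
  have hαM : ∀ x : Q, x⁻¹ * α x ∈ M := by
    intro x
    rw [← hν, MonoidHom.mem_ker, map_mul, map_inv, hfix]
    simp
  have : M = ⊤ := by
    rw [eq_top_iff]
    intro x _
    obtain ⟨y, hy, hxy⟩ := exists_fixed_in_coset M (hQ.to_subgroup M) hpq α n hα hαM x
    have h1 : x * y ∈ M := hCM hxy
    simpa using M.mul_mem h1 (M.inv_mem hy)
  exact hM.1 this

/-- A finite group whose elements of prime order `q ≠ p` are all trivial is a `p`-group. -/
theorem isPGroup_of_forall_prime {G : Type*} [Group G] [Finite G] {p : ℕ} [Fact p.Prime]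
    (h : ∀ q : ℕ, q.Prime → q ≠ p → ∀ g : G, g ^ q = 1 → g = 1) : IsPGroup p G := by
  rw [IsPGroup.iff_card]
  refine ⟨_, Nat.eq_prime_pow_of_unique_prime_dvd (Nat.card_pos.ne') ?_⟩
  intro d hd hdvd
  by_contra hne
  have := Fact.mk hd
  obtain ⟨g, hg⟩ := exists_prime_orderOf_dvd_card' d hdvd
  have h1 := h d hd hne g (by rw [← hg]; exact pow_orderOf_eq_one g)
  rw [h1, orderOf_one] at hg
  exact hd.one_lt.ne hg

/-- The Frattini subgroup lies in the kernel of every homomorphism to the group of order `p`. -/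
theorem frattini_le_ker {G : Type*} [Group G] {p : ℕ} [Fact p.Prime]
    (f : G →* Multiplicative (ZMod p)) : frattini G ≤ f.ker := by
  by_cases h : f.ker = ⊤
  · rw [h]; exact le_top
  · apply frattini_le_coatom
    refine ⟨h, fun H hH => ?_⟩
    have hcard : Nat.card (Multiplicative (ZMod p)) = p := by simp
    have h1 : H.map f ≠ ⊥ := by
      intro hbot
      have : H ≤ f.ker := by
        intro x hx
        rw [MonoidHom.mem_ker]
        have : f x ∈ H.map f := Subgroup.mem_map_of_mem f hx
        rw [hbot] at this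
        exact this
      exact absurd hH (not_lt_of_ge this)
    have hpr : Fact (Nat.card (Multiplicative (ZMod p))).Prime := ⟨by rw [hcard]; exact Fact.out⟩
    have h2 : H.map f = ⊤ :=
      (Subgroup.eq_bot_or_eq_top_of_prime_card (H.map f)).resolve_left h1
    rw [eq_top_iff]
    intro x _
    have : f x ∈ H.map f := by rw [h2]; trivial
    obtain ⟨y, hy, hxy⟩ := this
    have h3 : x * y⁻¹ ∈ f.ker := by
      rw [MonoidHom.mem_ker, map_mul, map_inv, hxy]; simp
    have h4 : x = (x * y⁻¹) * y := by group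
    rw [h4]
    exact H.mul_mem (hH.le h3) hy

/-- Transfer evaluated at an element all of whose conjugates lie in `H`. -/
theorem transfer_eq_prod_of_forall_conj_mem {G : Type*} [Group G] {H : Subgroup G} [H.FiniteIndex]
    {A : Type*} [CommGroup A] (ϕ : H →* A) (z : G) (hz : ∀ g : G, g⁻¹ * z * g ∈ H)
    [Fintype (G ⧸ H)] :
    MonoidHom.transfer ϕ z = ∏ q : G ⧸ H, ϕ ⟨q.out⁻¹ * z * q.out, hz q.out⟩ := by
  classical
  have hout : ∀ q : G ⧸ H, ((Quotient.out q : G) : G ⧸ H) = q := fun q => Quotient.out_eq' q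
  let T : H.LeftTransversal := ⟨Set.range Quotient.out, Subgroup.isComplement_range_left hout⟩
  rw [MonoidHom.transfer_def ϕ T z]
  unfold Subgroup.leftTransversals.diff
  simp only
  refine Finset.prod_congr ?_ ?_
  · ext q; simp
  · intro q _
    congr 1
    apply Subtype.ext
    have h1 : ((T.2.leftQuotientEquiv q : G)) = q.out :=
      Subgroup.IsComplement.leftQuotientEquiv_apply hout q
    have hq : z⁻¹ • q = q := by
      induction q using QuotientGroup.induction_on with
      | H g =>
        show ((z⁻¹ * g : G) : G ⧸ H) = (g : G ⧸ H)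
        rw [QuotientGroup.eq]
        have := hz g
        have h2 : (z⁻¹ * g)⁻¹ * g = g⁻¹ * z * g := by group
        rw [h2]; exact this
    have h2 : (((z • T).2.leftQuotientEquiv q : G)) = z * q.out := by
      rw [Subgroup.smul_apply_eq_smul_apply_inv_smul, hq, h1]
      rfl
    show (T.2.leftQuotientEquiv q : G)⁻¹ * ((z • T).2.leftQuotientEquiv q : G) = q.out⁻¹ * z * q.out
    rw [h1, h2, mul_assoc]

/-- If the product of `f` over every orbit (indexed by coset representatives of the stabilizer) is `1`, the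
product of `f` over the whole set is `1`. -/
theorem prod_eq_one_of_orbit_prod {G X M : Type*} [Group G] [MulAction G X] [Fintype X]
    [CommMonoid M] (f : X → M)
    (h : ∀ x : X, ∏ᶠ q : G ⧸ MulAction.stabilizer G x, f (q.out • x) = 1) :
    ∏ x, f x = 1 := by
  classical
  rw [← Fintype.prod_fiberwise (fun x : X => (Quotient.mk'' x : MulAction.orbitRel.Quotient G X)) f]
  apply Finset.prod_eq_one
  intro ω _
  obtain ⟨x₀, rfl⟩ := Quotient.exists_rep ω
  rw [← h x₀, ← finprod_eq_prod_of_fintype]
  let e₁ : G ⧸ MulAction.stabilizer G x₀ ≃ MulAction.orbit G x₀ :=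
    (MulAction.orbitEquivQuotientStabilizer G x₀).symm
  let e₂ : MulAction.orbit G x₀ ≃
      {x : X // (Quotient.mk'' x : MulAction.orbitRel.Quotient G X) = Quotient.mk'' x₀} :=
    Equiv.subtypeEquivRight (fun x => by
      rw [Quotient.eq'']
      exact (MulAction.orbitRel_apply).symm)
  have key : ∀ q : G ⧸ MulAction.stabilizer G x₀, ((e₂ (e₁ q) : X)) = q.out • x₀ := by
    intro q
    show ((MulAction.orbitEquivQuotientStabilizer G x₀).symm q : X) = q.out • x₀
    conv_lhs => rw [← Quotient.out_eq' q]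
    exact MulAction.orbitEquivQuotientStabilizer_symm_apply G x₀ q.out
  rw [← finprod_comp (e₁.trans e₂) (e₁.trans e₂).bijective]
  refine finprod_congr (fun q => ?_)
  show f ((e₂ (e₁ q) : X)) = f (q.out • x₀)
  rw [key]

end Cfsg.Agent.Helper86

namespace Cfsg.Agent.Helper86

/-- The norm argument: a normal `p'`-subgroup `K` of a group `Γ` acting on a finite elementary abelian `p`-group
`M` acts trivially, provided that for every element `ν` fixed by a `p`-group `S` (mapping to `Γ`) the product of
the `ν / (k⁻¹ • ν)` over `k ∈ K` is trivial. -/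
theorem norm_argument {p : ℕ} [Fact p.Prime] {M : Type*} [CommGroup M] [Finite M]
    (hM : ∀ ν : M, ν ^ p = 1) {Γ : Type*} [Group Γ] (act : Γ →* MulAut M) (K : Subgroup Γ)
    [K.Normal] [Fintype K] (hK : ¬ p ∣ Fintype.card K) {S : Type*} [Group S] [Finite S]
    (hS : IsPGroup p S) (θ' : S →* Γ)
    (h5 : ∀ ν : M, (∀ s, act (θ' s) ν = ν) → ∏ k : K, ν / (act ((k⁻¹ : K) : Γ) ν) = 1) :
    ∀ k ∈ K, ∀ ν, act k ν = ν := by
  classical
  -- the norm
  let N : M →* M :=
    { toFun := fun ν => ∏ k : K, act (k : Γ) ν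
      map_one' := by simp
      map_mul' := by
        intro ν μ
        simp only [map_mul]
        exact Finset.prod_mul_distrib }
  have hN : ∀ ν, N ν = ∏ k : K, act (k : Γ) ν := fun ν => rfl
  have hNk : ∀ (k₀ : K) (ν : M), N (act (k₀ : Γ) ν) = N ν := by
    intro k₀ ν
    rw [hN, hN]
    refine Fintype.prod_equiv (Equiv.mulRight k₀) _ _ (fun k => ?_)
    show act (k : Γ) (act (k₀ : Γ) ν) = act ((k * k₀ : K) : Γ) ν
    rw [Subgroup.coe_mul, map_mul, MulAut.mul_apply]
  have hNθ : ∀ (s : S) (ν : M), N (act (θ' s) ν) = act (θ' s) (N ν) := by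
    intro s ν
    rw [hN, hN, map_prod]
    let e : K ≃ K :=
      { toFun := fun k => ⟨(θ' s)⁻¹ * (k : Γ) * (θ' s), by
          have := ‹K.Normal›.conj_mem (k : Γ) k.2 (θ' s)⁻¹
          simpa using this⟩
        invFun := fun k => ⟨(θ' s) * (k : Γ) * (θ' s)⁻¹, ‹K.Normal›.conj_mem (k : Γ) k.2 (θ' s)⟩
        left_inv := by
          intro k
          apply Subtype.ext
          show θ' s * ((θ' s)⁻¹ * (k : Γ) * θ' s) * (θ' s)⁻¹ = k
          group
        right_inv := by
          intro k
          apply Subtype.ext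
          show (θ' s)⁻¹ * (θ' s * (k : Γ) * (θ' s)⁻¹) * θ' s = k
          group }
    refine Fintype.prod_equiv e _ _ (fun k => ?_)
    show act (k : Γ) (act (θ' s) ν) = act (θ' s) (act ((θ' s)⁻¹ * (k : Γ) * (θ' s)) ν)
    rw [← MulAut.mul_apply, ← MulAut.mul_apply, ← map_mul, ← map_mul]
    congr 2
    group
  -- the kernel of the norm has no nontrivial element
  have hker : ∀ ν : M, N ν = 1 → ν = 1 := by
    by_contra hcon
    push Not at hcon
    obtain ⟨ν₀, hν₀N, hν₀⟩ := hcon
    let M' : Subgroup M := N.ker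
    have hM'p : IsPGroup p M' := by
      intro ν
      refine ⟨1, ?_⟩
      apply Subtype.ext
      rw [pow_one]
      exact hM ν
    have hdvd : p ∣ Nat.card M' := by
      refine hM'p.card_eq_or_dvd.resolve_left ?_
      intro h1
      have hsub : Subsingleton M' := (Nat.card_eq_one_iff_unique.mp h1).1
      have : (⟨ν₀, hν₀N⟩ : M') = 1 := Subsingleton.elim _ _
      exact hν₀ (congrArg Subtype.val this)
    let _ : MulAction S M' :=
      { smul := fun s ν => ⟨act (θ' s) ν, by
          rw [MonoidHom.mem_ker, hNθ, (MonoidHom.mem_ker.mp ν.2), map_one]⟩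
        one_smul := by
          intro ν
          apply Subtype.ext
          show act (θ' 1) (ν : M) = ν
          rw [map_one, map_one]; rfl
        mul_smul := by
          intro s t ν
          apply Subtype.ext
          show act (θ' (s * t)) (ν : M) = act (θ' s) (act (θ' t) (ν : M))
          rw [map_mul, map_mul]; rfl }
    have h1fix : (1 : M') ∈ MulAction.fixedPoints S M' := by
      intro s
      apply Subtype.ext
      show act (θ' s) (1 : M) = 1
      rw [map_one]
    obtain ⟨b, hb, hb1⟩ := hS.exists_fixed_point_of_prime_dvd_card_of_fixed_point M' hdvd h1fix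
    have hbfix : ∀ s, act (θ' s) (b : M) = b := fun s => congrArg Subtype.val (hb s)
    have h6 := h5 (b : M) hbfix
    rw [Finset.prod_div_distrib, Finset.prod_const, Finset.card_univ, div_eq_one] at h6
    have h7 : ∏ k : K, act ((k⁻¹ : K) : Γ) (b : M) = N b := by
      rw [hN]
      exact Fintype.prod_equiv (Equiv.inv K) _ _ (fun k => rfl)
    rw [h7, (MonoidHom.mem_ker.mp b.2)] at h6
    have hcop : Nat.Coprime (Fintype.card K) p :=
      ((Nat.Prime.coprime_iff_not_dvd (Fact.out : p.Prime)).2 hK).symm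
    have h8 : orderOf (b : M) ∣ 1 := by
      rw [← hcop.gcd_eq_one]
      exact Nat.dvd_gcd (orderOf_dvd_of_pow_eq_one h6) (orderOf_dvd_of_pow_eq_one (hM b))
    have h9 : (b : M) = 1 := orderOf_eq_one_iff.mp (Nat.dvd_one.mp h8)
    exact hb1 (Subtype.ext h9.symm)
  intro k hk ν
  have h1 : N (ν / act k ν) = 1 := by
    rw [map_div, hNk ⟨k, hk⟩ ν, div_self']
  have h2 := hker _ h1
  exact (div_eq_one.mp h2).symm

end Cfsg.Agent.Helper86
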