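import Mathlib
import Cfsg.Prelude.Def_FusionSystem
import Cfsg.Agent.Helper86.PGroupAux

set_option autoImplicit false

namespace Cfsg.Agent.Helper86

open Cfsg Cfsg.FusionSystem
open scoped Pointwise

variable {Ω : Type*} [Group Ω] {S : Subgroup Ω}

theorem conjHom_apply (P : Subgroup Ω) (g : Ω) (x : P) : conjHom P g x = g * (x : Ω) * g⁻¹ := rfl

/-- Extensional restriction: a homomorphism on a smaller source agreeing pointwise with a map of the
system is a map of the system. -/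
theorem hom_of_restrict (F : FusionSystem S) {P R : Subgroup Ω} {φ : P →* Ω} (hφ : φ ∈ F.Hom P)
    (hRP : R ≤ P) {θ : R →* Ω} (h : ∀ x : R, θ x = φ ⟨x, hRP x.2⟩) : θ ∈ F.Hom R := by
  have hPS := (F.le_of_mem hφ).1
  have h1 : conjHom R (1 : Ω) ∈ F.Hom R := F.conj_mem (hRP.trans hPS) S.one_mem
  have h2 : ∀ x : R, conjHom R (1:Ω) x ∈ P := fun x => by
    rw [conjHom_apply]; simpa using hRP x.2
  have h3 := F.comp_mem h1 hφ h2
  have h4 : θ = φ.comp ((conjHom R (1:Ω)).codRestrict P h2) := by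
    ext x
    rw [h]
    simp [conjHom_apply]
  rw [h4]; exact h3

theorem hom_of_eq (F : FusionSystem S) {P : Subgroup Ω} {φ θ : P →* Ω} (hφ : φ ∈ F.Hom P)
    (h : ∀ x : P, θ x = φ x) : θ ∈ F.Hom P := by
  have : θ = φ := by ext x; exact h x
  rw [this]; exact hφ

theorem subtype_mem (F : FusionSystem S) {P : Subgroup Ω} (hP : P ≤ S) : P.subtype ∈ F.Hom P := by
  have h1 : conjHom P (1 : Ω) ∈ F.Hom P := F.conj_mem hP S.one_mem
  refine hom_of_eq F h1 (fun x => ?_)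
  simp [conjHom_apply]

theorem hom_of_comp (F : FusionSystem S) {P Q : Subgroup Ω} {φ : P →* Ω} {ψ : Q →* Ω}
    (hφ : φ ∈ F.Hom P) (hψ : ψ ∈ F.Hom Q) (hPQ : ∀ x : P, φ x ∈ Q) {θ : P →* Ω}
    (h : ∀ x : P, θ x = ψ ⟨φ x, hPQ x⟩) : θ ∈ F.Hom P := by
  have h3 := F.comp_mem hφ hψ hPQ
  refine hom_of_eq F h3 (fun x => ?_)
  rw [h]; rfl

/-- Inverse of a map onto its image `Q`. -/
theorem hom_inv (F : FusionSystem S) {P Q : Subgroup Ω} {φ : P →* Ω} (hφ : φ ∈ F.Hom P)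
    (hQ : φ.range = Q) :
    ∃ ψ ∈ F.Hom Q, ψ.range = P ∧ (∀ x : P, ∀ h : φ x ∈ Q, ψ ⟨φ x, h⟩ = (x : Ω)) ∧
      (∀ y : Q, ∀ h : ψ y ∈ P, φ ⟨ψ y, h⟩ = (y : Ω)) := by
  subst hQ
  obtain ⟨ψ, hψ, hψ'⟩ := F.inv_mem hφ
  have hr : ψ.range = P := by
    ext y
    constructor
    · rintro ⟨⟨_, x, rfl⟩, rfl⟩
      rw [hψ']; exact x.2
    · intro hy
      exact ⟨⟨φ ⟨y, hy⟩, ⟨_, rfl⟩⟩, hψ' ⟨y, hy⟩⟩
  refine ⟨ψ, hψ, hr, fun x h => hψ' x, ?_⟩
  rintro ⟨_, x, rfl⟩ h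
  have : (⟨ψ ⟨φ x, ⟨x, rfl⟩⟩, h⟩ : P) = x := Subtype.ext (hψ' x)
  rw [this]

/-- Membership in `Aut_F(P)` for `P ≤ S`. -/
theorem mem_autGroup_iff (F : FusionSystem S) {P : Subgroup Ω} (hP : P ≤ S) {α : MulAut P} :
    α ∈ F.autGroup P ↔ P.subtype.comp α.toMonoidHom ∈ F.Hom P := by
  constructor
  · intro h
    refine Subgroup.closure_induction (p := fun α _ => P.subtype.comp α.toMonoidHom ∈ F.Hom P)
      ?_ ?_ ?_ ?_ h
    · intro α hα; exact hα
    · exact hom_of_eq F (subtype_mem F hP) (fun x => rfl)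
    · intro α β _ _ hα hβ
      exact hom_of_comp F hβ hα (fun x => (β x).2) (fun x => rfl)
    · intro α _ hα
      have hrange : (P.subtype.comp α.toMonoidHom).range = P := by
        ext y
        constructor
        · rintro ⟨x, rfl⟩; exact (α x).2
        · intro hy
          refine ⟨α⁻¹ ⟨y, hy⟩, ?_⟩
          show ((α (α⁻¹ ⟨y, hy⟩) : P) : Ω) = y
          rw [MulAut.apply_inv_self]
      obtain ⟨ψ, hψ, -, h1, -⟩ := hom_inv F hα hrange
      refine hom_of_eq F hψ (fun y => ?_)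
      have h2 := h1 (α⁻¹ y) (α (α⁻¹ y)).2
      have h3 : (⟨(P.subtype.comp α.toMonoidHom) (α⁻¹ y), (α (α⁻¹ y)).2⟩ : P) = y := by
        apply Subtype.ext
        show ((α (α⁻¹ y) : P) : Ω) = y
        rw [MulAut.apply_inv_self]
      rw [h3] at h2
      rw [h2]; rfl
  · intro h
    exact Subgroup.subset_closure h

/-- Membership in `Aut_K(P)`. -/
theorem mem_autInducedBy_iff {K P : Subgroup Ω} {α : MulAut P} :
    α ∈ autInducedBy K P ↔ ∃ g ∈ K, ∀ x : P, ((α x : P) : Ω) = g * (x : Ω) * g⁻¹ := by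
  constructor
  · intro h
    refine Subgroup.closure_induction
      (p := fun α _ => ∃ g ∈ K, ∀ x : P, ((α x : P) : Ω) = g * (x : Ω) * g⁻¹) ?_ ?_ ?_ ?_ h
    · intro α hα; exact hα
    · exact ⟨1, K.one_mem, fun x => by simp⟩
    · rintro α β _ _ ⟨g, hg, hα⟩ ⟨k, hk, hβ⟩
      refine ⟨g * k, K.mul_mem hg hk, fun x => ?_⟩
      show ((α (β x) : P) : Ω) = _
      rw [hα, hβ, mul_inv_rev]
      simp only [mul_assoc]
    · rintro α _ ⟨g, hg, hα⟩
      refine ⟨g⁻¹, K.inv_mem hg, fun x => ?_⟩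
      have h1 := hα (α⁻¹ x)
      have h2 : α (α⁻¹ x) = x := MulAut.apply_inv_self _ α x
      rw [h2] at h1
      rw [h1]
      simp only [mul_assoc, inv_inv, inv_mul_cancel, mul_one, inv_mul_cancel_left]
  · intro h
    exact Subgroup.subset_closure h

theorem autInducedBy_le_autGroup (F : FusionSystem S) {P : Subgroup Ω} (hP : P ≤ S) :
    autInducedBy S P ≤ F.autGroup P := by
  intro α hα
  obtain ⟨g, hg, h⟩ := mem_autInducedBy_iff.1 hα
  rw [mem_autGroup_iff F hP]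
  exact hom_of_eq F (F.conj_mem hP hg) (fun x => h x)

theorem isPGroup_autInducedBy {p : ℕ} (hS : IsPGroup p S) (P : Subgroup Ω) :
    IsPGroup p (autInducedBy S P) := by
  rintro ⟨α, hα⟩
  obtain ⟨g, hg, h⟩ := mem_autInducedBy_iff.1 hα
  obtain ⟨k, hk⟩ := hS ⟨g, hg⟩
  refine ⟨k, ?_⟩
  apply Subtype.ext
  show α ^ p ^ k = 1
  have hk' : g ^ p ^ k = 1 := by
    have := congrArg Subtype.val hk
    simpa using this
  have hpow : ∀ (n : ℕ) (x : P), (((α ^ n) x : P) : Ω) = g ^ n * (x : Ω) * (g ^ n)⁻¹ := by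
    intro n
    induction n with
    | zero => intro x; simp
    | succ n ih =>
      intro x
      rw [pow_succ, MulAut.mul_apply, ih, h, pow_succ, mul_inv_rev]
      simp only [mul_assoc]
  ext x
  rw [hpow, hk']
  simp

theorem mem_extender_of {P : Subgroup Ω} {φ : P →* Ω} {g : Ω} (hgS : g ∈ S)
    (hgN : g ∈ Subgroup.normalizer (P : Set Ω)) (h : Ω) (hh : h ∈ S)
    (H : ∀ (x : P) (hx : g * (x : Ω) * g⁻¹ ∈ P), φ ⟨g * x * g⁻¹, hx⟩ = h * φ x * h⁻¹) :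
    g ∈ extender S P φ :=
  Subgroup.subset_closure ⟨hgS, hgN, h, hh, H⟩

/-- The isomorphism onto its image given by a map of the system. -/
theorem exists_equiv_of_hom (F : FusionSystem S) {P R : Subgroup Ω} {φ : P →* Ω} (hφ : φ ∈ F.Hom P)
    (hr : φ.range = R) : ∃ e : P ≃* R, ∀ x : P, ((e x : R) : Ω) = φ x := by
  have hmem : ∀ x : P, φ x ∈ R := fun x => hr ▸ ⟨x, rfl⟩
  have hinj : Function.Injective (φ.codRestrict R hmem) := by
    intro a b hab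
    apply F.injective_of_mem hφ
    exact congrArg Subtype.val hab
  have hsurj : Function.Surjective (φ.codRestrict R hmem) := by
    rintro ⟨y, hy⟩
    rw [← hr] at hy
    obtain ⟨x, rfl⟩ := hy
    exact ⟨x, rfl⟩
  exact ⟨MulEquiv.ofBijective (φ.codRestrict R hmem) ⟨hinj, hsurj⟩, fun x => rfl⟩

/-- Conjugation by an element of `S` as an automorphism of a subgroup normalized by `S`. -/
noncomputable def conjAut (R : Subgroup Ω) (g : Ω) (hg : g ∈ Subgroup.normalizer (R : Set Ω)) :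
    MulAut R :=
  Subgroup.normalizerMonoidHom R ⟨g, hg⟩

theorem conjAut_apply (R : Subgroup Ω) (g : Ω) (hg : g ∈ Subgroup.normalizer (R : Set Ω)) (x : R) :
    ((conjAut R g hg x : R) : Ω) = g * (x : Ω) * g⁻¹ := rfl

theorem conjAut_mem (R : Subgroup Ω) {g : Ω} (hgS : g ∈ S)
    (hg : g ∈ Subgroup.normalizer (R : Set Ω)) : conjAut R g hg ∈ autInducedBy S R :=
  mem_autInducedBy_iff.2 ⟨g, hgS, fun x => conjAut_apply R g hg x⟩

/-- If every automorphism of `S` in the system is inner and `φ`, a map onto a receptive subgroup with source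
normal in `S`, transports `Aut_S(P)` into `Aut_S(R)`, then `φ` is conjugation by an element of `S`. -/
theorem eq_conj_of_forall_extends (F : FusionSystem S)
    (hInn : ∀ ψ ∈ F.Hom S, ∃ s ∈ S, ∀ x : S, ψ x = s * (x : Ω) * s⁻¹)
    {P R : Subgroup Ω} (hR : F.IsReceptive R) (φ : P →* Ω) (hφ : φ ∈ F.Hom P) (hr : φ.range = R)
    (hPn : ∀ g ∈ S, g ∈ Subgroup.normalizer (P : Set Ω))
    (hext : ∀ g ∈ S, ∃ h ∈ S, ∀ (x : P) (hx : g * (x : Ω) * g⁻¹ ∈ P),
      φ ⟨g * x * g⁻¹, hx⟩ = h * φ x * h⁻¹) :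
    ∃ s ∈ S, ∀ x : P, φ x = s * (x : Ω) * s⁻¹ := by
  have hPS : P ≤ S := (F.le_of_mem hφ).1
  have hSN : S ≤ extender S P φ := by
    intro g hg
    obtain ⟨h, hh, H⟩ := hext g hg
    exact mem_extender_of hg (hPn g hg) h hh H
  obtain ⟨ψ, hψ, hψφ⟩ := hR.2 P φ hφ hr
  have hψS : ψ.comp (Subgroup.inclusion hSN) ∈ F.Hom S :=
    hom_of_restrict F hψ hSN (fun x => rfl)
  obtain ⟨s, hs, hs'⟩ := hInn _ hψS
  refine ⟨s, hs, fun x => ?_⟩
  have h1 := hs' ⟨x, hPS x.2⟩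
  have h2 := hψφ x x.2 (hSN (hPS x.2))
  rw [← h2]
  exact h1

theorem mem_smul_sylow {G : Type*} [Group G] {p : ℕ} (P : Sylow p G) (g y : G)
    (hy : y ∈ (P : Subgroup G)) : g * y * g⁻¹ ∈ ((g • P : Sylow p G) : Subgroup G) := by
  rw [Sylow.coe_subgroup_smul, Subgroup.mem_pointwise_smul_iff_inv_smul_mem]
  simpa [MulAut.smul_def, mul_assoc] using hy

theorem mem_of_mem_smul_sylow {G : Type*} [Group G] {p : ℕ} (P : Sylow p G) (g z : G)
    (hz : z ∈ ((g • P : Sylow p G) : Subgroup G)) : g⁻¹ * z * g ∈ (P : Subgroup G) := by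
  rw [Sylow.coe_subgroup_smul, Subgroup.mem_pointwise_smul_iff_inv_smul_mem] at hz
  simpa [MulAut.smul_def, mul_assoc] using hz

theorem finite_of_le [Finite S] {P : Subgroup Ω} (hP : P ≤ S) : Finite P :=
  Finite.of_injective _ (Subgroup.inclusion_injective hP)

/-- In a saturated system all of whose automorphisms of `S` are inner, every subgroup normal in `S` is fully
automized and receptive. -/
theorem fullyAutomized_receptive_of_normal [Finite S] {p : ℕ} [Fact p.Prime] (hS : IsPGroup p S)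
    (F : FusionSystem S) (hF : F.IsSaturated p)
    (hInn : ∀ ψ ∈ F.Hom S, ∃ s ∈ S, ∀ x : S, ψ x = s * (x : Ω) * s⁻¹)
    {R : Subgroup Ω} (hRS : R ≤ S) (hRn : ∀ g ∈ S, g ∈ Subgroup.normalizer (R : Set Ω)) :
    F.IsFullyAutomized p R ∧ F.IsReceptive R := by
  obtain ⟨R', ⟨φ, hφ, hr⟩, hFA, hRec⟩ := hF R hRS
  have hR'S : R' ≤ S := hFA.1
  obtain ⟨e, he⟩ := exists_equiv_of_hom F hφ hr
  obtain ⟨Syl, hSyl⟩ := hFA.2
  have hfinR' : Finite R' := finite_of_le hR'S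
  let B : Subgroup (MulAut R') := (autInducedBy S R).map (MulAut.congr e).toMonoidHom
  have he_mem : R'.subtype.comp e.toMonoidHom ∈ F.Hom R := hom_of_eq F hφ (fun x => he x)
  have hBA : B ≤ F.autGroup R' := by
    rintro _ ⟨α, hα, rfl⟩
    rw [mem_autGroup_iff F hR'S]
    have hα' : R.subtype.comp α.toMonoidHom ∈ F.Hom R :=
      (mem_autGroup_iff F hRS).1 (autInducedBy_le_autGroup F hRS hα)
    have hrange : (R'.subtype.comp e.toMonoidHom).range = R' := by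
      ext y
      constructor
      · rintro ⟨x, rfl⟩; exact (e x).2
      · intro hy
        refine ⟨e.symm ⟨y, hy⟩, ?_⟩
        show ((e (e.symm ⟨y, hy⟩) : R') : Ω) = y
        rw [MulEquiv.apply_symm_apply]
    obtain ⟨ψ, hψ, -, h1, -⟩ := hom_inv F he_mem hrange
    have hψ' : ∀ y : R', ψ y = ((e.symm y : R) : Ω) := by
      intro y
      have h2 := h1 (e.symm y) (e (e.symm y)).2
      have h3 : (⟨(R'.subtype.comp e.toMonoidHom) (e.symm y), (e (e.symm y)).2⟩ : R') = y := by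
        apply Subtype.ext
        show ((e (e.symm y) : R') : Ω) = y
        rw [MulEquiv.apply_symm_apply]
      rw [h3] at h2
      exact h2
    have c1 : R.subtype.comp (α.toMonoidHom.comp e.symm.toMonoidHom) ∈ F.Hom R' := by
      refine hom_of_comp F hψ hα' (fun y => by rw [hψ']; exact (e.symm y).2) (fun y => ?_)
      show ((α (e.symm y) : R) : Ω) = ((α ⟨ψ y, _⟩ : R) : Ω)
      congr 2
      exact Subtype.ext (hψ' y).symm
    exact hom_of_comp F c1 he_mem (fun y => (α (e.symm y)).2) (fun y => rfl)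
  have hBp : IsPGroup p B := (isPGroup_autInducedBy hS R).map _
  obtain ⟨Q₁, hQ₁⟩ := (hBp.comap_subtype (K := F.autGroup R')).exists_le_sylow
  obtain ⟨a, ha⟩ := MulAction.exists_smul_eq (F.autGroup R') Q₁ Syl
  have hconj : ∀ β ∈ B, (a : MulAut R') * β * (a : MulAut R')⁻¹ ∈ autInducedBy S R' := by
    intro β hβ
    have h1 : (⟨β, hBA hβ⟩ : F.autGroup R') ∈ (Q₁ : Subgroup (F.autGroup R')) :=
      hQ₁ (show (⟨β, hBA hβ⟩ : F.autGroup R') ∈ Subgroup.comap (F.autGroup R').subtype B from hβ)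
    have h2 := mem_smul_sylow Q₁ a _ h1
    rw [ha, hSyl, Subgroup.mem_subgroupOf] at h2
    exact h2
  let χ : MulAut R' := (a : MulAut R')
  let φ₁ : R →* Ω := R'.subtype.comp (χ.toMonoidHom.comp e.toMonoidHom)
  have hφ₁ : φ₁ ∈ F.Hom R :=
    hom_of_comp F he_mem ((mem_autGroup_iff F hR'S).1 a.2) (fun x => (e x).2) (fun x => rfl)
  have hr₁ : φ₁.range = R' := by
    ext y
    constructor
    · rintro ⟨x, rfl⟩; exact (χ (e x)).2
    · intro hy
      refine ⟨e.symm (χ⁻¹ ⟨y, hy⟩), ?_⟩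
      show ((χ (e (e.symm (χ⁻¹ ⟨y, hy⟩))) : R') : Ω) = y
      rw [MulEquiv.apply_symm_apply, MulAut.apply_inv_self]
  have hext : ∀ g ∈ S, ∃ h ∈ S, ∀ (x : R) (hx : g * (x : Ω) * g⁻¹ ∈ R),
      φ₁ ⟨g * x * g⁻¹, hx⟩ = h * φ₁ x * h⁻¹ := by
    intro g hg
    have hβ : MulAut.congr e (conjAut R g (hRn g hg)) ∈ B :=
      ⟨_, conjAut_mem R hg (hRn g hg), rfl⟩
    obtain ⟨h, hh, H⟩ := mem_autInducedBy_iff.1 (hconj _ hβ)
    refine ⟨h, hh, fun x hx => ?_⟩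
    have H1 := H (χ (e x))
    show ((χ (e ⟨g * x * g⁻¹, hx⟩) : R') : Ω) = h * ((χ (e x) : R') : Ω) * h⁻¹
    rw [← H1]
    show ((χ (e ⟨g * x * g⁻¹, hx⟩) : R') : Ω) =
      ((χ (MulAut.congr e (conjAut R g (hRn g hg)) (χ⁻¹ (χ (e x)))) : R') : Ω)
    rw [MulAut.inv_apply_self]
    show ((χ (e ⟨g * x * g⁻¹, hx⟩) : R') : Ω) =
      ((χ (e (conjAut R g (hRn g hg) (e.symm (e x)))) : R') : Ω)
    rw [MulEquiv.symm_apply_apply]
    rfl
  obtain ⟨s, hs, hs'⟩ := eq_conj_of_forall_extends F hInn hRec φ₁ hφ₁ hr₁ hRn hext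
  have hRR' : R' = R := by
    rw [← hr₁]
    have hsn := hRn s hs
    ext y
    constructor
    · rintro ⟨x, rfl⟩
      rw [hs']
      exact (Subgroup.mem_normalizer_iff.mp hsn x).mp x.2
    · intro hy
      have h1 : s⁻¹ * y * s ∈ R := by
        have := (Subgroup.mem_normalizer_iff.mp hsn (s⁻¹ * y * s)).mpr
          (by simpa [mul_assoc] using hy)
        exact this
      refine ⟨⟨s⁻¹ * y * s, h1⟩, ?_⟩
      rw [hs']
      simp [mul_assoc]
  subst hRR'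
  exact ⟨hFA, hRec⟩

/-- A subgroup of `S` containing a subgroup `Q` that contains all commutators of `S` is normal in `S`. -/
theorem normal_of_comm {Q H : Subgroup Ω} (hQH : Q ≤ H) (hHS : H ≤ S)
    (hcomm : ∀ s ∈ S, ∀ t ∈ S, s * t * s⁻¹ * t⁻¹ ∈ Q) :
    ∀ g ∈ S, g ∈ Subgroup.normalizer (H : Set Ω) := by
  intro g hg
  rw [Subgroup.mem_normalizer_iff]
  intro x
  constructor
  · intro hx
    have h1 : g * x * g⁻¹ = (g * x * g⁻¹ * x⁻¹) * x := by group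
    rw [h1]
    exact H.mul_mem (hQH (hcomm g hg x (hHS hx))) hx
  · intro hx
    have h1 : x = (g⁻¹ * (g * x * g⁻¹) * g⁻¹⁻¹ * (g * x * g⁻¹)⁻¹) * (g * x * g⁻¹) := by group
    rw [h1]
    exact H.mul_mem (hQH (hcomm g⁻¹ (S.inv_mem hg) _ (hHS hx))) hx

/-- In a saturated system all of whose automorphisms of `S` are inner: if `Q` contains the commutators of
`S` and `Q ≤ H ≤ S`, every automorphism of `H` in the system that maps `Q` into `Q` acts trivially on `H/Q`. -/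
theorem aut_mul_inv_mem [Finite S] {p : ℕ} [Fact p.Prime] (hS : IsPGroup p S)
    (F : FusionSystem S) (hF : F.IsSaturated p)
    (hInn : ∀ ψ ∈ F.Hom S, ∃ s ∈ S, ∀ x : S, ψ x = s * (x : Ω) * s⁻¹)
    {Q H : Subgroup Ω} (hQH : Q ≤ H) (hHS : H ≤ S)
    (hcomm : ∀ s ∈ S, ∀ t ∈ S, s * t * s⁻¹ * t⁻¹ ∈ Q)
    (β : MulAut H) (hβ : β ∈ F.autGroup H) (hβQ : ∀ x : H, (x : Ω) ∈ Q → ((β x : H) : Ω) ∈ Q) :
    ∀ x : H, ((β x : H) : Ω) * (x : Ω)⁻¹ ∈ Q := by
  have hHn : ∀ g ∈ S, g ∈ Subgroup.normalizer (H : Set Ω) := normal_of_comm hQH hHS hcomm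
  obtain ⟨hFA, hRec⟩ := fullyAutomized_receptive_of_normal hS F hF hInn hHS hHn
  obtain ⟨Syl, hSyl⟩ := hFA.2
  have hfinH : Finite H := finite_of_le hHS
  let K : Subgroup (F.autGroup H) :=
    { carrier := {γ | ∀ x : H, (((γ : MulAut H) x : H) : Ω) * (x : Ω)⁻¹ ∈ Q}
      mul_mem' := by
        intro γ δ hγ hδ x
        have h1 := hγ ((δ : MulAut H) x)
        have h2 := hδ x
        have h3 : ((((γ * δ : F.autGroup H) : MulAut H) x : H) : Ω) * (x : Ω)⁻¹ =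
            ((((γ : MulAut H) ((δ : MulAut H) x) : H) : Ω) * ((((δ : MulAut H) x : H)) : Ω)⁻¹) *
              (((((δ : MulAut H) x : H)) : Ω) * (x : Ω)⁻¹) := by
          rw [Subgroup.coe_mul, MulAut.mul_apply]
          group
        rw [h3]
        exact Q.mul_mem h1 h2
      one_mem' := by
        intro x
        simp
      inv_mem' := by
        intro γ hγ x
        have h1 := hγ ((γ : MulAut H)⁻¹ x)
        rw [MulAut.apply_inv_self] at h1
        have h2 : ((((γ⁻¹ : F.autGroup H) : MulAut H) x : H) : Ω) * (x : Ω)⁻¹ =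
            ((x : Ω) * ((((γ : MulAut H)⁻¹ x : H)) : Ω)⁻¹)⁻¹ := by
          rw [Subgroup.coe_inv]
          group
        rw [h2]
        exact Q.inv_mem h1 }
  have hK : ∀ γ : F.autGroup H, γ ∈ K ↔ ∀ x : H, (((γ : MulAut H) x : H) : Ω) * (x : Ω)⁻¹ ∈ Q :=
    fun γ => Iff.rfl
  let b : F.autGroup H := ⟨β, hβ⟩
  have h₁ : (Syl : Subgroup (F.autGroup H)) ≤ K := by
    intro γ hγ
    rw [hSyl, Subgroup.mem_subgroupOf] at hγ
    obtain ⟨g, hg, hγ'⟩ := mem_autInducedBy_iff.1 hγ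
    rw [hK]
    intro x
    rw [hγ']
    exact hcomm g hg x (hHS x.2)
  have h₂ : ((b • Syl : Sylow p (F.autGroup H)) : Subgroup (F.autGroup H)) ≤ K := by
    intro γ hγ
    have hr := h₁ (mem_of_mem_smul_sylow Syl b γ hγ)
    rw [hK] at hr ⊢
    intro x
    have h3 := hr (β⁻¹ x)
    have h4 := hβQ (((b⁻¹ * γ * b : F.autGroup H) : MulAut H) (β⁻¹ x) * (β⁻¹ x)⁻¹) h3
    have h5 : ((b⁻¹ * γ * b : F.autGroup H) : MulAut H) (β⁻¹ x) = β⁻¹ ((γ : MulAut H) x) := by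
      show (β⁻¹ * (γ : MulAut H) * β) (β⁻¹ x) = β⁻¹ ((γ : MulAut H) x)
      rw [MulAut.mul_apply, MulAut.mul_apply, MulAut.apply_inv_self]
    rw [h5, map_mul, map_inv, MulAut.apply_inv_self, MulAut.apply_inv_self] at h4
    exact h4
  let R₁ : Sylow p K := Syl.subtype h₁
  let R₂ : Sylow p K := (b • Syl : Sylow p (F.autGroup H)).subtype h₂
  obtain ⟨k, hk⟩ := MulAction.exists_smul_eq K R₂ R₁
  let c : F.autGroup H := (k : F.autGroup H) * b
  have hc : ∀ r ∈ (Syl : Subgroup (F.autGroup H)), c * r * c⁻¹ ∈ (Syl : Subgroup (F.autGroup H)) := by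
    intro r hr
    have h1 := mem_smul_sylow Syl b r hr
    have h2 : (⟨b * r * b⁻¹, h₂ h1⟩ : K) ∈ (R₂ : Subgroup K) := by
      show (⟨b * r * b⁻¹, h₂ h1⟩ : K) ∈
        (((b • Syl : Sylow p (F.autGroup H)).subtype h₂ : Sylow p K) : Subgroup K)
      rw [Sylow.coe_subtype, Subgroup.mem_subgroupOf]
      exact h1
    have h3 := mem_smul_sylow R₂ k _ h2
    rw [hk] at h3
    have h4 : k * (⟨b * r * b⁻¹, h₂ h1⟩ : K) * k⁻¹ ∈ ((Syl.subtype h₁ : Sylow p K) : Subgroup K) := h3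
    rw [Sylow.coe_subtype, Subgroup.mem_subgroupOf] at h4
    have h5 : ((k * (⟨b * r * b⁻¹, h₂ h1⟩ : K) * k⁻¹ : K) : F.autGroup H) = c * r * c⁻¹ := by
      show (k : F.autGroup H) * (b * r * b⁻¹) * (k : F.autGroup H)⁻¹ = (k : F.autGroup H) * b * r * ((k : F.autGroup H) * b)⁻¹
      group
    rw [h5] at h4
    exact h4
  let γ : MulAut H := (c : MulAut H)
  have hγF : H.subtype.comp γ.toMonoidHom ∈ F.Hom H := (mem_autGroup_iff F hHS).1 c.2
  have hrange : (H.subtype.comp γ.toMonoidHom).range = H := by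
    ext y
    constructor
    · rintro ⟨x, rfl⟩; exact (γ x).2
    · intro hy
      refine ⟨γ⁻¹ ⟨y, hy⟩, ?_⟩
      show ((γ (γ⁻¹ ⟨y, hy⟩) : H) : Ω) = y
      rw [MulAut.apply_inv_self]
  have hext : ∀ g ∈ S, ∃ h ∈ S, ∀ (x : H) (hx : g * (x : Ω) * g⁻¹ ∈ H),
      (H.subtype.comp γ.toMonoidHom) ⟨g * x * g⁻¹, hx⟩ = h * (H.subtype.comp γ.toMonoidHom) x * h⁻¹ := by
    intro g hg
    have hmem : conjAut H g (hHn g hg) ∈ autInducedBy S H := conjAut_mem H hg (hHn g hg)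
    let rg : F.autGroup H := ⟨conjAut H g (hHn g hg), autInducedBy_le_autGroup F hHS hmem⟩
    have hrg : rg ∈ (Syl : Subgroup (F.autGroup H)) := by
      rw [hSyl, Subgroup.mem_subgroupOf]
      exact hmem
    have h1 := hc rg hrg
    rw [hSyl, Subgroup.mem_subgroupOf] at h1
    obtain ⟨h, hh, Hh⟩ := mem_autInducedBy_iff.1 h1
    refine ⟨h, hh, fun x hx => ?_⟩
    have H1 := Hh (γ x)
    show ((γ ⟨g * x * g⁻¹, hx⟩ : H) : Ω) = h * ((γ x : H) : Ω) * h⁻¹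
    rw [← H1]
    show ((γ ⟨g * x * g⁻¹, hx⟩ : H) : Ω) = ((γ (conjAut H g (hHn g hg) (γ⁻¹ (γ x))) : H) : Ω)
    rw [MulAut.inv_apply_self]
    rfl
  obtain ⟨s, hs, hs'⟩ := eq_conj_of_forall_extends F hInn hRec _ hγF hrange hHn hext
  have hs'' : ∀ x : H, ((γ x : H) : Ω) = s * (x : Ω) * s⁻¹ := hs'
  intro x
  have hkK : (k⁻¹ : K) ∈ (⊤ : Subgroup K) := trivial
  have h1 : (((((k⁻¹ : K) : F.autGroup H) : MulAut H) (γ x) : H) : Ω) * ((γ x : H) : Ω)⁻¹ ∈ Q :=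
    (hK _).1 (k⁻¹ : K).2 (γ x)
  have h2 : ((γ x : H) : Ω) * (x : Ω)⁻¹ ∈ Q := by
    rw [hs'']
    exact hcomm s hs x (hHS x.2)
  have h3 : ((((k⁻¹ : K) : F.autGroup H) : MulAut H) (γ x)) = β x := by
    show (((k : F.autGroup H) : MulAut H))⁻¹ ((((k : F.autGroup H) : MulAut H) * β) x) = β x
    rw [MulAut.mul_apply, MulAut.inv_apply_self]
  rw [h3] at h1
  have h4 : ((β x : H) : Ω) * (x : Ω)⁻¹ =
      (((β x : H) : Ω) * ((γ x : H) : Ω)⁻¹) * (((γ x : H) : Ω) * (x : Ω)⁻¹) := by group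
  rw [h4]
  exact Q.mul_mem h1 h2

/-- An automorphism of the system of a receptive subgroup `R` normal in `S` that normalizes `Aut_S(R)` lies in
`Aut_S(R)`, provided every automorphism of `S` in the system is inner. -/
theorem mem_autInducedBy_of_normalizes (F : FusionSystem S)
    (hInn : ∀ ψ ∈ F.Hom S, ∃ s ∈ S, ∀ x : S, ψ x = s * (x : Ω) * s⁻¹)
    {R : Subgroup Ω} (hRS : R ≤ S) (hRn : ∀ g ∈ S, g ∈ Subgroup.normalizer (R : Set Ω))
    (hRec : F.IsReceptive R) (γ : MulAut R) (hγ : γ ∈ F.autGroup R)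
    (hnorm : ∀ δ ∈ autInducedBy S R, γ * δ * γ⁻¹ ∈ autInducedBy S R) : γ ∈ autInducedBy S R := by
  have hγF : R.subtype.comp γ.toMonoidHom ∈ F.Hom R := (mem_autGroup_iff F hRS).1 hγ
  have hrange : (R.subtype.comp γ.toMonoidHom).range = R := by
    ext y
    constructor
    · rintro ⟨x, rfl⟩; exact (γ x).2
    · intro hy
      refine ⟨γ⁻¹ ⟨y, hy⟩, ?_⟩
      show ((γ (γ⁻¹ ⟨y, hy⟩) : R) : Ω) = y
      rw [MulAut.apply_inv_self]
  have hext : ∀ g ∈ S, ∃ h ∈ S, ∀ (x : R) (hx : g * (x : Ω) * g⁻¹ ∈ R),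
      (R.subtype.comp γ.toMonoidHom) ⟨g * x * g⁻¹, hx⟩ =
        h * (R.subtype.comp γ.toMonoidHom) x * h⁻¹ := by
    intro g hg
    obtain ⟨h, hh, Hh⟩ := mem_autInducedBy_iff.1 (hnorm _ (conjAut_mem R hg (hRn g hg)))
    refine ⟨h, hh, fun x hx => ?_⟩
    have H1 := Hh (γ x)
    show ((γ ⟨g * x * g⁻¹, hx⟩ : R) : Ω) = h * ((γ x : R) : Ω) * h⁻¹
    rw [← H1]
    show ((γ ⟨g * x * g⁻¹, hx⟩ : R) : Ω) = ((γ (conjAut R g (hRn g hg) (γ⁻¹ (γ x))) : R) : Ω)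
    rw [MulAut.inv_apply_self]
    rfl
  obtain ⟨s, hs, hs'⟩ := eq_conj_of_forall_extends F hInn hRec _ hγF hrange hRn hext
  exact mem_autInducedBy_iff.2 ⟨s, hs, hs'⟩

/-- The conjugation homomorphism `S → Aut(Q)` for a subgroup `Q` normalized by `S`. -/
noncomputable def conjS {Q : Subgroup Ω} (hQn : ∀ g ∈ S, g ∈ Subgroup.normalizer (Q : Set Ω)) :
    S →* MulAut Q :=
  (Subgroup.normalizerMonoidHom Q).comp (Subgroup.inclusion (fun g hg => hQn g hg))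

theorem conjS_apply {Q : Subgroup Ω} (hQn : ∀ g ∈ S, g ∈ Subgroup.normalizer (Q : Set Ω)) (s : S)
    (x : Q) : ((conjS hQn s x : Q) : Ω) = (s : Ω) * (x : Ω) * (s : Ω)⁻¹ := rfl

theorem conjS_mem {Q : Subgroup Ω} (hQn : ∀ g ∈ S, g ∈ Subgroup.normalizer (Q : Set Ω)) (s : S) :
    conjS hQn s ∈ autInducedBy S Q :=
  mem_autInducedBy_iff.2 ⟨s, s.2, fun x => conjS_apply hQn s x⟩

theorem exists_conjS_eq {Q : Subgroup Ω} (hQn : ∀ g ∈ S, g ∈ Subgroup.normalizer (Q : Set Ω))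
    {α : MulAut Q} (hα : α ∈ autInducedBy S Q) : ∃ s : S, conjS hQn s = α := by
  obtain ⟨g, hg, h⟩ := mem_autInducedBy_iff.1 hα
  refine ⟨⟨g, hg⟩, ?_⟩
  ext x
  rw [h]
  rfl

end Cfsg.Agent.Helper86
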