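import Cfsg.Agent.Helper86.GenClosureA

/-!
# Control of weak closure by a functor, with a datum predicate: the induction, part C (helper86)

The case of a saturated system with a nontrivial normal subgroup `Q` of largest order: the fixed elements lie
in `Q` (variant of `WeakClosureC` / `PowClosureC` for a datum predicate).
-/

set_option autoImplicit false

namespace Cfsg.Agent.Helper86

open Cfsg Cfsg.FusionSystem Cfsg.Agent.Helper84

universe u

section GenC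

variable {p : ℕ} [Fact p.Prime] (W : ∀ (Q : Type u) [Group Q], Subgroup Q)
  (D : ∀ (Ω : Type u) [Group Ω] (S : Subgroup Ω), FusionSystem S → Subgroup Ω → Prop)

variable {Ω : Type u} [Group Ω] {S : Subgroup Ω}

/-- The elements fixed by `N_F(W(S))` lie in every normal subgroup of `F` of largest order. -/
theorem le_normal_of_fixN_gen (hDn : DNorm p D) (hDq : DQuot p D) (hW1 : WPos p W) (hW2 : WIso p W) [Finite S] (hS : IsPGroup p S)
    (F : FusionSystem S) (hF : F.IsSaturated p) (ih : IHG W D p F) {Q : Subgroup Ω} (hQn : F.IsNormal Q)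
    (hQbot : Q ≠ ⊥) (hmax : ∀ Y, F.IsNormal Y → Q ≤ Y → Y = Q)
    {Z : Subgroup Ω} (hZS : Z ≤ S) (hZD : D Ω S F Z) (hZ : ∀ z ∈ Z, FixN F (Wsub W S) z) :
    Z ≤ Q := by
  have hQS := hQn.1
  by_cases hQS' : Q = S
  · rw [hQS']; exact hZS
  have hcent : ∀ z ∈ Z, ∀ s ∈ S, s * z * s⁻¹ = z := fun z hz =>
    central_of_fixN W hW2 hS F (hZS hz) (hZ z hz)
  have hsc := normal_stronglyClosed F hQn
  have hnorm : S ≤ Subgroup.normalizer (Q : Set Ω) := normal_le_normalizer F hQn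
  have hQnS : (Q.subgroupOf S).Normal := (Subgroup.normal_subgroupOf_iff_le_normalizer hQS).2 hnorm
  have hfQ : Finite Q := finite_of_le hQS
  obtain ⟨E', hE'⟩ := S5132.result p hS F Q hsc
  have hZD' := hDq Ω S hS F hF Q hQn E' hE' Z hZS hZD
  have hsurj := S5134.result p hS F hF Q hsc (QuotientGroup.mk' (Q.subgroupOf S)) E' hE'
  have hE'sat := S5133.result p hS F hF E' (QuotientGroup.mk' (Q.subgroupOf S)) hsurj
  obtain ⟨-, hker, hrange, hHom⟩ := hE'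
  have hpq : IsPGroup p (↥S ⧸ Q.subgroupOf S) := hS.to_quotient _
  have hpT : IsPGroup p ↥(⊤ : Subgroup (↥S ⧸ Q.subgroupOf S)) := hpq.to_subgroup _
  have hcard : Nat.card ↥(⊤ : Subgroup (↥S ⧸ Q.subgroupOf S)) < Nat.card S := by
    rw [Subgroup.card_top, ← Subgroup.index_eq_card, ← Subgroup.card_mul_index (Q.subgroupOf S)]
    have h1 : 1 < Nat.card (Q.subgroupOf S) := by
      rw [Nat.card_congr (Subgroup.subgroupOfEquivOfLe hQS).toEquiv]
      exact (Subgroup.one_lt_card_iff_ne_bot Q).2 hQbot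
    have h2 : 0 < (Q.subgroupOf S).index := Nat.pos_of_ne_zero Subgroup.index_ne_zero_of_finite
    exact lt_mul_of_one_lt_left h2 h1
  have hXE' := ih (↥S ⧸ Q.subgroupOf S) ⊤ hpT E' hE'sat (Or.inl hcard)
  -- the quotient is nontrivial
  obtain ⟨s₀, hs₀S, hs₀Q⟩ := SetLike.not_le_iff_exists.1 (fun h : S ≤ Q => hQS' (le_antisymm hQS h))
  have hnt : Nontrivial (↥S ⧸ Q.subgroupOf S) :=
    nontrivial_of_ne (QuotientGroup.mk' (Q.subgroupOf S) ⟨s₀, hs₀S⟩) 1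
      (fun h => hs₀Q ((hker ⟨s₀, hs₀S⟩).1 h))
  have hW'bot : Wsub W (⊤ : Subgroup (↥S ⧸ Q.subgroupOf S)) ≠ ⊥ := Wsub_ne_bot W hW1 hpT top_ne_bot
  have hW'norm := le_normalizer_Wsub W hW2 hpT
  -- the preimage `U` of `W(S/Q)`
  have hUS : preimageAlong (QuotientGroup.mk' (Q.subgroupOf S))
      (Wsub W (⊤ : Subgroup (↥S ⧸ Q.subgroupOf S))) ≤ S := Helper85.preimageAlong_le _ _
  have hfU : Finite ↥(preimageAlong (QuotientGroup.mk' (Q.subgroupOf S))
      (Wsub W (⊤ : Subgroup (↥S ⧸ Q.subgroupOf S)))) := finite_of_le hUS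
  have hQU : Q ≤ preimageAlong (QuotientGroup.mk' (Q.subgroupOf S))
      (Wsub W (⊤ : Subgroup (↥S ⧸ Q.subgroupOf S))) := by
    intro q hq
    refine (Helper85.mem_preimageAlong _ _ q).2 ⟨hQS hq, ?_⟩
    rw [(hker ⟨q, hQS hq⟩).2 hq]
    exact Subgroup.one_mem _
  have hUQ : preimageAlong (QuotientGroup.mk' (Q.subgroupOf S))
      (Wsub W (⊤ : Subgroup (↥S ⧸ Q.subgroupOf S))) ≠ Q := by
    intro e
    obtain ⟨⟨w, hw⟩, hw1⟩ := (Subgroup.ne_bot_iff_exists_ne_one).1 hW'bot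
    obtain ⟨s, rfl⟩ := QuotientGroup.mk'_surjective (Q.subgroupOf S) w
    have h1 : (s : Ω) ∈ preimageAlong (QuotientGroup.mk' (Q.subgroupOf S))
        (Wsub W (⊤ : Subgroup (↥S ⧸ Q.subgroupOf S))) :=
      (Helper85.mem_preimageAlong _ _ _).2 ⟨s.2, hw⟩
    rw [e] at h1
    apply hw1
    apply Subtype.ext
    exact (hker s).2 h1
  have hUnorm : S ≤ Subgroup.normalizer ((preimageAlong (QuotientGroup.mk' (Q.subgroupOf S))
      (Wsub W (⊤ : Subgroup (↥S ⧸ Q.subgroupOf S))) : Subgroup Ω) : Set Ω) := by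
    intro s hs
    apply mem_normalizer_of_forall_conj_mem
    intro a ha
    obtain ⟨haS, haW⟩ := (Helper85.mem_preimageAlong _ _ a).1 ha
    refine (Helper85.mem_preimageAlong _ _ _).2 ⟨S.mul_mem (S.mul_mem hs haS) (S.inv_mem hs), ?_⟩
    have e : (⟨s * a * s⁻¹, S.mul_mem (S.mul_mem hs haS) (S.inv_mem hs)⟩ : S) =
        ⟨s, hs⟩ * ⟨a, haS⟩ * ⟨s, hs⟩⁻¹ := rfl
    rw [e, map_mul, map_mul, map_inv]
    exact (Subgroup.mem_normalizer_iff.1 (hW'norm (Subgroup.mem_top _)) _).1 haW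
  have hUn : ¬ F.IsNormal (preimageAlong (QuotientGroup.mk' (Q.subgroupOf S))
      (Wsub W (⊤ : Subgroup (↥S ⧸ Q.subgroupOf S)))) := fun h => hUQ (hmax _ h hQU)
  have hfixU := fixN_of_normal_in_S_gen W D hDn hS F hF ih hUS hUnorm hUn hZS hZD hZ
  -- the image of `Z` is fixed by the normalizer system of `W(S/Q)` in the quotient system
  have hZ' : ∀ z' ∈ imageAlong (QuotientGroup.mk' (Q.subgroupOf S)) Z,
      FixN E' (Wsub W (⊤ : Subgroup (↥S ⧸ Q.subgroupOf S))) z' := by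
    intro z' hz' P' φ' hφ' x' hx'
    obtain ⟨z, hzS, hzZ, rfl⟩ := (Helper85.mem_imageAlong _ Z z').1 hz'
    obtain ⟨hφ'E, hP'N, hφ'N, ψ', hψ'E, hψ'φ', hψ'W⟩ := hφ'
    obtain ⟨-, ψ, hψ, hB, hψS, hmemB, hcomm⟩ := (hHom _ ψ').1 hψ'E
    have hUB : preimageAlong (QuotientGroup.mk' (Q.subgroupOf S))
        (Wsub W (⊤ : Subgroup (↥S ⧸ Q.subgroupOf S))) ≤
        preimageAlong (QuotientGroup.mk' (Q.subgroupOf S))
          (P' ⊔ Wsub W (⊤ : Subgroup (↥S ⧸ Q.subgroupOf S))) :=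
      Helper85.preimageAlong_mono _ le_sup_right
    have hψU : ((preimageAlong (QuotientGroup.mk' (Q.subgroupOf S))
        (Wsub W (⊤ : Subgroup (↥S ⧸ Q.subgroupOf S)))).subgroupOf
          (preimageAlong (QuotientGroup.mk' (Q.subgroupOf S))
            (P' ⊔ Wsub W (⊤ : Subgroup (↥S ⧸ Q.subgroupOf S))))).map ψ =
        preimageAlong (QuotientGroup.mk' (Q.subgroupOf S))
          (Wsub W (⊤ : Subgroup (↥S ⧸ Q.subgroupOf S))) := by
      refine map_subgroupOf_eq_of_forall_mem hUB (F.injective_of_mem hψ) (fun b hb => ?_)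
      obtain ⟨hbS, hbW⟩ := (Helper85.mem_preimageAlong _ _ _).1 hb
      refine (Helper85.mem_preimageAlong _ _ _).2 ⟨hψS b, ?_⟩
      rw [← hcomm b]
      exact (le_of_eq hψ'W) ⟨⟨_, hmemB b⟩, hbW, rfl⟩
    have hψN := normalizerHom_of_self F hUB (le_inf hB (hB.trans hUnorm)) hψ hψU
    have hzB : z ∈ preimageAlong (QuotientGroup.mk' (Q.subgroupOf S))
        (P' ⊔ Wsub W (⊤ : Subgroup (↥S ⧸ Q.subgroupOf S))) := by
      refine (Helper85.mem_preimageAlong _ _ z).2 ⟨hzS, ?_⟩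
      rw [← hx']
      exact (le_sup_left : P' ≤ P' ⊔ Wsub W (⊤ : Subgroup (↥S ⧸ Q.subgroupOf S))) x'.2
    have hfix := hfixU z hzZ _ ψ hψN ⟨z, hzB⟩ rfl
    rw [← hψ'φ' x']
    have e : Subgroup.inclusion le_sup_left x' =
        ⟨QuotientGroup.mk' (Q.subgroupOf S) ⟨(⟨z, hzB⟩ : ↥(preimageAlong
          (QuotientGroup.mk' (Q.subgroupOf S)) (P' ⊔ Wsub W (⊤ : Subgroup (↥S ⧸ Q.subgroupOf S))))),
            hB hzB⟩, hmemB ⟨z, hzB⟩⟩ := Subtype.ext hx'
    rw [e, hcomm ⟨z, hzB⟩]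
    congr 1
    exact Subtype.ext hfix
  have hfixE' := hXE' _ le_top hZD' hZ'
  -- the preimage `Y` of the image of `Z`
  have hYS : preimageAlong (QuotientGroup.mk' (Q.subgroupOf S))
      (imageAlong (QuotientGroup.mk' (Q.subgroupOf S)) Z) ≤ S := Helper85.preimageAlong_le _ _
  have hQY : Q ≤ preimageAlong (QuotientGroup.mk' (Q.subgroupOf S))
      (imageAlong (QuotientGroup.mk' (Q.subgroupOf S)) Z) := by
    intro q hq
    refine (Helper85.mem_preimageAlong _ _ q).2 ⟨hQS hq, ?_⟩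
    rw [(hker ⟨q, hQS hq⟩).2 hq]
    exact Subgroup.one_mem _
  have hZY : Z ≤ preimageAlong (QuotientGroup.mk' (Q.subgroupOf S))
      (imageAlong (QuotientGroup.mk' (Q.subgroupOf S)) Z) := by
    intro z hz
    exact (Helper85.mem_preimageAlong _ _ z).2
      ⟨hZS hz, (Helper85.mem_imageAlong _ Z _).2 ⟨z, hZS hz, hz, rfl⟩⟩
  have hdec : ∀ y ∈ preimageAlong (QuotientGroup.mk' (Q.subgroupOf S))
      (imageAlong (QuotientGroup.mk' (Q.subgroupOf S)) Z), ∃ z₁ ∈ Z, z₁⁻¹ * y ∈ Q := by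
    intro y hy
    obtain ⟨hyS, hy'⟩ := (Helper85.mem_preimageAlong _ _ y).1 hy
    obtain ⟨z₁, hz₁S, hz₁Z, hz₁⟩ := (Helper85.mem_imageAlong _ Z _).1 hy'
    refine ⟨z₁, hz₁Z, ?_⟩
    have h1 : QuotientGroup.mk' (Q.subgroupOf S) (⟨z₁, hz₁S⟩⁻¹ * ⟨y, hyS⟩) = 1 := by
      rw [map_mul, map_inv, hz₁, inv_mul_cancel]
    exact (hker _).1 h1
  have hsc' : F.StronglyClosed (preimageAlong (QuotientGroup.mk' (Q.subgroupOf S))
      (imageAlong (QuotientGroup.mk' (Q.subgroupOf S)) Z)) := by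
    refine ⟨hYS, fun R hRY φ hφ x => ?_⟩
    obtain ⟨φ', hφ', hRS, hφS, hR', hcomm⟩ := hsurj.1.2 R φ hφ
    obtain ⟨hxS, hxZ'⟩ := (Helper85.mem_preimageAlong _ _ _).1 (hRY x.2)
    have h1 := hfixE' _ hxZ' _ φ' hφ' ⟨_, hR' x⟩ rfl
    rw [hcomm x] at h1
    refine (Helper85.mem_preimageAlong _ _ _).2 ⟨hφS x, ?_⟩
    rw [h1]
    exact hxZ'
  have hcr : ∀ P : Subgroup Ω, F.IsCentric P → F.IsRadical p P →
      preimageAlong (QuotientGroup.mk' (Q.subgroupOf S))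
        (imageAlong (QuotientGroup.mk' (Q.subgroupOf S)) Z) ≤ P := by
    intro P hc hr y hy
    obtain ⟨z₁, hz₁, hq⟩ := hdec y hy
    have hQP := normal_le_of_centric_radical hS F hQn hc hr
    have hz₁P : z₁ ∈ P := by
      refine hc.2 P (isConj_refl F hc.1) ⟨hZS hz₁, ?_⟩
      show z₁ ∈ Subgroup.centralizer (P : Set Ω)
      rw [Subgroup.mem_centralizer_iff]
      intro h hh
      have h1 := hcent z₁ hz₁ h (hc.1 hh)
      calc h * z₁ = (h * z₁ * h⁻¹) * h := by group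
        _ = z₁ * h := by rw [h1]
    have e : y = z₁ * (z₁⁻¹ * y) := by group
    rw [e]
    exact P.mul_mem hz₁P (hQP hq)
  have hYn := (normal_iff_stronglyClosed p hS F hF _).2 ⟨hsc', hcr⟩
  exact hZY.trans (le_of_eq (hmax _ hYn hQY))

end GenC

end Cfsg.Agent.Helper86
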