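import Cfsg.Agent.Helper86.GenClosureC

/-!
# Control of weak closure by a functor, with a datum predicate: the induction, part D (helper86)

The case of a nontrivial normal subgroup, and the induction `xg_all`: for a positive characteristic `p`-functor `W`
and a datum predicate `D` closed under normalizer systems and factor systems, for which the constrained case holds,
every subgroup `Z ≤ S` with `D F Z` whose elements are fixed by `N_F(W(S))` consists of elements fixed by `F`.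
-/

set_option autoImplicit false

namespace Cfsg.Agent.Helper86

open Cfsg Cfsg.FusionSystem Cfsg.Agent.Helper84

universe u

section GenD

variable {p : ℕ} [Fact p.Prime] (W : ∀ (Q : Type u) [Group Q], Subgroup Q)
  (D : ∀ (Ω : Type u) [Group Ω] (S : Subgroup Ω), FusionSystem S → Subgroup Ω → Prop)

variable {Ω : Type u} [Group Ω] {S : Subgroup Ω}

/-- The case of a nontrivial normal subgroup of largest order. -/
theorem xg_caseC (hDn : DNorm p D) (hDq : DQuot p D) (hDc : DCons p W D) (hW1 : WPos p W) (hW2 : WIso p W) [Finite S]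
    (hS : IsPGroup p S) (F : FusionSystem S) (hF : F.IsSaturated p) (ih : IHG W D p F)
    {Q : Subgroup Ω} (hQn : F.IsNormal Q) (hQbot : Q ≠ ⊥) (hmax : ∀ Y, F.IsNormal Y → Q ≤ Y → Y = Q)
    {Z : Subgroup Ω} (hZS : Z ≤ S) (hZD : D Ω S F Z) (hZ : ∀ z ∈ Z, FixN F (Wsub W S) z) :
    ∀ z ∈ Z, FixAll F z := by
  have hZQ := le_normal_of_fixN_gen W D hDn hDq hW1 hW2 hS F hF ih hQn hQbot hmax hZS hZD hZ
  have hQS := hQn.1
  have hnorm := normal_le_normalizer F hQn
  have hRS : Q ⊔ centralizerIn S Q ≤ S := sup_le hQS inf_le_left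
  have hfR : Finite ↥(Q ⊔ centralizerIn S Q) := finite_of_le hRS
  have hRnorm : S ≤ Subgroup.normalizer ((Q ⊔ centralizerIn S Q : Subgroup Ω) : Set Ω) := by
    intro s hs
    have h1 : (Q ⊔ centralizerIn S Q).map (MulAut.conj s).toMonoidHom ≤ Q ⊔ centralizerIn S Q := by
      rw [Subgroup.map_sup]
      refine sup_le_sup ?_ ?_
      · rintro _ ⟨q, hq, rfl⟩
        exact (Subgroup.mem_normalizer_iff.1 (hnorm hs) q).1 hq
      · rintro _ ⟨c, hc, rfl⟩
        refine ⟨S.mul_mem (S.mul_mem hs hc.1) (S.inv_mem hs), ?_⟩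
        show _ ∈ Subgroup.centralizer (Q : Set Ω)
        rw [Subgroup.mem_centralizer_iff]
        intro q hq
        have hq' : s⁻¹ * q * s ∈ Q := by
          have h2 := (Subgroup.mem_normalizer_iff.1 (hnorm (S.inv_mem hs)) q).1 hq
          simpa using h2
        have h2 := hc.2 _ hq'
        show q * (s * c * s⁻¹) = s * c * s⁻¹ * q
        calc q * (s * c * s⁻¹) = s * ((s⁻¹ * q * s) * c) * s⁻¹ := by group
          _ = s * (c * (s⁻¹ * q * s)) * s⁻¹ := by rw [h2]
          _ = s * c * s⁻¹ * q := by group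
    apply mem_normalizer_of_forall_conj_mem
    intro a ha
    exact h1 ⟨a, ha, rfl⟩
  by_cases hRn : F.IsNormal (Q ⊔ centralizerIn S Q)
  · have hRc : F.IsCentric (Q ⊔ centralizerIn S Q) := by
      refine ⟨hRS, fun R' hR' => ?_⟩
      obtain ⟨φ, hφ, rfl⟩ := hR'
      have h1 : φ.range = Q ⊔ centralizerIn S Q :=
        Helper87.range_eq_of_forall_mem F hφ
          (fun x => (normal_stronglyClosed F hRn).2 _ le_rfl φ hφ x)
      rw [h1]
      intro c hc
      exact (le_sup_right : centralizerIn S Q ≤ Q ⊔ centralizerIn S Q)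
        ⟨hc.1, Subgroup.centralizer_le (SetLike.coe_subset_coe.2 le_sup_left) hc.2⟩
    exact hDc Ω S hS F hF _ hRn hRc Z hZS hZD hZ
  · have hfixR := fixN_of_normal_in_S_gen W D hDn hS F hF ih hRS hRnorm hRn hZS hZD hZ
    intro z hz P φ hφ x hx
    obtain ⟨ψ, hψ, hψφ, hψQ⟩ := hQn.2 P φ hφ
    have hψQ' : ψ.comp (Subgroup.inclusion le_sup_right) ∈ F.Hom Q :=
      hom_of_restrict F hψ le_sup_right (fun _ => rfl)
    obtain ⟨ψ₂, hψ₂, hψ₂ext, hψ₂R⟩ := exists_ext_sup_centralizer hS F hF hQn hψQ'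
    have hψ₂N : ψ₂ ∈ F.normalizerHom (Q ⊔ centralizerIn S Q) (Q ⊔ centralizerIn S Q) :=
      normalizerHom_of_self F le_rfl (le_normalizerIn hRS) hψ₂
        (map_subgroupOf_eq_of_forall_mem le_rfl (F.injective_of_mem hψ₂) (fun x _ => hψ₂R x))
    have hzQ := hZQ hz
    have h1 := hfixR z hz _ ψ₂ hψ₂N ⟨z, (le_sup_left : Q ≤ Q ⊔ centralizerIn S Q) hzQ⟩ rfl
    have h2 := hψ₂ext ⟨z, hzQ⟩
    have e1 : Subgroup.inclusion (le_sup_left : Q ≤ Q ⊔ centralizerIn S Q) ⟨z, hzQ⟩ =
        ⟨z, (le_sup_left : Q ≤ Q ⊔ centralizerIn S Q) hzQ⟩ := rfl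
    rw [e1, h1] at h2
    rw [← hψφ x]
    have e2 : Subgroup.inclusion (le_sup_left : P ≤ P ⊔ Q) x =
        Subgroup.inclusion (le_sup_right : Q ≤ P ⊔ Q) ⟨z, hzQ⟩ := Subtype.ext hx
    rw [e2]
    exact h2.symm

/-- The induction step. -/
theorem xg_step (hDn : DNorm p D) (hDq : DQuot p D) (hDc : DCons p W D) (hW1 : WPos p W) (hW2 : WIso p W) [Finite S]
    (hS : IsPGroup p S) (F : FusionSystem S) (hF : F.IsSaturated p) (ih : IHG W D p F) : XG W D F := by
  intro Z hZS hZD hZ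
  by_cases hA : ∃ Q, F.IsNormal Q ∧ Q ≠ ⊥
  · obtain ⟨Q₀, hQ₀, hQ₀bot⟩ := hA
    obtain ⟨Q, hQn, hcard, hmax⟩ := exists_max_normal F hQ₀
    have hQbot : Q ≠ ⊥ := by
      have : Finite Q₀ := finite_of_le hQ₀.1
      have : Finite Q := finite_of_le hQn.1
      have h1 := (Subgroup.one_lt_card_iff_ne_bot Q₀).2 hQ₀bot
      exact (Subgroup.one_lt_card_iff_ne_bot Q).1 (lt_of_lt_of_le h1 hcard)
    exact xg_caseC W D hDn hDq hDc hW1 hW2 hS F hF ih hQn hQbot hmax hZS hZD hZ
  · exact xg_caseA W D hDn hW1 hW2 hS F hF ih (fun Q hQ => by_contra (fun h => hA ⟨Q, hQ, h⟩)) hZS hZD hZ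

/-- **Control of weak closure with a datum predicate** (element form) in every saturated fusion system. -/
theorem xg_all (hDn : DNorm p D) (hDq : DQuot p D) (hDc : DCons p W D) (hW1 : WPos p W) (hW2 : WIso p W) :
    ∀ (n k : ℕ) (Ω : Type u) [Group Ω] (S : Subgroup Ω) [Finite S], IsPGroup p S →
      ∀ F : FusionSystem S, F.IsSaturated p → Nat.card S = n → dnn F = k → XG W D F := by
  intro n
  induction n using Nat.strong_induction_on with
  | _ n ihn =>
  intro k
  induction k using Nat.strong_induction_on with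
  | _ k ihk =>
  intro Ω _ S _ hS F hF hn hk
  apply xg_step W D hDn hDq hDc hW1 hW2 hS F hF
  intro Ω' _ S' _ hS' F' hF' hlt
  rcases hlt with h | ⟨h1, h2⟩
  · exact ihn (Nat.card S') (hn ▸ h) (dnn F') Ω' S' hS' F' hF' rfl rfl
  · exact ihk (dnn F') (hk ▸ h2) Ω' S' hS' F' hF' (h1.trans hn) rfl

end GenD

end Cfsg.Agent.Helper86
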