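import Cfsg.Agent.Helper86.QuadCenter
import Cfsg.Agent.Helper46.ThompsonA
import Cfsg.Agent.Helper46.WeakB
import Cfsg.Agent.Helper84.ZJFusionA

/-!
# The Thompson subgroup as a functor (helper86)

`WJ Q = J(Q)`, the subgroup generated by the abelian subgroups of largest order (`Cfsg.thompsonSubgroupA`), as a
functor on groups. It is carried along isomorphisms (`wj_iso`), contains the centre (`wj_cen`), is nontrivial on
nontrivial finite `p`-groups (`wj_pos`), and satisfies the quadratic hypothesis `WQuad` (`wj_quad`): if `J(P)` is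
not normal in `G`, some element of `P` outside `O_p(G)` acts quadratically on `Z(O_p(G))` (Thompson replacement).
-/

set_option autoImplicit false

namespace Cfsg.Agent.Helper86

open Cfsg

open scoped commutatorElement

universe u

/-- The Thompson subgroup (abelian version) as a functor. -/
def WJ : ∀ (Q : Type u) [Group Q], Subgroup Q := fun Q _ => Cfsg.thompsonSubgroupA Q

theorem wj_iso (p : ℕ) : WIso p WJ := fun _ _ _ _ _ _ φ => Helper84.thompsonSubgroupA_map φ

theorem wj_cen (p : ℕ) : WCen p WJ := by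
  intro Q _ _ _ z hz
  have h1 : z ∈ Helper46.JA (⊤ : Subgroup Q) :=
    Helper46.mem_JA_of_commute (Subgroup.mem_top z)
      (fun a _ => (Subgroup.mem_center_iff.1 hz a).symm)
  rw [← Helper46.thompsonSubgroupAOf_eq_JA] at h1
  obtain ⟨y, hy, rfl⟩ := h1
  have h2 := Helper84.thompsonSubgroupA_map (Subgroup.topEquiv : (⊤ : Subgroup Q) ≃* Q)
  exact (le_of_eq h2) ⟨y, hy, rfl⟩

theorem wj_pos (p : ℕ) [Fact p.Prime] : WPos p WJ := by
  intro Q _ _ hQ hnt hbot
  have h1 : Nontrivial (Subgroup.center Q) := hQ.center_nontrivial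
  obtain ⟨⟨z, hz⟩, hz1⟩ := exists_ne (1 : Subgroup.center Q)
  have h2 : z ∈ WJ Q := wj_cen p Q hQ hz
  rw [hbot, Subgroup.mem_bot] at h2
  exact hz1 (Subtype.ext h2)

/-- `J(P)` satisfies the quadratic hypothesis (Thompson's replacement theorem). -/
theorem wj_quad (p : ℕ) [Fact p.Prime] : WQuad p WJ := by
  intro G _ _ P hWn
  have hJn : ¬ (Helper46.JA (P : Subgroup G)).Normal := by
    rw [← Helper46.thompsonSubgroupAOf_eq_JA]
    exact hWn
  have hcn : (pCore p G).Normal := Helper49.pCore_normal' p G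
  have hcP : pCore p G ≤ (P : Subgroup G) := Helper49.pCore_le_sylow P
  -- the subgroup `V = Z(O_p(G))`
  obtain ⟨V, hV⟩ : ∃ V : Subgroup G, V = (Subgroup.center ↥(Cfsg.pCore p G)).map (Cfsg.pCore p G).subtype :=
    ⟨_, rfl⟩
  have hVmem : ∀ v : G, v ∈ V ↔ v ∈ pCore p G ∧ ∀ c ∈ pCore p G, c * v = v * c := by
    intro v
    rw [hV]
    constructor
    · rintro ⟨c, hc, rfl⟩
      refine ⟨c.2, fun d hd => ?_⟩
      exact congrArg Subtype.val (Subgroup.mem_center_iff.1 hc ⟨d, hd⟩)
    · rintro ⟨hv, hvc⟩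
      exact ⟨⟨v, hv⟩, Subgroup.mem_center_iff.2 (fun d => Subtype.ext (hvc d d.2)), rfl⟩
  have hVn : V.Normal := by
    refine ⟨fun v hv a => ?_⟩
    obtain ⟨hv1, hv2⟩ := (hVmem v).1 hv
    refine (hVmem _).2 ⟨hcn.conj_mem v hv1 a, fun c hc => ?_⟩
    have h1 : a⁻¹ * c * a ∈ pCore p G := by
      have := hcn.conj_mem c hc a⁻¹
      rwa [inv_inv] at this
    have h2 := hv2 _ h1
    calc c * (a * v * a⁻¹) = a * ((a⁻¹ * c * a) * v) * a⁻¹ := by group
      _ = a * (v * (a⁻¹ * c * a)) * a⁻¹ := by rw [h2]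
      _ = a * v * a⁻¹ * c := by group
  have hVab : Helper46.Ab V := by
    intro v hv w hw
    exact ((hVmem w).1 hw).2 v ((hVmem v).1 hv).1
  have hVQ : V ≤ pCore p G := fun v hv => ((hVmem v).1 hv).1
  have hVP : V ≤ (P : Subgroup G) := hVQ.trans hcP
  -- some largest abelian subgroup of `P` is not contained in `O_p(G)`
  have hex : ∃ A : Subgroup G, Helper46.MaxAb (P : Subgroup G) A ∧ ¬ A ≤ pCore p G := by
    by_contra hcon
    push Not at hcon
    apply hJn
    rw [Helper46.JA_eq_of_forall_le hcP hcon]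
    refine ⟨fun n hn g => ?_⟩
    have h1 : (pCore p G).map (MulAut.conj g).toMonoidHom = pCore p G := by
      apply le_antisymm
      · rintro _ ⟨x, hx, rfl⟩
        exact hcn.conj_mem x hx g
      · intro x hx
        refine ⟨g⁻¹ * x * g, ?_, ?_⟩
        · have := hcn.conj_mem x hx g⁻¹
          rwa [inv_inv] at this
        · show g * (g⁻¹ * x * g) * g⁻¹ = x
          group
    have h2 := Helper46.JA_map (X := pCore p G) (MulAut.conj g).toMonoidHom
      ((MulAut.conj g).injective.injOn)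
    rw [h1] at h2
    rw [h2]
    exact ⟨n, hn, rfl⟩
  -- choose one with `A ∩ V` of largest order
  classical
  have hne : Nonempty {A : Subgroup G // Helper46.MaxAb (P : Subgroup G) A ∧ ¬ A ≤ pCore p G} := by
    obtain ⟨A, hA⟩ := hex
    exact ⟨⟨A, hA⟩⟩
  obtain ⟨⟨A, hA, hAQ⟩, hmax⟩ := Finite.exists_max
    (fun A : {A : Subgroup G // Helper46.MaxAb (P : Subgroup G) A ∧ ¬ A ≤ pCore p G} =>
      Nat.card ((A : Subgroup G) ⊓ V : Subgroup G))
  have hVA : V ≤ Subgroup.normalizer (A : Set G) := by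
    by_contra hVA
    obtain ⟨A', hA', hlt, hA'N⟩ := Helper46.replacementA_step (P : Subgroup G) A V P.2 hA hVab hVP hVA
    have hA'Q : A' ≤ pCore p G := by
      by_contra h
      have := hmax ⟨A', hA', h⟩
      exact absurd hlt (not_lt.2 this)
    apply hVA
    refine le_trans ?_ hA'N
    intro v hv
    exact Helper46.mem_of_maxAb_of_commute hA' (hVP hv)
      (fun a ha => (((hVmem v).1 hv).2 a (hA'Q ha)).symm)
  obtain ⟨g, hgA, hgQ⟩ := SetLike.not_le_iff_exists.1 hAQ
  refine ⟨g, hA.1 hgA, hgQ, ?_⟩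
  rw [← hV]
  have h1 : ⁅V, A⁆ ≤ A := by
    rw [Subgroup.commutator_le]
    intro v hv a ha
    have h2 : v * a * v⁻¹ ∈ A := (Subgroup.mem_normalizer_iff.1 (hVA hv) a).1 ha
    rw [commutatorElement_def]
    exact A.mul_mem h2 (A.inv_mem ha)
  have h2 : ⁅⁅V, A⁆, A⁆ = ⊥ := by
    rw [eq_bot_iff, Subgroup.commutator_le]
    intro x hx a ha
    rw [Subgroup.mem_bot, commutatorElement_eq_one_iff_mul_comm]
    exact hA.2.1 x (h1 hx) a ha
  have hz : Subgroup.zpowers g ≤ A := by
    rw [Subgroup.zpowers_le]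
    exact hgA
  rw [eq_bot_iff, ← h2]
  exact Subgroup.commutator_mono (Subgroup.commutator_mono le_rfl hz) hz

end Cfsg.Agent.Helper86
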