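import Cfsg.Agent.Helper86.PowClosureC

/-!
# Central `p`-th powers and a functor: the induction, part D (helper86)

The constrained case (through a model and `pow_central_of_quad`), the case of a nontrivial normal subgroup, and
the induction `xp_all`: for a positive characteristic `p`-functor `W` containing the centres and satisfying the
quadratic hypothesis `WQuad`, the `p`-th powers of the elements of `Z(S)` fixed by `N_F(W(S))` are fixed by `F`.
-/

set_option autoImplicit false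

namespace Cfsg.Agent.Helper86

open Cfsg Cfsg.FusionSystem Cfsg.Agent.Helper84

universe u

section PowD

variable {p : ℕ} [Fact p.Prime] (W : ∀ (Q : Type u) [Group Q], Subgroup Q)

variable {Ω : Type u} [Group Ω] {S : Subgroup Ω}

/-- The constrained case: the `p`-th power of a central element of `S` fixed by `N_F(W(S))` is fixed by `F`. -/
theorem fixAll_of_model_pow (hW2 : WIso p W) (hWZ : WCen p W) (hq : WQuad p W) [Finite S]
    (hS : IsPGroup p S) (F : FusionSystem S) (hF : F.IsSaturated p) {R : Subgroup Ω}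
    (hRn : F.IsNormal R) (hRc : F.IsCentric R) {y : Ω} (hyS : y ∈ S) (hyc : ∀ s ∈ S, s * y * s⁻¹ = y)
    (hzN : FixN F (Wsub W S) (y ^ p)) : FixAll F (y ^ p) := by
  have hzS : y ^ p ∈ S := S.pow_mem hyS p
  obtain ⟨G, hG, ι, hM⟩ := exists_model p hS F hF hRn hRc
  obtain ⟨hfin, hreal, ⟨T, hT⟩, hcR⟩ := hM
  have hinj := hreal.1
  have hWe := Wsub_equiv W hW2 hS
    ((MonoidHom.ofInjective hinj).trans (MulEquiv.subgroupCongr hT.symm))
  obtain ⟨hWe1, hWe2⟩ := hWe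
  have hcent := central_of_fixN W hW2 hS F hzS hzN
  have hzW : y ^ p ∈ Wsub W S := mem_Wsub_of_central W hWZ hS hzS hcent
  have hWS : Wsub W S ≤ S := Wsub_le W S
  have hfinW : Finite ↥(Wsub W S) := finite_of_le hWS
  have hcomm : ∀ n ∈ Subgroup.normalizer ((Wsub W (T : Subgroup G) : Subgroup G) : Set G),
      n * ι ⟨y ^ p, hzS⟩ * n⁻¹ = ι ⟨y ^ p, hzS⟩ := by
    intro n hn
    have h1 : ∀ x : Wsub W S, n * ι ⟨x, hWS x.2⟩ * n⁻¹ ∈ Wsub W (T : Subgroup G) := by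
      intro x
      have h2 := hWe1 x (hWS x.2) x.2
      exact (Subgroup.mem_normalizer_iff.1 hn _).1 h2
    have h1' : ∀ x : Wsub W S, n * ι ⟨x, hWS x.2⟩ * n⁻¹ ∈ ι.range := fun x => by
      rw [← hT]
      exact Wsub_le W _ (h1 x)
    obtain ⟨φ, hφ, hφι⟩ := exists_conj_hom F hreal hWS n h1'
    have hφW : ∀ x : Wsub W S, φ x ∈ Wsub W S := by
      intro x
      obtain ⟨hx, hx'⟩ := hφι x
      obtain ⟨y', hyS', hyW, hy⟩ := hWe2 _ (h1 x)
      have h3 : ι ⟨y', hyS'⟩ = ι ⟨φ x, hx⟩ := hy.trans hx'.symm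
      have h4 : y' = φ x := congrArg Subtype.val (hinj h3)
      rw [← h4]
      exact hyW
    have hφN : φ ∈ F.normalizerHom (Wsub W S) (Wsub W S) :=
      normalizerHom_of_self F le_rfl (le_normalizerIn hWS) hφ
        (map_subgroupOf_eq_of_forall_mem le_rfl (F.injective_of_mem hφ) (fun x _ => hφW x))
    have h3 := hzN _ φ hφN ⟨y ^ p, hzW⟩ rfl
    obtain ⟨hx, hx'⟩ := hφι ⟨y ^ p, hzW⟩
    rw [← hx']
    congr 1
    exact Subtype.ext h3
  have hyT : ι ⟨y, hyS⟩ ∈ (T : Subgroup G) := by rw [hT]; exact ⟨_, rfl⟩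
  have hycT : ∀ s ∈ (T : Subgroup G), s * ι ⟨y, hyS⟩ = ι ⟨y, hyS⟩ * s := by
    intro s hs
    rw [hT] at hs
    obtain ⟨s₀, rfl⟩ := hs
    rw [← map_mul, ← map_mul]
    congr 1
    apply Subtype.ext
    have h1 := hyc s₀ s₀.2
    show (s₀ : Ω) * y = y * s₀
    calc (s₀ : Ω) * y = (s₀ * y * (s₀ : Ω)⁻¹) * s₀ := by group
      _ = y * s₀ := by rw [h1]
  have hpow : ι ⟨y, hyS⟩ ^ p = ι ⟨y ^ p, hzS⟩ := by
    rw [← map_pow]
    rfl
  have hzc := pow_central_of_quad W hW2 hq (Nat.card G) G rfl hcR T (ι ⟨y, hyS⟩) hyT hycT (by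
    intro m hm
    rw [hpow]
    have h5 := hcomm m hm
    calc m * ι ⟨y ^ p, hzS⟩ = (m * ι ⟨y ^ p, hzS⟩ * m⁻¹) * m := by group
      _ = ι ⟨y ^ p, hzS⟩ * m := by rw [h5])
  rw [hpow] at hzc
  intro P φ hφ x hx
  obtain ⟨g, hg⟩ := (hreal.2 P (hom_le F hφ) φ (hom_mem F hφ)).1 hφ
  have h6 := hg x
  have e1 : (⟨x, hom_le F hφ x.2⟩ : S) = ⟨y ^ p, hzS⟩ := Subtype.ext hx
  rw [e1] at h6
  have h7 : g * ι ⟨y ^ p, hzS⟩ * g⁻¹ = ι ⟨y ^ p, hzS⟩ := by rw [hzc g]; group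
  rw [h7] at h6
  exact congrArg Subtype.val (hinj h6)

/-- The case of a nontrivial normal subgroup of largest order. -/
theorem xp_caseC (hW1 : WPos p W) (hW2 : WIso p W) (hWZ : WCen p W) (hq : WQuad p W) [Finite S]
    (hS : IsPGroup p S) (F : FusionSystem S) (hF : F.IsSaturated p) (ih : IHP W p F)
    {Q : Subgroup Ω} (hQn : F.IsNormal Q) (hQbot : Q ≠ ⊥) (hmax : ∀ Y, F.IsNormal Y → Q ≤ Y → Y = Q)
    {Z : Subgroup Ω} (hZS : Z ≤ S) (hZp : PowCen p S Z) (hZ : ∀ z ∈ Z, FixN F (Wsub W S) z) :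
    ∀ z ∈ Z, FixAll F z := by
  have hZQ := le_normal_of_fixN_pow W hW1 hW2 hS F hF ih hQn hQbot hmax hZS hZp hZ
  have hQS := hQn.1
  have hnorm := normal_le_normalizer F hQn
  have hRS : Q ⊔ centralizerIn S Q ≤ S := sup_le hQS inf_le_left
  have hfR : Finite ↥(Q ⊔ centralizerIn S Q) := finite_of_le hRS
  have hRnorm : S ≤ Subgroup.normalizer ((Q ⊔ centralizerIn S Q : Subgroup Ω) : Set Ω) := by
    intro s hs
    have h1 : (Q ⊔ centralizerIn S Q).map (MulAut.conj s).toMonoidHom ≤ Q ⊔ centralizerIn S Q := by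
      rw [Subgroup.map_sup]
      refine sup_le_sup ?_ ?_
      · rintro _ ⟨q, hq, rfl⟩
        exact (Subgroup.mem_normalizer_iff.1 (hnorm hs) q).1 hq
      · rintro _ ⟨c, hc, rfl⟩
        refine ⟨S.mul_mem (S.mul_mem hs hc.1) (S.inv_mem hs), ?_⟩
        show _ ∈ Subgroup.centralizer (Q : Set Ω)
        rw [Subgroup.mem_centralizer_iff]
        intro q hq
        have hq' : s⁻¹ * q * s ∈ Q := by
          have h2 := (Subgroup.mem_normalizer_iff.1 (hnorm (S.inv_mem hs)) q).1 hq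
          simpa using h2
        have h2 := hc.2 _ hq'
        show q * (s * c * s⁻¹) = s * c * s⁻¹ * q
        calc q * (s * c * s⁻¹) = s * ((s⁻¹ * q * s) * c) * s⁻¹ := by group
          _ = s * (c * (s⁻¹ * q * s)) * s⁻¹ := by rw [h2]
          _ = s * c * s⁻¹ * q := by group
    apply mem_normalizer_of_forall_conj_mem
    intro a ha
    exact h1 ⟨a, ha, rfl⟩
  by_cases hRn : F.IsNormal (Q ⊔ centralizerIn S Q)
  · have hRc : F.IsCentric (Q ⊔ centralizerIn S Q) := by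
      refine ⟨hRS, fun R' hR' => ?_⟩
      obtain ⟨φ, hφ, rfl⟩ := hR'
      have h1 : φ.range = Q ⊔ centralizerIn S Q :=
        Helper87.range_eq_of_forall_mem F hφ
          (fun x => (normal_stronglyClosed F hRn).2 _ le_rfl φ hφ x)
      rw [h1]
      intro c hc
      exact (le_sup_right : centralizerIn S Q ≤ Q ⊔ centralizerIn S Q)
        ⟨hc.1, Subgroup.centralizer_le (SetLike.coe_subset_coe.2 le_sup_left) hc.2⟩
    intro z hz
    obtain ⟨y, hyS, hyc, rfl⟩ := hZp z hz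
    exact fixAll_of_model_pow W hW2 hWZ hq hS F hF hRn hRc hyS hyc (hZ _ hz)
  · have hfixR := fixN_of_normal_in_S_pow W hS F hF ih hRS hRnorm hRn hZS hZp hZ
    intro z hz P φ hφ x hx
    obtain ⟨ψ, hψ, hψφ, hψQ⟩ := hQn.2 P φ hφ
    have hψQ' : ψ.comp (Subgroup.inclusion le_sup_right) ∈ F.Hom Q :=
      hom_of_restrict F hψ le_sup_right (fun _ => rfl)
    obtain ⟨ψ₂, hψ₂, hψ₂ext, hψ₂R⟩ := exists_ext_sup_centralizer hS F hF hQn hψQ'
    have hψ₂N : ψ₂ ∈ F.normalizerHom (Q ⊔ centralizerIn S Q) (Q ⊔ centralizerIn S Q) :=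
      normalizerHom_of_self F le_rfl (le_normalizerIn hRS) hψ₂
        (map_subgroupOf_eq_of_forall_mem le_rfl (F.injective_of_mem hψ₂) (fun x _ => hψ₂R x))
    have hzQ := hZQ hz
    have h1 := hfixR z hz _ ψ₂ hψ₂N ⟨z, (le_sup_left : Q ≤ Q ⊔ centralizerIn S Q) hzQ⟩ rfl
    have h2 := hψ₂ext ⟨z, hzQ⟩
    have e1 : Subgroup.inclusion (le_sup_left : Q ≤ Q ⊔ centralizerIn S Q) ⟨z, hzQ⟩ =
        ⟨z, (le_sup_left : Q ≤ Q ⊔ centralizerIn S Q) hzQ⟩ := rfl
    rw [e1, h1] at h2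
    rw [← hψφ x]
    have e2 : Subgroup.inclusion (le_sup_left : P ≤ P ⊔ Q) x =
        Subgroup.inclusion (le_sup_right : Q ≤ P ⊔ Q) ⟨z, hzQ⟩ := Subtype.ext hx
    rw [e2]
    exact h2.symm

/-- The induction step. -/
theorem xp_step (hW1 : WPos p W) (hW2 : WIso p W) (hWZ : WCen p W) (hq : WQuad p W) [Finite S]
    (hS : IsPGroup p S) (F : FusionSystem S) (hF : F.IsSaturated p) (ih : IHP W p F) : XP W p F := by
  intro Z hZS hZp hZ
  by_cases hA : ∃ Q, F.IsNormal Q ∧ Q ≠ ⊥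
  · obtain ⟨Q₀, hQ₀, hQ₀bot⟩ := hA
    obtain ⟨Q, hQn, hcard, hmax⟩ := exists_max_normal F hQ₀
    have hQbot : Q ≠ ⊥ := by
      have : Finite Q₀ := finite_of_le hQ₀.1
      have : Finite Q := finite_of_le hQn.1
      have h1 := (Subgroup.one_lt_card_iff_ne_bot Q₀).2 hQ₀bot
      exact (Subgroup.one_lt_card_iff_ne_bot Q).1 (lt_of_lt_of_le h1 hcard)
    exact xp_caseC W hW1 hW2 hWZ hq hS F hF ih hQn hQbot hmax hZS hZp hZ
  · exact xp_caseA W hW1 hW2 hS F hF ih (fun Q hQ => by_contra (fun h => hA ⟨Q, hQ, h⟩)) hZS hZp hZ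

/-- **Central `p`-th powers** (element form) in every saturated fusion system. -/
theorem xp_all (hW1 : WPos p W) (hW2 : WIso p W) (hWZ : WCen p W) (hq : WQuad p W) :
    ∀ (n k : ℕ) (Ω : Type u) [Group Ω] (S : Subgroup Ω) [Finite S], IsPGroup p S →
      ∀ F : FusionSystem S, F.IsSaturated p → Nat.card S = n → dnn F = k → XP W p F := by
  intro n
  induction n using Nat.strong_induction_on with
  | _ n ihn =>
  intro k
  induction k using Nat.strong_induction_on with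
  | _ k ihk =>
  intro Ω _ S _ hS F hF hn hk
  apply xp_step W hW1 hW2 hWZ hq hS F hF
  intro Ω' _ S' _ hS' F' hF' hlt
  rcases hlt with h | ⟨h1, h2⟩
  · exact ihn (Nat.card S') (hn ▸ h) (dnn F') Ω' S' hS' F' hF' rfl rfl
  · exact ihk (dnn F') (hk ▸ h2) Ω' S' hS' F' hF' (h1.trans hn) rfl

end PowD

end Cfsg.Agent.Helper86
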