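import Cfsg.Agent.Helper86.GenQuad
import Cfsg.Agent.Helper86.JFunctor
import Cfsg.Agent.Helper86.PowClosureD
import Cfsg.Agent.Helper88.FusionNormal

/-!
# Generation of a saturated fusion system by two subsystems: preliminaries (helper86)

`MapClosed F C`: a predicate `C` on maps of `F` closed under restriction, composition and inverses (the maps of a
fusion system `E` over `S`, for instance). `mapClosed_of_aut`: if `Q` is normal in `F` and not centric, `C` holds
for all maps of `F` (with source of order at least `t`) as soon as it holds for the automorphisms of the fully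
normalized subgroups properly containing `Q` (of order at least `t`). `Wsub_not_le_of_not_centric`: for a
self-centralizing functor `W`, `W(N_S(X))` is not contained in a non-centric normal subgroup `Q ≤ X`.
-/

set_option autoImplicit false

namespace Cfsg.Agent.Helper86

open Cfsg Cfsg.FusionSystem Cfsg.Agent.Helper84

universe u

section MapClosedDefs

variable {Ω : Type*} [Group Ω] {S : Subgroup Ω}

/-- A predicate on the maps of `F` closed under restriction, composition and inverses. -/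
structure MapClosed (F : FusionSystem S) (C : ∀ P : Subgroup Ω, (P →* Ω) → Prop) : Prop where
  res : ∀ (P Q : Subgroup Ω) (h : Q ≤ P) (φ : P →* Ω) (θ : Q →* Ω), φ ∈ F.Hom P →
    (∀ x : Q, θ x = φ ⟨x, h x.2⟩) → C P φ → C Q θ
  comp : ∀ (P Q : Subgroup Ω) (φ : P →* Ω) (ψ : Q →* Ω) (θ : P →* Ω), φ ∈ F.Hom P → ψ ∈ F.Hom Q →
    ∀ hPQ : ∀ x : P, φ x ∈ Q, (∀ x : P, θ x = ψ ⟨φ x, hPQ x⟩) → C P φ → C Q ψ → C P θ
  inv : ∀ (P Q : Subgroup Ω) (φ : P →* Ω) (ψ : Q →* Ω), φ ∈ F.Hom P → ψ ∈ F.Hom Q →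
    φ.range = Q → ∀ hPQ : ∀ x : P, φ x ∈ Q, (∀ x : P, ψ ⟨φ x, hPQ x⟩ = x) → C P φ → C Q ψ

/-- The maps of a fusion system over `S` form a closed predicate. -/
theorem mapClosed_hom (F E : FusionSystem S) : MapClosed F (fun P φ => φ ∈ E.Hom P) := by
  refine ⟨?_, ?_, ?_⟩
  · intro P Q h φ θ _ hθ hφE
    exact hom_of_restrict E hφE h hθ
  · intro P Q φ ψ θ _ _ hPQ hθ hφE hψE
    exact hom_of_comp E hφE hψE hPQ hθ
  · intro P Q φ ψ _ _ hr hPQ hψφ hφE
    obtain ⟨ψ', hψ', -, h1, -⟩ := hom_inv E hφE hr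
    have e : ψ = ψ' := by
      ext y
      have hy : (y : Ω) ∈ φ.range := by rw [hr]; exact y.2
      obtain ⟨x, hx⟩ := hy
      have e1 : y = ⟨φ x, hPQ x⟩ := Subtype.ext hx.symm
      rw [e1, hψφ x, h1 x (hPQ x)]
    rw [e]
    exact hψ'

/-- A closed predicate for `F` is closed for the normalizer systems of `F`. -/
theorem MapClosed.nsys {F : FusionSystem S} {C : ∀ P : Subgroup Ω, (P →* Ω) → Prop} (hC : MapClosed F C)
    {X : Subgroup Ω} (E : FusionSystem (normalizerIn S X)) (hE : F.IsNormalizerSystem X E) :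
    MapClosed E C :=
  ⟨fun P Q h φ θ hφ hθ hc => hC.res P Q h φ θ (nsys_hom_le F E hE hφ) hθ hc,
   fun P Q φ ψ θ hφ hψ hPQ hθ h1 h2 =>
     hC.comp P Q φ ψ θ (nsys_hom_le F E hE hφ) (nsys_hom_le F E hE hψ) hPQ hθ h1 h2,
   fun P Q φ ψ hφ hψ hr hPQ h h1 =>
     hC.inv P Q φ ψ (nsys_hom_le F E hE hφ) (nsys_hom_le F E hE hψ) hr hPQ h h1⟩

theorem card_lt_card_sup_of_not_le {A B : Subgroup Ω} [Finite (A ⊔ B : Subgroup Ω)] (h : ¬ B ≤ A) :
    Nat.card A < Nat.card (A ⊔ B : Subgroup Ω) := by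
  by_contra hcon
  have h1 : A = A ⊔ B := Subgroup.eq_of_le_of_card_ge le_sup_left (not_lt.1 hcon)
  apply h
  rw [h1]
  exact le_sup_right

/-- If `Q` is normalized by the `p`-group `S` and `C_S(Q) ≰ Q`, then for every `X` with `Q ≤ X ≤ S` some element
of `C_S(Q)` outside `Q` normalizes `X`. -/
theorem exists_mem_centralizer_normalizer [Finite S] {p : ℕ} [Fact p.Prime] (hS : IsPGroup p S)
    {Q X : Subgroup Ω} (hQX : Q ≤ X) (hXS : X ≤ S) (hQn : S ≤ Subgroup.normalizer (Q : Set Ω))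
    (hQc : ¬ centralizerIn S Q ≤ Q) :
    ∃ c ∈ centralizerIn S Q, c ∈ Subgroup.normalizer (X : Set Ω) ∧ c ∉ Q := by
  by_cases hCX : centralizerIn S Q ≤ X
  · obtain ⟨c, hc, hcQ⟩ := SetLike.not_le_iff_exists.1 hQc
    exact ⟨c, hc, Subgroup.le_normalizer (hCX hc), hcQ⟩
  have hQS : Q ≤ S := hQX.trans hXS
  have hfQ : Finite Q := finite_of_le hQS
  have hCS : centralizerIn S Q ≤ S := inf_le_left
  have hYS : X ⊔ centralizerIn S Q ≤ S := sup_le hXS hCS
  have hfY : Finite ↥(X ⊔ centralizerIn S Q) := finite_of_le hYS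
  have hfC : Finite ↥(centralizerIn S Q) := finite_of_le hCS
  have hYp : IsPGroup p ↥(X ⊔ centralizerIn S Q) := hS.to_le hYS
  have hne : X ≠ X ⊔ centralizerIn S Q := by
    intro e
    apply hCX
    rw [e]
    exact le_sup_right
  have hlt := Helper87.card_lt_card_normalizerIn hYp (le_sup_left : X ≤ X ⊔ centralizerIn S Q) hne
  have hfX : Finite X := finite_of_le hXS
  have hex : ∃ g ∈ normalizerIn (X ⊔ centralizerIn S Q) X, g ∉ X := by
    by_contra hcon
    push Not at hcon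
    have h1 : normalizerIn (X ⊔ centralizerIn S Q) X ≤ X := fun g hg => hcon g hg
    exact absurd hlt (not_lt.2 (Subgroup.card_le_of_le h1))
  obtain ⟨g, hg, hgX⟩ := hex
  -- `S` normalizes `C_S(Q)`
  have hSC : S ≤ Subgroup.normalizer ((centralizerIn S Q : Subgroup Ω) : Set Ω) := by
    intro s hs
    apply mem_normalizer_of_forall_conj_mem
    intro c hc
    refine ⟨S.mul_mem (S.mul_mem hs hc.1) (S.inv_mem hs), ?_⟩
    show _ ∈ Subgroup.centralizer (Q : Set Ω)
    rw [Subgroup.mem_centralizer_iff]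
    intro q hq
    have hq' : s⁻¹ * q * s ∈ Q := by
      have h2 := (Subgroup.mem_normalizer_iff.1 (hQn (S.inv_mem hs)) q).1 hq
      simpa using h2
    have h2 := hc.2 _ hq'
    show q * (s * c * s⁻¹) = s * c * s⁻¹ * q
    calc q * (s * c * s⁻¹) = s * ((s⁻¹ * q * s) * c) * s⁻¹ := by group
      _ = s * (c * (s⁻¹ * q * s)) * s⁻¹ := by rw [h2]
      _ = s * c * s⁻¹ * q := by group
  have hmul := Subgroup.coe_mul_of_left_le_normalizer_right X (centralizerIn S Q) (hXS.trans hSC)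
  have hg' : g ∈ ((X ⊔ centralizerIn S Q : Subgroup Ω) : Set Ω) := hg.1
  rw [hmul] at hg'
  obtain ⟨x, hx, c, hc, rfl⟩ := Set.mem_mul.1 hg'
  refine ⟨c, hc, ?_, fun hcQ => hgX (X.mul_mem hx (hQX hcQ))⟩
  have h1 : x⁻¹ * (x * c) ∈ Subgroup.normalizer (X : Set Ω) :=
    Subgroup.mul_mem _ (Subgroup.le_normalizer (X.inv_mem hx)) hg.2
  simpa using h1

end MapClosedDefs

/-- `W` is self-centralizing on finite `p`-groups. -/
def WSelf (p : ℕ) (W : ∀ (Q : Type u) [Group Q], Subgroup Q) : Prop :=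
  ∀ (Q : Type u) [Group Q] [Finite Q], IsPGroup p Q → Subgroup.centralizer (W Q : Set Q) ≤ W Q

theorem wj_self (p : ℕ) : WSelf p WJ.{u} := by
  intro T _ _ _ c hc
  have hJ : ∀ z : T, z ∈ Helper46.JA (⊤ : Subgroup T) → z ∈ WJ T := by
    intro z hz
    rw [← Helper46.thompsonSubgroupAOf_eq_JA] at hz
    obtain ⟨y, hy, rfl⟩ := hz
    have h2 := Helper84.thompsonSubgroupA_map (Subgroup.topEquiv : (⊤ : Subgroup T) ≃* T)
    exact (le_of_eq h2) ⟨y, hy, rfl⟩
  obtain ⟨A, hA⟩ := Helper46.exists_maxAb (⊤ : Subgroup T)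
  have hAJ : A ≤ Helper46.JA (⊤ : Subgroup T) := le_sSup hA
  apply hJ
  apply hAJ
  refine Helper46.mem_of_maxAb_of_commute hA (Subgroup.mem_top c) (fun a ha => ?_)
  exact (Subgroup.mem_centralizer_iff.1 hc a (hJ a (hAJ ha))).symm

section GenFusA

variable {p : ℕ} [Fact p.Prime] (W : ∀ (Q : Type u) [Group Q], Subgroup Q)

variable {Ω : Type u} [Group Ω] {S : Subgroup Ω}

/-- For a self-centralizing functor, `W(N_S(X))` is not contained in a non-centric subgroup `Q ≤ X` normalized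
by `S`. -/
theorem Wsub_not_le_of_not_centric (hWs : WSelf p W) [Finite S] (hS : IsPGroup p S) {Q X : Subgroup Ω}
    (hQX : Q ≤ X) (hXS : X ≤ S) (hQn : S ≤ Subgroup.normalizer (Q : Set Ω))
    (hQc : ¬ centralizerIn S Q ≤ Q) : ¬ Wsub W (normalizerIn S X) ≤ Q := by
  intro hle
  obtain ⟨c, hc, hcX, hcQ⟩ := exists_mem_centralizer_normalizer hS hQX hXS hQn hQc
  apply hcQ
  apply hle
  have hcT : c ∈ normalizerIn S X := ⟨hc.1, hcX⟩
  have hTp : IsPGroup p ↥(normalizerIn S X) := hS.to_le inf_le_left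
  refine ⟨⟨c, hcT⟩, hWs ↥(normalizerIn S X) hTp ?_, rfl⟩
  rw [Subgroup.mem_centralizer_iff]
  intro w hw
  apply Subtype.ext
  have hwQ : (w : Ω) ∈ Q := hle ⟨w, hw, rfl⟩
  exact hc.2 _ hwQ

/-- **Alperin's theorem above a non-centric normal subgroup**: if `Q` is normal in `F` and not centric, a closed
predicate holds for all maps of `F` with source of order at least `t` as soon as it holds for the automorphisms
of the fully normalized subgroups of order at least `t` properly containing `Q`. -/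
theorem mapClosed_of_aut [Finite S] (hS : IsPGroup p S) (F : FusionSystem S) (hF : F.IsSaturated p)
    {C : ∀ P : Subgroup Ω, (P →* Ω) → Prop} (hC : MapClosed F C) {Q : Subgroup Ω} (hQn : F.IsNormal Q)
    (hQc : ¬ centralizerIn S Q ≤ Q) (t : ℕ)
    (h : ∀ R : Subgroup Ω, F.IsFullyNormalized R → Q ≤ R → R ≠ Q → t ≤ Nat.card R →
      ∀ α : R →* Ω, α ∈ F.Hom R → (∀ x, α x ∈ R) → C R α) :
    ∀ (P : Subgroup Ω) (φ : P →* Ω), φ ∈ F.Hom P → t ≤ Nat.card P → C P φ := by
  have hQS := hQn.1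
  refine Helper87.alperin_induction hS F hF (fun P φ => t ≤ Nat.card P → C P φ) ?_ ?_ ?_ ?_
  · intro P Q' hQP φ θ hφ hθ hCφ ht
    have : Finite P := finite_of_le (hom_le F hφ)
    exact hC.res P Q' hQP φ θ hφ hθ (hCφ (ht.trans (Subgroup.card_le_of_le hQP)))
  · intro P Q' φ ψ θ hφ hψ hPQ hθ hCφ hCψ ht
    have : Finite Q' := finite_of_le (hom_le F hψ)
    have hcard : Nat.card P ≤ Nat.card Q' :=
      Nat.card_le_card_of_injective (fun x : P => (⟨φ x, hPQ x⟩ : Q'))
        (fun a b hab => F.injective_of_mem hφ (congrArg Subtype.val hab))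
    exact hC.comp P Q' φ ψ θ hφ hψ hPQ hθ (hCφ ht) (hCψ (ht.trans hcard))
  · intro P Q' φ ψ hφ hψ hr hPQ hψφ hCφ ht
    have hcard : Nat.card Q' = Nat.card P := by rw [← hr]; exact Helper87.card_range_eq F hφ
    exact hC.inv P Q' φ ψ hφ hψ hr hPQ hψφ (hCφ (hcard ▸ ht))
  · intro R hfa hrec hbig α hα ht
    have hRS := hfa.1
    have hfR : Finite R := finite_of_le hRS
    have hfn : F.IsFullyNormalized R := fullyNormalized_of_automized_receptive hS F hfa hrec
    have hβ : R.subtype.comp α.toMonoidHom ∈ F.Hom R := (mem_autGroup_iff F hfa.1 α).1 hα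
    have hβR : ∀ x, (R.subtype.comp α.toMonoidHom) x ∈ R := fun x => (α x).2
    by_cases hQR : Q ≤ R
    · by_cases hRQ : R = Q
      · subst hRQ
        obtain ⟨ψ₂, hψ₂, hext, -⟩ := exists_ext_sup_centralizer hS F hF hQn hβ
        have hYS : R ⊔ centralizerIn S R ≤ S := sup_le hRS inf_le_left
        have hfY : Finite ↥(R ⊔ centralizerIn S R) := finite_of_le hYS
        have hlt : Nat.card R < Nat.card ↥(R ⊔ centralizerIn S R) := card_lt_card_sup_of_not_le hQc
        have h1 := hbig _ ψ₂ hψ₂ hlt (ht.trans hlt.le)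
        exact hC.res _ R le_sup_left ψ₂ _ hψ₂ (fun x => (hext x).symm) h1
      · exact h R hfn hQR hRQ ht _ hβ hβR
    · obtain ⟨ψ, hψ, hψφ, -⟩ := hQn.2 R _ hβ
      have hYS : R ⊔ Q ≤ S := sup_le hRS hQS
      have hfY : Finite ↥(R ⊔ Q) := finite_of_le hYS
      have hlt : Nat.card R < Nat.card ↥(R ⊔ Q) := card_lt_card_sup_of_not_le hQR
      have h1 := hbig _ ψ hψ hlt (ht.trans hlt.le)
      exact hC.res _ R le_sup_left ψ _ hψ (fun x => (hψφ x).symm) h1

end GenFusA

end Cfsg.Agent.Helper86
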