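import Cfsg.Agent.Helper86.GenFusA

/-!
# Generation of a saturated fusion system by two subsystems: the non-constrained case (helper86)

`XGen W p F`: every closed predicate on the maps of `F` that holds for the maps of the centralizer system of the
subgroup generated by the `p`-th powers of `Z(S)` and for the maps of the normalizer system of `W(S)` holds for
all maps of `F`. This file: the case where the largest normal subgroup `Q` of `F` is not centric, by downward
induction on `|N_S(X)|` over the fully normalized subgroups `X` properly containing `Q`.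
-/

set_option autoImplicit false

namespace Cfsg.Agent.Helper86

open Cfsg Cfsg.FusionSystem Cfsg.Agent.Helper84

universe u

section SupLemmas

variable {Ω : Type*} [Group Ω] {S : Subgroup Ω}

/-- A homomorphism defined on `U ≥ A ⊔ B` carrying the elements of `A` and of `B` into `D` carries the elements of
`A ⊔ B` into `D`. -/
theorem forall_mem_of_sup {A B U : Subgroup Ω} (hU : A ⊔ B ≤ U) {f : U →* Ω} (D : Subgroup Ω)
    (hA : ∀ x : U, (x : Ω) ∈ A → f x ∈ D) (hB : ∀ x : U, (x : Ω) ∈ B → f x ∈ D) :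
    ∀ x : U, (x : Ω) ∈ A ⊔ B → f x ∈ D := by
  have key : A ⊔ B ≤ (D.comap f).map U.subtype := by
    refine sup_le ?_ ?_
    · intro a ha
      exact ⟨⟨a, hU (Subgroup.mem_sup_left ha)⟩, hA _ ha, rfl⟩
    · intro b hb
      exact ⟨⟨b, hU (Subgroup.mem_sup_right hb)⟩, hB _ hb, rfl⟩
  intro x hx
  obtain ⟨y, hy, hyx⟩ := key hx
  have e : y = x := Subtype.ext hyx
  rw [← e]
  exact hy

/-- Transport of a closed predicate: a map `ψ₂` normalizing `K`, defined on `K ≤ A ≤ N_S(K)`, satisfies `C` as soon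
as a map `χ` on `N_S(K)` with `χ(K) = K'` does and all maps of `N_F(K')` do. -/
theorem transport_closed [Finite S] (F : FusionSystem S) {C : ∀ P : Subgroup Ω, (P →* Ω) → Prop}
    (hC : MapClosed F C) {K K' A : Subgroup Ω} {χ : ↥(normalizerIn S K) →* Ω}
    (hχ : χ ∈ F.Hom (normalizerIn S K)) (hχK : (K.subgroupOf (normalizerIn S K)).map χ = K')
    (hχC : C _ χ) (hK' : ∀ (P : Subgroup Ω) (φ : P →* Ω), φ ∈ F.normalizerHom K' P → C P φ)
    (hKA : K ≤ A) (hA : A ≤ normalizerIn S K) {ψ₂ : A →* Ω} (hψ₂ : ψ₂ ∈ F.Hom A)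
    (hψ₂N : ∀ a : A, ψ₂ a ∈ normalizerIn S K) (hψ₂K : (K.subgroupOf A).map ψ₂ = K) : C A ψ₂ := by
  obtain ⟨A', ψ', hψ', hform⟩ := exists_transport_normalizerHom F hχ hχK hKA hA hψ₂ hψ₂N hψ₂K
  have hCψ' : C A' ψ' := hK' A' ψ' hψ'
  have hψ'F : ψ' ∈ F.Hom A' := hψ'.1
  have hχA : χ.comp (Subgroup.inclusion hA) ∈ F.Hom A := hom_of_restrict F hχ hA (fun _ => rfl)
  have hCχA : C A (χ.comp (Subgroup.inclusion hA)) :=
    hC.res _ A hA χ _ hχ (fun _ => rfl) hχC
  have hPQ : ∀ a : A, (χ.comp (Subgroup.inclusion hA)) a ∈ A' := fun a => (hform a).1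
  have hθ : ψ'.comp ((χ.comp (Subgroup.inclusion hA)).codRestrict A' hPQ) ∈ F.Hom A :=
    hom_of_comp F hχA hψ'F hPQ (fun _ => rfl)
  have hCθ : C A (ψ'.comp ((χ.comp (Subgroup.inclusion hA)).codRestrict A' hPQ)) :=
    hC.comp A A' _ ψ' _ hχA hψ'F hPQ (fun _ => rfl) hCχA hCψ'
  have hθform : ∀ a : A, (ψ'.comp ((χ.comp (Subgroup.inclusion hA)).codRestrict A' hPQ)) a =
      χ ⟨ψ₂ a, hψ₂N a⟩ := fun a => (hform a).2
  obtain ⟨χi, hχi, -, hχi1, -⟩ := hom_inv F hχ rfl
  have hCχi : C χ.range χi :=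
    hC.inv _ χ.range χ χi hχ hχi rfl (fun x => ⟨x, rfl⟩) (fun x => hχi1 x _) hχC
  have hPQ' : ∀ a : A, (ψ'.comp ((χ.comp (Subgroup.inclusion hA)).codRestrict A' hPQ)) a ∈ χ.range := by
    intro a
    rw [hθform a]
    exact ⟨_, rfl⟩
  refine hC.comp A χ.range _ χi ψ₂ hθ hχi hPQ' (fun a => ?_) hCθ hCχi
  have e : (⟨(ψ'.comp ((χ.comp (Subgroup.inclusion hA)).codRestrict A' hPQ)) a, hPQ' a⟩ : χ.range) =
      ⟨χ ⟨ψ₂ a, hψ₂N a⟩, ⟨_, rfl⟩⟩ := Subtype.ext (hθform a)
  rw [e]
  exact (hχi1 ⟨ψ₂ a, hψ₂N a⟩ _).symm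

end SupLemmas

section GenFusB

variable {p : ℕ} [Fact p.Prime] (W : ∀ (Q : Type u) [Group Q], Subgroup Q)

/-- The generation statement: a closed predicate containing the maps of `C_F(℧¹(Z(S)))` and of `N_F(W(S))`
contains all maps of `F`. -/
def XGen (p : ℕ) {Ω : Type u} [Group Ω] {S : Subgroup Ω} (F : FusionSystem S) : Prop :=
  ∀ C : ∀ P : Subgroup Ω, (P →* Ω) → Prop, MapClosed F C →
    (∀ (P : Subgroup Ω) (φ : P →* Ω),
      φ ∈ F.centralizerHom (powerClosure p 1 (S ⊓ Subgroup.centralizer (S : Set Ω))) P → C P φ) →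
    (∀ (P : Subgroup Ω) (φ : P →* Ω), φ ∈ F.normalizerHom (Wsub W S) P → C P φ) →
    ∀ (P : Subgroup Ω) (φ : P →* Ω), φ ∈ F.Hom P → C P φ

/-- The induction hypothesis: `XGen` for all smaller saturated systems. -/
def IHGen (p : ℕ) {Ω : Type u} [Group Ω] {S : Subgroup Ω} (F : FusionSystem S) : Prop :=
  ∀ (Ω' : Type u) [Group Ω'] (S' : Subgroup Ω') [Finite S'], IsPGroup p S' →
    ∀ F' : FusionSystem S', F'.IsSaturated p →
      (Nat.card S' < Nat.card S ∨ (Nat.card S' = Nat.card S ∧ dnn F' < dnn F)) → XGen W p F'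

variable {Ω : Type u} [Group Ω] {S : Subgroup Ω}

omit [Fact p.Prime] in
/-- The maps of the centralizer system of `℧¹(Z(N_S(X)))` in `N_F(X)` are maps of the centralizer system of
`℧¹(Z(S))` in `F`. -/
theorem centralizerHom_nsys_subset [Finite S] (F : FusionSystem S) {X : Subgroup Ω} (hXS : X ≤ S)
    (E : FusionSystem (normalizerIn S X)) (hE : F.IsNormalizerSystem X E) (P : Subgroup Ω) (φ : P →* Ω)
    (hφ : φ ∈ E.centralizerHom (powerClosure p 1
      (normalizerIn S X ⊓ Subgroup.centralizer ((normalizerIn S X : Subgroup Ω) : Set Ω))) P) :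
    φ ∈ F.centralizerHom (powerClosure p 1 (S ⊓ Subgroup.centralizer (S : Set Ω))) P := by
  have hTS : normalizerIn S X ≤ S := inf_le_left
  have hZ : S ⊓ Subgroup.centralizer (S : Set Ω) ≤
      normalizerIn S X ⊓ Subgroup.centralizer ((normalizerIn S X : Subgroup Ω) : Set Ω) := by
    refine le_inf ?_ (inf_le_right.trans (Subgroup.centralizer_le (SetLike.coe_subset_coe.2 hTS)))
    refine le_normalizerIn_of_central inf_le_left (fun z hz s hs => ?_) hXS
    have h1 := Subgroup.mem_centralizer_iff.1 hz.2 s hs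
    rw [h1]
    group
  have hV : powerClosure p 1 (S ⊓ Subgroup.centralizer (S : Set Ω)) ≤ powerClosure p 1
      (normalizerIn S X ⊓ Subgroup.centralizer ((normalizerIn S X : Subgroup Ω) : Set Ω)) := by
    apply Subgroup.closure_mono
    rintro y ⟨x, hx, rfl⟩
    exact ⟨x, hZ hx, rfl⟩
  obtain ⟨hφE, hPT, hφT, ψ, hψE, hψφ, hψV⟩ := hφ
  have hcle : centralizerIn (normalizerIn S X) (powerClosure p 1
      (normalizerIn S X ⊓ Subgroup.centralizer ((normalizerIn S X : Subgroup Ω) : Set Ω))) ≤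
      centralizerIn S (powerClosure p 1 (S ⊓ Subgroup.centralizer (S : Set Ω))) :=
    inf_le_inf hTS (Subgroup.centralizer_le (SetLike.coe_subset_coe.2 hV))
  refine ⟨nsys_hom_le F E hE hφE, hPT.trans hcle, fun x => hcle (hφT x), ?_⟩
  have hle : P ⊔ powerClosure p 1 (S ⊓ Subgroup.centralizer (S : Set Ω)) ≤ P ⊔ powerClosure p 1
      (normalizerIn S X ⊓ Subgroup.centralizer ((normalizerIn S X : Subgroup Ω) : Set Ω)) :=
    sup_le_sup_left hV P
  refine ⟨ψ.comp (Subgroup.inclusion hle),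
    hom_of_restrict F (nsys_hom_le F E hE hψE) hle (fun _ => rfl), fun x => hψφ x, fun x => ?_⟩
  exact hψV ⟨x, hV x.2⟩

/-- The downward induction above a non-centric normal subgroup `Q` of largest order: the maps of the normalizer
systems of the fully normalized subgroups properly containing `Q` satisfy the closed predicate. -/
theorem xgen_above (hW2 : WIso p W) (hWs : WSelf p W) [Finite S] (hS : IsPGroup p S)
    (F : FusionSystem S) (hF : F.IsSaturated p) (ih : IHGen W p F)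
    {Q : Subgroup Ω} (hQn : F.IsNormal Q) (hmax : ∀ Y, F.IsNormal Y → Q ≤ Y → Y = Q)
    (hQc : ¬ centralizerIn S Q ≤ Q)
    {C : ∀ P : Subgroup Ω, (P →* Ω) → Prop} (hC : MapClosed F C)
    (hCc : ∀ (P : Subgroup Ω) (φ : P →* Ω),
      φ ∈ F.centralizerHom (powerClosure p 1 (S ⊓ Subgroup.centralizer (S : Set Ω))) P → C P φ)
    (hCn : ∀ (P : Subgroup Ω) (φ : P →* Ω), φ ∈ F.normalizerHom (Wsub W S) P → C P φ) :
    ∀ m : ℕ, ∀ X : Subgroup Ω, F.IsFullyNormalized X → Q ≤ X → X ≠ Q →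
      Nat.card S - Nat.card (normalizerIn S X) = m →
      ∀ (P : Subgroup Ω) (φ : P →* Ω), φ ∈ F.normalizerHom X P → C P φ := by
  have hQS := hQn.1
  have hfQ : Finite Q := finite_of_le hQS
  have hQnorm : S ≤ Subgroup.normalizer (Q : Set Ω) := normal_le_normalizer F hQn
  have hsc := normal_stronglyClosed F hQn
  intro m
  induction m using Nat.strong_induction_on with
  | _ m ihm =>
  intro X hXfn hQX hXQ hm
  have hXS := hXfn.1
  have hXn : ¬ F.IsNormal X := fun h => hXQ (hmax X h hQX)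
  obtain ⟨E, hE⟩ := exists_normalizerSystem F X hXS
  have hEsat := normalizerSystem_saturated p hS F hF X hXfn E hE
  have hS₁ : IsPGroup p (normalizerIn S X) := hS.to_le inf_le_left
  have hS₁S : normalizerIn S X ≤ S := inf_le_left
  have hCE : MapClosed E C := hC.nsys E hE
  have hCcE : ∀ (P : Subgroup Ω) (φ : P →* Ω), φ ∈ E.centralizerHom (powerClosure p 1
      (normalizerIn S X ⊓ Subgroup.centralizer ((normalizerIn S X : Subgroup Ω) : Set Ω))) P → C P φ :=
    fun P φ hφ => hCc P φ (centralizerHom_nsys_subset F hXS E hE P φ hφ)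
  suffices hCnE : ∀ (P : Subgroup Ω) (φ : P →* Ω),
      φ ∈ E.normalizerHom (Wsub W (normalizerIn S X)) P → C P φ by
    have hsmall : Nat.card (normalizerIn S X) < Nat.card S ∨
        (Nat.card (normalizerIn S X) = Nat.card S ∧ dnn E < dnn F) := by
      by_cases hXn' : S ≤ Subgroup.normalizer (X : Set Ω)
      · exact Or.inr ⟨congrArg (fun Y : Subgroup Ω => Nat.card Y) (normalizerIn_eq_of_le_normalizer hXn'),
          dnn_lt F hXS hXn' hXn E hE⟩
      · exact Or.inl (card_normalizerIn_lt hXn')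
    have hXE := ih Ω (normalizerIn S X) hS₁ E hEsat hsmall C hCE hCcE hCnE
    intro P φ hφ
    exact hXE P φ (by rw [hE P]; exact hφ)
  by_cases hXn' : S ≤ Subgroup.normalizer (X : Set Ω)
  · have hNS : normalizerIn S X = S := normalizerIn_eq_of_le_normalizer hXn'
    intro P φ hφ
    have h2 := normalizerHom_nsys_subset F E hE _ P hφ
    rw [Wsub_congr W hNS] at h2
    exact hCn P φ h2
  · have hS₁ne : normalizerIn S X ≠ S := by
      intro e
      apply hXn'
      rw [← e]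
      exact inf_le_right
    have hQT : Q ≤ normalizerIn S X := hQX.trans (le_normalizerIn hXS)
    have hVS₁ : Wsub W (normalizerIn S X) ≤ normalizerIn S X := Wsub_le W _
    obtain ⟨K, hK⟩ : ∃ K : Subgroup Ω, K = Wsub W (normalizerIn S X) ⊔ Q := ⟨_, rfl⟩
    have hKT : K ≤ normalizerIn S X := by rw [hK]; exact sup_le hVS₁ hQT
    have hKS : K ≤ S := hKT.trans hS₁S
    have hfK : Finite K := finite_of_le hKS
    have hQK : Q ≤ K := by rw [hK]; exact le_sup_right
    have hKQ : K ≠ Q := by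
      intro e
      apply Wsub_not_le_of_not_centric W hWs hS hQX hXS hQnorm hQc
      rw [← e, hK]
      exact le_sup_left
    have hS₁N₂ : normalizerIn S (normalizerIn S X) ≤ normalizerIn S K := by
      intro s hs
      refine ⟨hs.1, ?_⟩
      rw [hK]
      exact Subgroup.normalizer_inf_normalizer_le_normalizer_sup _ _
        ⟨Wsub_normalizer W hW2 hS₁ hs.2, hQnorm hs.1⟩
    have hTNK : normalizerIn S X ≤ normalizerIn S K := (le_normalizerIn hS₁S).trans hS₁N₂
    have hcard1 : Nat.card (normalizerIn S X) < Nat.card (normalizerIn S K) :=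
      lt_of_lt_of_le (Helper87.card_lt_card_normalizerIn hS hS₁S hS₁ne) (Subgroup.card_le_of_le hS₁N₂)
    obtain ⟨K', hKK', hK'fn⟩ := exists_fullyNormalized_conj F hKS
    obtain ⟨hK'fa, hK'rec⟩ := saturated_fullyNormalized hS F hF hK'fn
    obtain ⟨χ, hχ, hχN, hχK⟩ := exists_normalizer_map p hS F K' _ hK'fa hK'rec hKK'
    have hQN : Q ≤ normalizerIn S K := hQK.trans (le_normalizerIn hKS)
    have hχQ : (Q.subgroupOf (normalizerIn S K)).map χ = Q := by
      refine map_subgroupOf_eq_of_forall_mem hQN (F.injective_of_mem hχ) (fun x hx => ?_)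
      have h1 : χ.comp (Subgroup.inclusion hQN) ∈ F.Hom Q := hom_of_restrict F hχ hQN (fun _ => rfl)
      exact hsc.2 Q le_rfl _ h1 ⟨x, hx⟩
    have hQK' : Q ≤ K' := by
      intro q hq
      have hq' : q ∈ (Q.subgroupOf (normalizerIn S K)).map χ := by rw [hχQ]; exact hq
      obtain ⟨x, hx, rfl⟩ := hq'
      exact (le_of_eq hχK) ⟨x, Subgroup.mem_subgroupOf.2 (hQK (Subgroup.mem_subgroupOf.1 hx)), rfl⟩
    have hK'Q : K' ≠ Q := by
      intro e
      apply hKQ
      apply le_antisymm _ hQK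
      intro k hk
      have h1 : χ ⟨k, le_normalizerIn hKS hk⟩ ∈ K' :=
        (le_of_eq hχK) ⟨_, Subgroup.mem_subgroupOf.2 hk, rfl⟩
      rw [e, ← hχQ] at h1
      obtain ⟨x, hx, hxk⟩ := h1
      have h2 := F.injective_of_mem hχ hxk
      have h3 : (x : Ω) = k := congrArg Subtype.val h2
      rw [← h3]
      exact Subgroup.mem_subgroupOf.1 hx
    have hcard2 : Nat.card (normalizerIn S K) ≤ Nat.card (normalizerIn S K') :=
      Nat.card_le_card_of_injective (fun x => (⟨χ x, hχN x⟩ : normalizerIn S K'))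
        (fun a b hab => F.injective_of_mem hχ (congrArg Subtype.val hab))
    have hcard3 : Nat.card (normalizerIn S K') ≤ Nat.card S := Subgroup.card_le_of_le inf_le_left
    have hK'C := ihm _ (by omega) K' hK'fn hQK' hK'Q rfl
    have hχC : C _ χ := by
      refine mapClosed_of_aut hS F hF hC hQn hQc (Nat.card (normalizerIn S K)) ?_ _ χ hχ le_rfl
      intro R hRfn hQR hRQ hRcard α hα hαR
      have hRS := hRfn.1
      have : Finite R := finite_of_le hRS
      have hcard4 : Nat.card R ≤ Nat.card (normalizerIn S R) :=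
        Subgroup.card_le_of_le (le_normalizerIn hRS)
      have hcard5 : Nat.card (normalizerIn S R) ≤ Nat.card S := Subgroup.card_le_of_le inf_le_left
      exact ihm _ (by omega) R hRfn hQR hRQ rfl R α
        (normalizerHom_of_self F le_rfl (le_normalizerIn hRS) hα
          (map_subgroupOf_eq_of_forall_mem le_rfl (F.injective_of_mem hα) (fun x _ => hαR x)))
    intro P φ hφ
    obtain ⟨hφE, hPN, hφN, ψ, hψE, hψφ, hψV⟩ := hφ
    have hψF := nsys_hom_le F E hE hψE
    obtain ⟨ψ₂, hψ₂, hψ₂ψ, hψ₂Q⟩ := hQn.2 _ ψ hψF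
    have hPT : P ≤ normalizerIn S X := hom_le E hφE
    have hBT : P ⊔ Wsub W (normalizerIn S X) ≤ normalizerIn S X := sup_le hPT hVS₁
    have hAT : P ⊔ Wsub W (normalizerIn S X) ⊔ Q ≤ normalizerIn S X := sup_le hBT hQT
    have hKA : K ≤ P ⊔ Wsub W (normalizerIn S X) ⊔ Q := by
      rw [hK]
      exact sup_le (le_sup_right.trans le_sup_left) le_sup_right
    have hA : P ⊔ Wsub W (normalizerIn S X) ⊔ Q ≤ normalizerIn S K := hAT.trans hTNK
    have hψ₂B : ∀ x : ↥(P ⊔ Wsub W (normalizerIn S X) ⊔ Q),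
        ∀ hx : (x : Ω) ∈ P ⊔ Wsub W (normalizerIn S X), ψ₂ x = ψ ⟨x, hx⟩ := fun x hx => hψ₂ψ ⟨x, hx⟩
    have hψ₂Q' : ∀ x : ↥(P ⊔ Wsub W (normalizerIn S X) ⊔ Q), (x : Ω) ∈ Q → ψ₂ x ∈ Q :=
      fun x hx => (le_of_eq hψ₂Q) ⟨x, Subgroup.mem_subgroupOf.2 hx, rfl⟩
    have hψ₂T : ∀ a : ↥(P ⊔ Wsub W (normalizerIn S X) ⊔ Q), ψ₂ a ∈ normalizerIn S X := by
      intro a
      refine forall_mem_of_sup le_rfl (normalizerIn S X) (fun x hx => ?_) (fun x hx => ?_) a a.2
      · rw [hψ₂B x hx]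
        exact hom_mem E hψE _
      · exact hQT (hψ₂Q' x hx)
    have hψ₂N : ∀ a : ↥(P ⊔ Wsub W (normalizerIn S X) ⊔ Q), ψ₂ a ∈ normalizerIn S K :=
      fun a => hTNK (hψ₂T a)
    have hψ₂K : (K.subgroupOf (P ⊔ Wsub W (normalizerIn S X) ⊔ Q)).map ψ₂ = K := by
      refine map_subgroupOf_eq_of_forall_mem hKA (F.injective_of_mem hψ₂) ?_
      rw [hK]
      refine forall_mem_of_sup (sup_le (le_sup_right.trans le_sup_left) le_sup_right) _
        (fun x hx => ?_) (fun x hx => ?_)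
      · rw [hψ₂B x (Subgroup.mem_sup_right hx)]
        exact Subgroup.mem_sup_left ((le_of_eq hψV) ⟨_, Subgroup.mem_subgroupOf.2 hx, rfl⟩)
      · exact Subgroup.mem_sup_right (hψ₂Q' x hx)
    have hCψ₂ := transport_closed F hC hχ hχK hχC hK'C hKA hA hψ₂ hψ₂N hψ₂K
    refine hC.res _ P (le_sup_left.trans le_sup_left) ψ₂ φ hψ₂ (fun x => ?_) hCψ₂
    rw [hψ₂B _ (Subgroup.mem_sup_left x.2)]
    exact (hψφ x).symm

/-- The case where the normal subgroup `Q` of largest order is not centric. -/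
theorem xgen_noncentric (hW2 : WIso p W) (hWs : WSelf p W) [Finite S] (hS : IsPGroup p S)
    (F : FusionSystem S) (hF : F.IsSaturated p) (ih : IHGen W p F)
    {Q : Subgroup Ω} (hQn : F.IsNormal Q) (hmax : ∀ Y, F.IsNormal Y → Q ≤ Y → Y = Q)
    (hQc : ¬ centralizerIn S Q ≤ Q)
    {C : ∀ P : Subgroup Ω, (P →* Ω) → Prop} (hC : MapClosed F C)
    (hCc : ∀ (P : Subgroup Ω) (φ : P →* Ω),
      φ ∈ F.centralizerHom (powerClosure p 1 (S ⊓ Subgroup.centralizer (S : Set Ω))) P → C P φ)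
    (hCn : ∀ (P : Subgroup Ω) (φ : P →* Ω), φ ∈ F.normalizerHom (Wsub W S) P → C P φ) :
    ∀ (P : Subgroup Ω) (φ : P →* Ω), φ ∈ F.Hom P → C P φ := by
  have claim := xgen_above W hW2 hWs hS F hF ih hQn hmax hQc hC hCc hCn
  intro P φ hφ
  refine mapClosed_of_aut hS F hF hC hQn hQc 0 ?_ P φ hφ (Nat.zero_le _)
  intro R hRfn hQR hRQ _ α hα hαR
  have hRS := hRfn.1
  have : Finite R := finite_of_le hRS
  exact claim _ R hRfn hQR hRQ rfl R α
    (normalizerHom_of_self F le_rfl (le_normalizerIn hRS) hα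
      (map_subgroupOf_eq_of_forall_mem le_rfl (F.injective_of_mem hα) (fun x _ => hαR x)))

end GenFusB

end Cfsg.Agent.Helper86
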