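import Cfsg.Agent.Helper86.GenFusB
import Cfsg.Agent.Helper84.ZJFusionB

/-!
# Generation of a saturated fusion system by two subsystems: the constrained case and the induction (helper86)

The constrained case of `XGen` through a model and the group lemma `gen_of_quad`, and the induction `xgen_all`:
for a characteristic `p`-functor `W` that is self-centralizing and satisfies the quadratic hypothesis `WQuad`
(for instance the Thompson subgroup `J`), every saturated fusion system `F` over `S` is generated by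
`C_F(℧¹(Z(S)))` and `N_F(W(S))`.
-/

set_option autoImplicit false

namespace Cfsg.Agent.Helper86

open Cfsg Cfsg.FusionSystem Cfsg.Agent.Helper84

universe u

section GenFusC

variable {p : ℕ} [Fact p.Prime] (W : ∀ (Q : Type u) [Group Q], Subgroup Q)

variable {Ω : Type u} [Group Ω] {S : Subgroup Ω}

/-- The constrained case of the generation statement. -/
theorem xgen_constrained (hW2 : WIso p W) (hq : WQuad p W) [Finite S] (hS : IsPGroup p S)
    (F : FusionSystem S) (hF : F.IsSaturated p) {R : Subgroup Ω} (hRn : F.IsNormal R)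
    (hRc : F.IsCentric R) {C : ∀ P : Subgroup Ω, (P →* Ω) → Prop} (hC : MapClosed F C)
    (hCc : ∀ (P : Subgroup Ω) (φ : P →* Ω),
      φ ∈ F.centralizerHom (powerClosure p 1 (S ⊓ Subgroup.centralizer (S : Set Ω))) P → C P φ)
    (hCn : ∀ (P : Subgroup Ω) (φ : P →* Ω), φ ∈ F.normalizerHom (Wsub W S) P → C P φ) :
    ∀ (P : Subgroup Ω) (φ : P →* Ω), φ ∈ F.Hom P → C P φ := by
  obtain ⟨G, hG, ι, hM⟩ := exists_model p hS F hF hRn hRc
  obtain ⟨hfin, hreal, ⟨T, hT⟩, hcR⟩ := hM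
  have hinj := hreal.1
  obtain ⟨hWe1, hWe2⟩ := Wsub_equiv W hW2 hS
    ((MonoidHom.ofInjective hinj).trans (MulEquiv.subgroupCongr hT.symm))
  have hWS : Wsub W S ≤ S := Wsub_le W S
  have hfinW : Finite ↥(Wsub W S) := finite_of_le hWS
  -- the subgroup `V = ℧¹(Z(S))`
  have hVS : powerClosure p 1 (S ⊓ Subgroup.centralizer (S : Set Ω)) ≤ S := by
    unfold powerClosure
    rw [Subgroup.closure_le]
    rintro _ ⟨x, hx, rfl⟩
    exact S.pow_mem hx.1 _
  have hVc : powerClosure p 1 (S ⊓ Subgroup.centralizer (S : Set Ω)) ≤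
      Subgroup.centralizer (S : Set Ω) := by
    unfold powerClosure
    rw [Subgroup.closure_le]
    rintro _ ⟨x, hx, rfl⟩
    exact Subgroup.pow_mem _ hx.2 _
  have hSV : S ≤ Subgroup.centralizer
      ((powerClosure p 1 (S ⊓ Subgroup.centralizer (S : Set Ω)) : Subgroup Ω) : Set Ω) :=
    Subgroup.le_centralizer_iff.1 hVc
  have hScV : S ≤ centralizerIn S (powerClosure p 1 (S ⊓ Subgroup.centralizer (S : Set Ω))) :=
    le_inf le_rfl hSV
  have hWnorm : S ≤ Subgroup.normalizer ((Wsub W S : Subgroup Ω) : Set Ω) :=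
    le_normalizer_Wsub W hW2 hS
  have hNS : normalizerIn S (Wsub W S) = S := normalizerIn_eq_of_le_normalizer hWnorm
  have hmain := gen_of_quad W hW2 hq (Nat.card G) G rfl hcR T
    (fun D g => ∀ (P : Subgroup Ω) (hP : P ≤ S) (φ : P →* Ω) (hφ : φ ∈ F.Hom P),
      (∀ x : P, ι ⟨x, hP x.2⟩ ∈ D) →
      (∀ x : P, ι ⟨φ x, hom_mem F hφ x⟩ = g * ι ⟨x, hP x.2⟩ * g⁻¹) → C P φ) ?_ ?_ ?_
  · intro P φ hφ
    have hP := hom_le F hφ
    obtain ⟨g, hg⟩ := (hreal.2 P hP φ (hom_mem F hφ)).1 hφ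
    refine hmain ((P.subgroupOf S).map ι) g ?_ ?_ P hP φ hφ ?_ hg
    · rintro _ ⟨x, -, rfl⟩
      rw [hT]
      exact ⟨x, rfl⟩
    · rintro _ ⟨x, hx, rfl⟩
      have h1 := hg ⟨x, Subgroup.mem_subgroupOf.1 hx⟩
      rw [hT]
      exact ⟨_, h1⟩
    · intro x
      exact ⟨⟨x, hP x.2⟩, Subgroup.mem_subgroupOf.2 x.2, rfl⟩
  · -- composition
    intro D g h hDT hgD hhD h1 h2 P hP φ hφ hPD hφr
    have hg' : ∀ x : P, g * ι ⟨x, hP x.2⟩ * g⁻¹ ∈ ι.range := fun x => by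
      rw [← hT]
      exact hgD _ (hPD x)
    obtain ⟨φ₁, hφ₁, hφ₁ι⟩ := exists_conj_hom F hreal hP g hg'
    have hC₁ : C P φ₁ := h1 P hP φ₁ hφ₁ hPD (fun x => (hφ₁ι x).2)
    have hP₁S : φ₁.range ≤ S := hom_range_le F hφ₁
    have hP₁D : ∀ y : φ₁.range, ι ⟨y, hP₁S y.2⟩ ∈ D.map (MulAut.conj g).toMonoidHom := by
      rintro ⟨_, x, rfl⟩
      exact ⟨ι ⟨x, hP x.2⟩, hPD x, (hφ₁ι x).2.symm⟩
    have hh' : ∀ y : φ₁.range, h * ι ⟨y, hP₁S y.2⟩ * h⁻¹ ∈ ι.range := by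
      rintro ⟨_, x, rfl⟩
      rw [← hT]
      have h3 := hhD _ (hPD x)
      rw [← (hφ₁ι x).2] at h3
      exact h3
    obtain ⟨φ₂, hφ₂, hφ₂ι⟩ := exists_conj_hom F hreal hP₁S h hh'
    have hC₂ : C φ₁.range φ₂ := h2 φ₁.range hP₁S φ₂ hφ₂ hP₁D (fun y => (hφ₂ι y).2)
    refine hC.comp P φ₁.range φ₁ φ₂ φ hφ₁ hφ₂ (fun x => ⟨x, rfl⟩) (fun x => ?_) hC₁ hC₂
    have e4 : ι ⟨φ x, hom_mem F hφ x⟩ =
        ι ⟨φ₂ ⟨φ₁ x, ⟨x, rfl⟩⟩, (hφ₂ι ⟨φ₁ x, ⟨x, rfl⟩⟩).1⟩ := by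
      calc ι ⟨φ x, hom_mem F hφ x⟩ = (h * g) * ι ⟨x, hP x.2⟩ * (h * g)⁻¹ := hφr x
        _ = h * (g * ι ⟨x, hP x.2⟩ * g⁻¹) * h⁻¹ := by group
        _ = h * ι ⟨φ₁ x, (hφ₁ι x).1⟩ * h⁻¹ := by rw [(hφ₁ι x).2]
        _ = ι ⟨φ₂ ⟨φ₁ x, ⟨x, rfl⟩⟩, (hφ₂ι ⟨φ₁ x, ⟨x, rfl⟩⟩).1⟩ := (hφ₂ι ⟨φ₁ x, ⟨x, rfl⟩⟩).2.symm
    exact congrArg Subtype.val (hinj e4)
  · -- elements centralizing the `p`-th powers of `Z(T)`
    intro D g hDT hgD hgc P hP φ hφ hPD hφr
    apply hCc P φ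
    have key : powerClosure p 1 (S ⊓ Subgroup.centralizer (S : Set Ω)) ≤
        ((Subgroup.centralizer ({g} : Set G)).comap ι).map S.subtype := by
      unfold powerClosure
      rw [Subgroup.closure_le]
      rintro _ ⟨x, hx, rfl⟩
      refine ⟨⟨x ^ p ^ 1, S.pow_mem hx.1 _⟩, ?_, rfl⟩
      show ι ⟨x ^ p ^ 1, _⟩ ∈ Subgroup.centralizer ({g} : Set G)
      rw [Subgroup.mem_centralizer_iff]
      intro h hh
      rw [Set.mem_singleton_iff] at hh
      rw [hh]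
      have e : ι ⟨x ^ p ^ 1, S.pow_mem hx.1 _⟩ = ι ⟨x, hx.1⟩ ^ p := by
        rw [← map_pow]
        congr 1
        apply Subtype.ext
        show x ^ p ^ 1 = x ^ p
        rw [pow_one]
      rw [e]
      refine hgc (ι ⟨x, hx.1⟩) (by rw [hT]; exact ⟨_, rfl⟩) (fun s hs => ?_)
      rw [hT] at hs
      obtain ⟨s₀, rfl⟩ := hs
      rw [← map_mul, ← map_mul]
      congr 1
      apply Subtype.ext
      exact Subgroup.mem_centralizer_iff.1 hx.2 s₀ s₀.2
    have hgV : ∀ v (hv : v ∈ powerClosure p 1 (S ⊓ Subgroup.centralizer (S : Set Ω))),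
        g * ι ⟨v, hVS hv⟩ * g⁻¹ = ι ⟨v, hVS hv⟩ := by
      intro v hv
      obtain ⟨w, hw, hwv⟩ := key hv
      have e : w = ⟨v, hVS hv⟩ := Subtype.ext hwv
      rw [← e]
      have h1 := Subgroup.mem_centralizer_iff.1 hw g (Set.mem_singleton g)
      rw [h1]
      group
    have hPV : P ⊔ powerClosure p 1 (S ⊓ Subgroup.centralizer (S : Set Ω)) ≤ S := sup_le hP hVS
    have hg' : ∀ x : ↥(P ⊔ powerClosure p 1 (S ⊓ Subgroup.centralizer (S : Set Ω))),
        g * ι ⟨x, hPV x.2⟩ * g⁻¹ ∈ ι.range := by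
      have key2 : P ⊔ powerClosure p 1 (S ⊓ Subgroup.centralizer (S : Set Ω)) ≤
          (ι.range.comap ((MulAut.conj g).toMonoidHom.comp ι)).map S.subtype := by
        refine sup_le ?_ ?_
        · intro x hx
          refine ⟨⟨x, hP hx⟩, ?_, rfl⟩
          show g * ι ⟨x, _⟩ * g⁻¹ ∈ ι.range
          rw [← hT]
          exact hgD _ (hPD ⟨x, hx⟩)
        · intro v hv
          refine ⟨⟨v, hVS hv⟩, ?_, rfl⟩
          show g * ι ⟨v, _⟩ * g⁻¹ ∈ ι.range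
          rw [hgV v hv]
          exact ⟨_, rfl⟩
      intro x
      obtain ⟨w, hw, hwx⟩ := key2 x.2
      have e : w = ⟨x, hPV x.2⟩ := Subtype.ext hwx
      rw [← e]
      exact hw
    obtain ⟨ψ, hψ, hψι⟩ := exists_conj_hom F hreal hPV g hg'
    refine ⟨hφ, hP.trans hScV, fun x => hScV (hom_mem F hφ x), ψ, hψ, fun x => ?_, fun v => ?_⟩
    · obtain ⟨hx1, hx2⟩ := hψι (Subgroup.inclusion le_sup_left x)
      have e : ι ⟨ψ (Subgroup.inclusion le_sup_left x), hx1⟩ = ι ⟨φ x, hom_mem F hφ x⟩ :=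
        hx2.trans (hφr x).symm
      exact congrArg Subtype.val (hinj e)
    · obtain ⟨hx1, hx2⟩ := hψι (Subgroup.inclusion le_sup_right v)
      have e : ι ⟨ψ (Subgroup.inclusion le_sup_right v), hx1⟩ = ι ⟨v, hVS v.2⟩ :=
        hx2.trans (hgV v v.2)
      exact congrArg Subtype.val (hinj e)
  · -- elements normalizing `W(T)`
    intro D g hDT hgD hgN P hP φ hφ hPD hφr
    apply hCn P φ
    have hPW : P ⊔ Wsub W S ≤ S := sup_le hP hWS
    have hgW : ∀ w (hw : w ∈ Wsub W S), g * ι ⟨w, hWS hw⟩ * g⁻¹ ∈ Wsub W (T : Subgroup G) :=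
      fun w hw => (Subgroup.mem_normalizer_iff.1 hgN _).1 (hWe1 w (hWS hw) hw)
    have hg' : ∀ x : ↥(P ⊔ Wsub W S), g * ι ⟨x, hPW x.2⟩ * g⁻¹ ∈ ι.range := by
      have key2 : P ⊔ Wsub W S ≤
          (ι.range.comap ((MulAut.conj g).toMonoidHom.comp ι)).map S.subtype := by
        refine sup_le ?_ ?_
        · intro x hx
          refine ⟨⟨x, hP hx⟩, ?_, rfl⟩
          show g * ι ⟨x, _⟩ * g⁻¹ ∈ ι.range
          rw [← hT]
          exact hgD _ (hPD ⟨x, hx⟩)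
        · intro w hw
          refine ⟨⟨w, hWS hw⟩, ?_, rfl⟩
          show g * ι ⟨w, _⟩ * g⁻¹ ∈ ι.range
          rw [← hT]
          exact Wsub_le W _ (hgW w hw)
      intro x
      obtain ⟨w, hw, hwx⟩ := key2 x.2
      have e : w = ⟨x, hPW x.2⟩ := Subtype.ext hwx
      rw [← e]
      exact hw
    obtain ⟨ψ, hψ, hψι⟩ := exists_conj_hom F hreal hPW g hg'
    refine ⟨hφ, hP.trans (le_of_eq hNS.symm), fun x => (le_of_eq hNS.symm) (hom_mem F hφ x),
      ψ, hψ, fun x => ?_, ?_⟩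
    · obtain ⟨hx1, hx2⟩ := hψι (Subgroup.inclusion le_sup_left x)
      have e : ι ⟨ψ (Subgroup.inclusion le_sup_left x), hx1⟩ = ι ⟨φ x, hom_mem F hφ x⟩ :=
        hx2.trans (hφr x).symm
      exact congrArg Subtype.val (hinj e)
    · refine map_subgroupOf_eq_of_forall_mem le_sup_right (F.injective_of_mem hψ) (fun x hx => ?_)
      obtain ⟨hx1, hx2⟩ := hψι x
      obtain ⟨y', hyS', hyW, hy⟩ := hWe2 _ (hgW x hx)
      have h3 : ι ⟨y', hyS'⟩ = ι ⟨ψ x, hx1⟩ := hy.trans hx2.symm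
      have h4 : y' = ψ x := congrArg Subtype.val (hinj h3)
      rw [← h4]
      exact hyW

/-- The induction step. -/
theorem xgen_step (hW2 : WIso p W) (hq : WQuad p W) (hWs : WSelf p W) [Finite S] (hS : IsPGroup p S)
    (F : FusionSystem S) (hF : F.IsSaturated p) (ih : IHGen W p F) : XGen W p F := by
  intro C hC hCc hCn
  obtain ⟨Q, hQn, -, hmax⟩ := exists_max_normal F (Helper88.isNormal_bot F)
  by_cases hQc : centralizerIn S Q ≤ Q
  · exact xgen_constrained W hW2 hq hS F hF hQn (centric_of_normal_of_cent F hQn hQc) hC hCc hCn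
  · exact xgen_noncentric W hW2 hWs hS F hF ih hQn hmax hQc hC hCc hCn

/-- **Generation** of every saturated fusion system by `C_F(℧¹(Z(S)))` and `N_F(W(S))`. -/
theorem xgen_all (hW2 : WIso p W) (hq : WQuad p W) (hWs : WSelf p W) :
    ∀ (n k : ℕ) (Ω : Type u) [Group Ω] (S : Subgroup Ω) [Finite S], IsPGroup p S →
      ∀ F : FusionSystem S, F.IsSaturated p → Nat.card S = n → dnn F = k → XGen W p F := by
  intro n
  induction n using Nat.strong_induction_on with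
  | _ n ihn =>
  intro k
  induction k using Nat.strong_induction_on with
  | _ k ihk =>
  intro Ω _ S _ hS F hF hn hk
  apply xgen_step W hW2 hq hWs hS F hF
  intro Ω' _ S' _ hS' F' hF' hlt
  rcases hlt with h | ⟨h1, h2⟩
  · exact ihn (Nat.card S') (hn ▸ h) (dnn F') Ω' S' hS' F' hF' rfl rfl
  · exact ihk (dnn F') (hk ▸ h2) Ω' S' hS' F' hF' (h1.trans hn) rfl

end GenFusC

end Cfsg.Agent.Helper86
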