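import Cfsg.Agent.Helper86.GenClosureD
import Cfsg.Agent.Helper86.JFunctor
import Cfsg.Agent.Helper46.WeakG
import Cfsg.Agent.Helper84.ThompsonFusion
import Cfsg.Agent.Helper84.QuotFree

/-!
# Glauberman's theorem on `Z(N_F(J(S)))` for fusion systems (helper86)

For a saturated fusion system `F` over `S` with `p` odd or `F` `S₄`-free, every element fixed by the maps of
`N_F(J(S))` is fixed by all maps of `F`: the induction `xg_all` with the datum predicate `DGl` and, in the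
constrained case, Glauberman's weak closure theorem for groups (`Helper46.wc_main`) applied to a model.
-/

set_option autoImplicit false

namespace Cfsg.Agent.Helper86

open Cfsg Cfsg.FusionSystem Cfsg.Agent.Helper84

universe u

/-- The datum predicate of Glauberman's theorem: `p` is odd or the system is `S₄`-free. -/
def DGl (p : ℕ) : ∀ (Ω : Type u) [Group Ω] (S : Subgroup Ω), FusionSystem S → Subgroup Ω → Prop :=
  fun _ _ _ F _ => p ≠ 2 ∨ F.IsSectionFree p (Equiv.Perm (Fin 4))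

theorem dgl_norm (p : ℕ) [Fact p.Prime] : DNorm p (DGl.{u} p) := by
  intro Ω _ S _ hS F hF R hfn E hE Z _ hD
  exact hD.imp id (fun h => normalizer_sectionFree p hS F hF _ h R hfn E hE)

theorem dgl_quot (p : ℕ) [Fact p.Prime] : DQuot p (DGl.{u} p) := by
  intro Ω _ S _ hS F hF Q hQn _ E' hE' Z _ hD
  exact hD.imp id (fun h => quotient_sectionFree p hS F hF Q hQn _ h _ E' hE')

theorem dgl_cons (p : ℕ) [Fact p.Prime] : DCons p WJ.{u} (DGl.{u} p) := by
  intro Ω _ S _ hS F hF R hRn hRc Z hZS hD hZ z hz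
  have hzS : z ∈ S := hZS hz
  have hzN := hZ z hz
  obtain ⟨G, hG, ι, hM⟩ := exists_model p hS F hF hRn hRc
  have hM' := hM
  obtain ⟨hfin, hreal, ⟨T, hT⟩, hcR⟩ := hM
  have hinj := hreal.1
  have hfreeL : p ≠ 2 ∨ ¬ Involves (Equiv.Perm (Fin 4)) G := by
    refine hD.imp id (fun hfree => ?_)
    obtain ⟨N, hN⟩ := exists_normalizerSystem F R hRn.1
    exact hfree R (normal_fullyNormalized F hRn) hRc N hN G _ (model_nsys_of_normal F hRn N hN hM')
  have hW2 := wj_iso.{u} p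
  have hWe := Wsub_equiv WJ hW2 hS
    ((MonoidHom.ofInjective hinj).trans (MulEquiv.subgroupCongr hT.symm))
  obtain ⟨hWe1, hWe2⟩ := hWe
  have hcent := central_of_fixN WJ hW2 hS F hzS hzN
  have hzW : z ∈ Wsub WJ S := mem_Wsub_of_central WJ (wj_cen p) hS hzS hcent
  have hWS : Wsub WJ S ≤ S := Wsub_le WJ S
  have hfinW : Finite ↥(Wsub WJ S) := finite_of_le hWS
  have hcomm : ∀ n ∈ Subgroup.normalizer ((Wsub WJ (T : Subgroup G) : Subgroup G) : Set G),
      n * ι ⟨z, hzS⟩ * n⁻¹ = ι ⟨z, hzS⟩ := by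
    intro n hn
    have h1 : ∀ x : Wsub WJ S, n * ι ⟨x, hWS x.2⟩ * n⁻¹ ∈ Wsub WJ (T : Subgroup G) := by
      intro x
      have h2 := hWe1 x (hWS x.2) x.2
      exact (Subgroup.mem_normalizer_iff.1 hn _).1 h2
    have h1' : ∀ x : Wsub WJ S, n * ι ⟨x, hWS x.2⟩ * n⁻¹ ∈ ι.range := fun x => by
      rw [← hT]
      exact Wsub_le WJ _ (h1 x)
    obtain ⟨φ, hφ, hφι⟩ := exists_conj_hom F hreal hWS n h1'
    have hφW : ∀ x : Wsub WJ S, φ x ∈ Wsub WJ S := by
      intro x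
      obtain ⟨hx, hx'⟩ := hφι x
      obtain ⟨y', hyS', hyW, hy⟩ := hWe2 _ (h1 x)
      have h3 : ι ⟨y', hyS'⟩ = ι ⟨φ x, hx⟩ := hy.trans hx'.symm
      have h4 : y' = φ x := congrArg Subtype.val (hinj h3)
      rw [← h4]
      exact hyW
    have hφN : φ ∈ F.normalizerHom (Wsub WJ S) (Wsub WJ S) :=
      normalizerHom_of_self F le_rfl (le_normalizerIn hWS) hφ
        (map_subgroupOf_eq_of_forall_mem le_rfl (F.injective_of_mem hφ) (fun x _ => hφW x))
    have h3 := hzN _ φ hφN ⟨z, hzW⟩ rfl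
    obtain ⟨hx, hx'⟩ := hφι ⟨z, hzW⟩
    rw [← hx']
    congr 1
    exact Subtype.ext h3
  have hzT : ι ⟨z, hzS⟩ ∈ (T : Subgroup G) := by rw [hT]; exact ⟨_, rfl⟩
  have eJ : Wsub WJ (T : Subgroup G) = Helper46.JA (T : Subgroup G) :=
    Helper46.thompsonSubgroupAOf_eq_JA _
  have hwc := Helper46.wc_main p (Nat.card G) G rfl T (ι ⟨z, hzS⟩) hzT (by
    intro n hn
    rw [← eJ] at hn
    rw [Subgroup.mem_centralizer_iff]
    intro h hh
    rw [Set.mem_singleton_iff] at hh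
    rw [hh]
    have h5 := hcomm n hn
    calc ι ⟨z, hzS⟩ * n = (n * ι ⟨z, hzS⟩ * n⁻¹) * n := by rw [h5]
      _ = n * ι ⟨z, hzS⟩ := by group)
    (hfreeL.imp id (fun h => Or.inr h))
  intro P φ hφ x hx
  obtain ⟨g, hg⟩ := (hreal.2 P (hom_le F hφ) φ (hom_mem F hφ)).1 hφ
  have h6 := hg x
  have e1 : (⟨x, hom_le F hφ x.2⟩ : S) = ⟨z, hzS⟩ := Subtype.ext hx
  rw [e1] at h6
  have h7 : g * ι ⟨z, hzS⟩ * g⁻¹ = ι ⟨z, hzS⟩ := by
    apply hwc g
    rw [← h6, hT]
    exact ⟨_, rfl⟩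
  rw [h7] at h6
  exact congrArg Subtype.val (hinj h6)

/-- **Glauberman's theorem for fusion systems** (element form): if `p` is odd or `F` is `S₄`-free, every element
fixed by the maps of `N_F(J(S))` is fixed by all maps of `F`. -/
theorem glauberman_fixAll {Ω : Type u} [Group Ω] {S : Subgroup Ω} [Finite S] (p : ℕ) [Fact p.Prime]
    (hS : IsPGroup p S) (F : FusionSystem S) (hF : F.IsSaturated p)
    (hD : p ≠ 2 ∨ F.IsSectionFree p (Equiv.Perm (Fin 4))) {Z : Subgroup Ω} (hZS : Z ≤ S)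
    (hZ : ∀ z ∈ Z, FixN F (thompsonSubgroupAOf S) z) : ∀ z ∈ Z, FixAll F z :=
  xg_all WJ (DGl.{u} p) (dgl_norm p) (dgl_quot p) (dgl_cons p) (wj_pos p) (wj_iso p)
    (Nat.card S) (dnn F) Ω S hS F hF rfl rfl Z hZS hD hZ

end Cfsg.Agent.Helper86
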