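import Cfsg.Agent.Helper86.FixCount

/-!
# Finite sets with an action of a finite group are determined by their fixed point numbers (helper86)

Burnside's theorem on the table of marks, in the form: two finite `N`-sets with the same number of fixed points
for every subgroup of `N` are isomorphic as `N`-sets. Mathlib-only.
-/

set_option autoImplicit false

namespace Cfsg.Agent.Helper86

open MulAction

section Marks

variable {N : Type*} [Group N] [Finite N] {X : Type*} {Y : Type*} [MulAction N X] [MulAction N Y]
  [Finite X] [Finite Y]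

omit [Finite N] [Finite X] [Finite Y] in
theorem mem_fix_iff' (D : Subgroup N) (x : X) : x ∈ fixedPoints D X ↔ ∀ d ∈ D, d • x = x :=
  ⟨fun h d hd => h ⟨d, hd⟩, fun h d => h d.1 d.2⟩

omit [Finite N] [Finite X] [Finite Y] in
theorem fix_bot_eq_univ : fixedPoints (⊥ : Subgroup N) X = Set.univ := by
  ext a
  simp only [Set.mem_univ, iff_true]
  rw [mem_fix_iff']
  intro d hd
  rw [Subgroup.mem_bot] at hd
  rw [hd, one_smul]

omit [Finite N] [Finite X] [Finite Y] in
theorem smul_mem_orbit_iff' (x a : X) (g : N) : g • a ∈ orbit N x ↔ a ∈ orbit N x := by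
  constructor
  · rintro ⟨h, hh⟩
    refine ⟨g⁻¹ * h, ?_⟩
    show (g⁻¹ * h) • x = a
    rw [mul_smul]
    have hh' : h • x = g • a := hh
    rw [hh', inv_smul_smul]
  · rintro ⟨h, hh⟩
    refine ⟨g * h, ?_⟩
    show (g * h) • x = g • a
    have hh' : h • x = a := hh
    rw [mul_smul, hh']

omit [Finite N] [Finite X] [Finite Y] in
/-- The orbit map between two orbits whose base points have the same stabilizer. -/
theorem exists_orbit_map (x : X) (y : Y) (hst : stabilizer N x = stabilizer N y) :
    ∃ F : X → Y, (∀ g : N, F (g • x) = g • y) := by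
  classical
  refine ⟨fun a => if h : a ∈ orbit N x then (Classical.choose h) • y else y, ?_⟩
  intro g
  have hmem : g • x ∈ orbit N x := ⟨g, rfl⟩
  show (if h : g • x ∈ orbit N x then (Classical.choose h) • y else y) = g • y
  rw [dif_pos hmem]
  have h1 : (Classical.choose hmem) • x = g • x := Classical.choose_spec hmem
  have h2 : g⁻¹ * Classical.choose hmem ∈ stabilizer N x := by
    rw [mem_stabilizer_iff, mul_smul, h1, inv_smul_smul]
  rw [hst, mem_stabilizer_iff, mul_smul] at h2
  calc (Classical.choose hmem) • y = g • (g⁻¹ • (Classical.choose hmem) • y) := (smul_inv_smul g _).symm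
    _ = g • y := by rw [h2]

theorem marks_aux [Nonempty Y] : ∀ (n : ℕ) (A : Set X) (B : Set Y), A.ncard = n →
    (∀ g : N, ∀ a ∈ A, g • a ∈ A) → (∀ g : N, ∀ b ∈ B, g • b ∈ B) →
    (∀ D : Subgroup N, (A ∩ fixedPoints D X).ncard = (B ∩ fixedPoints D Y).ncard) →
    ∃ f : X → Y, Set.MapsTo f A B ∧ Set.InjOn f A ∧ Set.SurjOn f A B ∧
      ∀ (g : N), ∀ a ∈ A, f (g • a) = g • f a := by
  classical
  intro n
  induction n using Nat.strong_induction_on with
  | _ n ih =>
    intro A B hn hA hB hcount
    by_cases hAe : A = ∅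
    · have hBe : B = ∅ := by
        have h1 := hcount ⊥
        rw [fix_bot_eq_univ, fix_bot_eq_univ, Set.inter_univ, Set.inter_univ, hAe, Set.ncard_empty] at h1
        exact (Set.ncard_eq_zero (Set.toFinite B)).1 h1.symm
      obtain ⟨y0⟩ := ‹Nonempty Y›
      refine ⟨fun _ => y0, ?_, ?_, ?_, ?_⟩
      · intro a ha; rw [hAe] at ha; exact absurd ha (Set.notMem_empty a)
      · intro a ha; rw [hAe] at ha; exact absurd ha (Set.notMem_empty a)
      · intro b hb; rw [hBe] at hb; exact absurd hb (Set.notMem_empty b)
      · intro g a ha; rw [hAe] at ha; exact absurd ha (Set.notMem_empty a)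
    · obtain ⟨a0, ha0⟩ := Set.nonempty_iff_ne_empty.2 hAe
      -- a subgroup of largest order with a fixed point in `A`
      have hfin : {K : Subgroup N | ∃ a ∈ A, a ∈ fixedPoints K X}.Finite := Set.toFinite _
      have hne : {K : Subgroup N | ∃ a ∈ A, a ∈ fixedPoints K X}.Nonempty := by
        refine ⟨⊥, a0, ha0, ?_⟩
        rw [fix_bot_eq_univ]
        exact Set.mem_univ _
      obtain ⟨K, ⟨x, hxA, hxK⟩, hKmax⟩ := Set.exists_max_image _ (fun K : Subgroup N => Nat.card K) hfin hne
      have hpos : 0 < (A ∩ fixedPoints K X).ncard :=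
        (Set.ncard_pos (Set.toFinite _)).2 ⟨x, hxA, hxK⟩
      rw [hcount K] at hpos
      obtain ⟨y, hyB, hyK⟩ := (Set.ncard_pos (Set.toFinite _)).1 hpos
      have hstx : stabilizer N x = K := by
        symm
        apply Subgroup.eq_of_le_of_card_ge
        · intro d hd
          rw [mem_stabilizer_iff]
          exact (mem_fix_iff' K x).1 hxK d hd
        · apply hKmax
          refine ⟨x, hxA, ?_⟩
          rw [mem_fix_iff']
          intro d hd
          exact mem_stabilizer_iff.1 hd
      have hsty : stabilizer N y = K := by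
        symm
        apply Subgroup.eq_of_le_of_card_ge
        · intro d hd
          rw [mem_stabilizer_iff]
          exact (mem_fix_iff' K y).1 hyK d hd
        · apply hKmax
          have h1 : 0 < (B ∩ fixedPoints (stabilizer N y) Y).ncard := by
            refine (Set.ncard_pos (Set.toFinite _)).2 ⟨y, hyB, ?_⟩
            rw [mem_fix_iff']
            intro d hd
            exact mem_stabilizer_iff.1 hd
          rw [← hcount] at h1
          obtain ⟨a, haA, ha⟩ := (Set.ncard_pos (Set.toFinite _)).1 h1
          exact ⟨a, haA, ha⟩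
      obtain ⟨F, hF⟩ := exists_orbit_map (N := N) x y (hstx.trans hsty.symm)
      have hOxA : orbit N x ⊆ A := by
        rintro _ ⟨g, rfl⟩
        exact hA g x hxA
      have hOyB : orbit N y ⊆ B := by
        rintro _ ⟨g, rfl⟩
        exact hB g y hyB
      have hFmaps : ∀ a ∈ orbit N x, F a ∈ orbit N y := by
        rintro _ ⟨g, rfl⟩
        show F (g • x) ∈ orbit N y
        rw [hF]
        exact ⟨g, rfl⟩
      have hFinj : ∀ a ∈ orbit N x, ∀ a' ∈ orbit N x, F a = F a' → a = a' := by
        rintro _ ⟨g, rfl⟩ _ ⟨g', rfl⟩ h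
        show g • x = g' • x
        have h' : g • y = g' • y := by
          have := h
          rw [show (fun m : N => m • x) g = g • x from rfl, show (fun m : N => m • x) g' = g' • x from rfl,
            hF, hF] at this
          exact this
        have h2 : g'⁻¹ * g ∈ stabilizer N y := by
          rw [mem_stabilizer_iff, mul_smul, h', inv_smul_smul]
        rw [hsty, ← hstx, mem_stabilizer_iff, mul_smul] at h2
        calc g • x = g' • (g'⁻¹ • g • x) := (smul_inv_smul g' _).symm
          _ = g' • x := by rw [h2]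
      have hFeq : ∀ (g : N), ∀ a ∈ orbit N x, F (g • a) = g • F a := by
        rintro g _ ⟨h, rfl⟩
        show F (g • h • x) = g • F (h • x)
        rw [← mul_smul, hF, hF, mul_smul]
      -- the complements
      have hA' : ∀ g : N, ∀ a ∈ A \ orbit N x, g • a ∈ A \ orbit N x := by
        rintro g a ⟨ha, hna⟩
        exact ⟨hA g a ha, fun h => hna ((smul_mem_orbit_iff' x a g).1 h)⟩
      have hB' : ∀ g : N, ∀ b ∈ B \ orbit N y, g • b ∈ B \ orbit N y := by
        rintro g b ⟨hb, hnb⟩
        exact ⟨hB g b hb, fun h => hnb ((smul_mem_orbit_iff' y b g).1 h)⟩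
      have hlt : (A \ orbit N x).ncard < n := by
        rw [← hn]
        apply Set.ncard_lt_ncard _ (Set.toFinite A)
        refine ⟨Set.sdiff_subset, fun h => ?_⟩
        exact (h hxA).2 (mem_orbit_self x)
      have hsplitA : ∀ D : Subgroup N, (A ∩ fixedPoints D X).ncard =
          ((A \ orbit N x) ∩ fixedPoints D X).ncard + (orbit N x ∩ fixedPoints D X).ncard := by
        intro D
        rw [← Set.ncard_union_eq _ (Set.toFinite _) (Set.toFinite _)]
        · congr 1
          ext a
          constructor
          · rintro ⟨ha, hf⟩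
            by_cases ho : a ∈ orbit N x
            · exact Or.inr ⟨ho, hf⟩
            · exact Or.inl ⟨⟨ha, ho⟩, hf⟩
          · rintro (⟨⟨ha, -⟩, hf⟩ | ⟨ho, hf⟩)
            · exact ⟨ha, hf⟩
            · exact ⟨hOxA ho, hf⟩
        · rw [Set.disjoint_left]
          rintro a ⟨⟨-, hna⟩, -⟩ ⟨ho, -⟩
          exact hna ho
      have hsplitB : ∀ D : Subgroup N, (B ∩ fixedPoints D Y).ncard =
          ((B \ orbit N y) ∩ fixedPoints D Y).ncard + (orbit N y ∩ fixedPoints D Y).ncard := by
        intro D
        rw [← Set.ncard_union_eq _ (Set.toFinite _) (Set.toFinite _)]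
        · congr 1
          ext a
          constructor
          · rintro ⟨ha, hf⟩
            by_cases ho : a ∈ orbit N y
            · exact Or.inr ⟨ho, hf⟩
            · exact Or.inl ⟨⟨ha, ho⟩, hf⟩
          · rintro (⟨⟨ha, -⟩, hf⟩ | ⟨ho, hf⟩)
            · exact ⟨ha, hf⟩
            · exact ⟨hOyB ho, hf⟩
        · rw [Set.disjoint_left]
          rintro a ⟨⟨-, hna⟩, -⟩ ⟨ho, -⟩
          exact hna ho
      have horb : ∀ D : Subgroup N, (orbit N y ∩ fixedPoints D Y).ncard =
          (orbit N x ∩ fixedPoints D X).ncard := by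
        intro D
        have himg : orbit N y ∩ fixedPoints D Y = F '' (orbit N x ∩ fixedPoints D X) := by
          ext b
          constructor
          · rintro ⟨⟨g, rfl⟩, hf⟩
            refine ⟨g • x, ⟨⟨g, rfl⟩, ?_⟩, hF g⟩
            rw [mem_fix_iff'] at hf ⊢
            intro d hd
            apply hFinj _ ((smul_mem_orbit_iff' x _ d).2 ⟨g, rfl⟩) _ ⟨g, rfl⟩
            rw [hFeq d _ ⟨g, rfl⟩, hF]
            exact hf d hd
          · rintro ⟨a, ⟨ho, hf⟩, rfl⟩
            refine ⟨hFmaps a ho, ?_⟩
            rw [mem_fix_iff'] at hf ⊢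
            intro d hd
            rw [← hFeq d a ho, hf d hd]
        rw [himg]
        apply Set.InjOn.ncard_image
        intro a ha a' ha' h
        exact hFinj a ha.1 a' ha'.1 h
      have hcount' : ∀ D : Subgroup N, ((A \ orbit N x) ∩ fixedPoints D X).ncard =
          ((B \ orbit N y) ∩ fixedPoints D Y).ncard := by
        intro D
        have h1 := hcount D
        rw [hsplitA D, hsplitB D, horb D] at h1
        exact Nat.add_right_cancel h1
      obtain ⟨f', hf1, hf2, hf3, hf4⟩ := ih _ hlt (A \ orbit N x) (B \ orbit N y) rfl hA' hB' hcount'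
      refine ⟨fun a => if a ∈ orbit N x then F a else f' a, ?_, ?_, ?_, ?_⟩
      · intro a ha
        show (if a ∈ orbit N x then F a else f' a) ∈ B
        by_cases ho : a ∈ orbit N x
        · rw [if_pos ho]
          exact hOyB (hFmaps a ho)
        · rw [if_neg ho]
          exact (hf1 ⟨ha, ho⟩).1
      · intro a ha a' ha' h
        have h' : (if a ∈ orbit N x then F a else f' a) = (if a' ∈ orbit N x then F a' else f' a') := h
        by_cases ho : a ∈ orbit N x
        · by_cases ho' : a' ∈ orbit N x
          · rw [if_pos ho, if_pos ho'] at h'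
            exact hFinj a ho a' ho' h'
          · rw [if_pos ho, if_neg ho'] at h'
            exact absurd (h' ▸ hFmaps a ho) (hf1 ⟨ha', ho'⟩).2
        · by_cases ho' : a' ∈ orbit N x
          · rw [if_neg ho, if_pos ho'] at h'
            exact absurd (h' ▸ hFmaps a' ho') (hf1 ⟨ha, ho⟩).2
          · rw [if_neg ho, if_neg ho'] at h'
            exact hf2 ⟨ha, ho⟩ ⟨ha', ho'⟩ h'
      · intro b hb
        by_cases ho : b ∈ orbit N y
        · obtain ⟨g, rfl⟩ := ho
          refine ⟨g • x, hOxA ⟨g, rfl⟩, ?_⟩
          show (if g • x ∈ orbit N x then F (g • x) else f' (g • x)) = g • y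
          rw [if_pos ⟨g, rfl⟩, hF]
        · obtain ⟨a, ha, hab⟩ := hf3 ⟨hb, ho⟩
          refine ⟨a, ha.1, ?_⟩
          show (if a ∈ orbit N x then F a else f' a) = b
          rw [if_neg ha.2, hab]
      · intro g a ha
        show (if g • a ∈ orbit N x then F (g • a) else f' (g • a)) =
          g • (if a ∈ orbit N x then F a else f' a)
        by_cases ho : a ∈ orbit N x
        · rw [if_pos ho, if_pos ((smul_mem_orbit_iff' x a g).2 ho)]
          exact hFeq g a ho
        · rw [if_neg ho, if_neg (fun h => ho ((smul_mem_orbit_iff' x a g).1 h))]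
          exact hf4 g a ⟨ha, ho⟩

/-- **Burnside.** Two finite `N`-sets with the same fixed point numbers are isomorphic. -/
theorem exists_equiv_of_card_fixedPoints
    (h : ∀ D : Subgroup N, Nat.card (fixedPoints D X) = Nat.card (fixedPoints D Y)) :
    ∃ e : X ≃ Y, ∀ (n : N) (x : X), e (n • x) = n • e x := by
  have hbot : Nat.card X = Nat.card Y := by
    have h1 := h ⊥
    rw [fix_bot_eq_univ, fix_bot_eq_univ, Nat.card_congr (Equiv.Set.univ X),
      Nat.card_congr (Equiv.Set.univ Y)] at h1
    exact h1
  by_cases hX : IsEmpty X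
  · have hY : IsEmpty Y := by
      have h0 : Nat.card X = 0 := Nat.card_of_isEmpty
      rw [hbot] at h0
      exact (Nat.card_eq_zero.1 h0).resolve_right (not_infinite_iff_finite.2 inferInstance)
    exact ⟨Equiv.equivOfIsEmpty X Y, fun n x => (hX.false x).elim⟩
  · have hXne : Nonempty X := not_isEmpty_iff.1 hX
    have hYne : Nonempty Y := by
      have h0 : 0 < Nat.card X := Nat.card_pos
      rw [hbot] at h0
      exact (Nat.card_pos_iff.1 h0).1
    obtain ⟨f, -, hf2, hf3, hf4⟩ := marks_aux (N := N) (X := X) (Y := Y) _ Set.univ Set.univ rfl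
      (fun _ _ _ => Set.mem_univ _) (fun _ _ _ => Set.mem_univ _)
      (fun D => by
        rw [Set.univ_inter, Set.univ_inter, ← Nat.card_coe_set_eq, ← Nat.card_coe_set_eq]
        exact h D)
    have hbij : Function.Bijective f := by
      constructor
      · intro a a' haa
        exact hf2 (Set.mem_univ a) (Set.mem_univ a') haa
      · intro b
        obtain ⟨a, -, hab⟩ := hf3 (Set.mem_univ b)
        exact ⟨a, hab⟩
    exact ⟨Equiv.ofBijective f hbij, fun n x => hf4 n x (Set.mem_univ x)⟩

end Marks

end Cfsg.Agent.Helper86
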