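import Cfsg.Agent.Helper92.McLAut

/-!
# Fast packed arithmetic for words of the automorphism group of the Leech lattice (seat helper86)

The action of a packed matrix (in the sense of `Cfsg.Agent.Helper92.Mat.IsPk`) on a packed vector,
written with the raw operations on natural numbers that the kernel evaluates quickly, and without
recursion on lists.  `mcMv24_spec` relates it to the action of the group element.
-/

set_option autoImplicit false

namespace Cfsg.Agent.Helper86

open Cfsg MulAction Cfsg.Agent.Helper92 Cfsg.Agent.Helper92.Mat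
open Cfsg.Agent.Helper7 (idx pt)

/-- `f x`, with `x` evaluated first. -/
def mcLet (x : ℕ) (f : ℕ → ℕ) : ℕ := Nat.rec (f (nat_lit 0)) (fun k _ => f (Nat.succ k)) x

theorem mcLet_eq (x : ℕ) (f : ℕ → ℕ) : mcLet x f = f x := by
  cases x <;> rfl

/-- digit extraction: `X` shifted by `k` bits, modulo `2^32` -/
def mcD (X k : ℕ) : ℕ := Nat.mod (Nat.shiftRight X k) (nat_lit 4294967296)

/-- dot product of the digits of `X` with a list of columns -/
def mcDot : List ℕ → ℕ → ℕ
  | [], _ => 0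
  | C :: Cs, X => X % 4294967296 * C + mcDot Cs (X / 4294967296)

/-- sum of the first `n` digits of `X` -/
def mcDsum : ℕ → ℕ → ℕ
  | 0, _ => 0
  | n + 1, X => X % 4294967296 + mcDsum n (X / 4294967296)

/-- `mcDot` with digit extraction by shifts -/
def mcDotS : List ℕ → ℕ → ℕ → ℕ
  | [], _, _ => 0
  | C :: Cs, X, k => mcD X k * C + mcDotS Cs X (k + 32)

/-- `mcDsum` with digit extraction by shifts -/
def mcDsumS : ℕ → ℕ → ℕ → ℕ
  | 0, _, _ => 0
  | n + 1, X, k => mcD X k + mcDsumS n X (k + 32)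

theorem mcD_eq (X k : ℕ) : mcD X k = (X >>> k) % 4294967296 := rfl

theorem mc_shift (X k : ℕ) : X >>> (k + 32) = (X >>> k) / 4294967296 := by
  rw [Nat.shiftRight_add, Nat.shiftRight_eq_div_pow (X >>> k) 32]

theorem mcDotS_eq : ∀ (Cs : List ℕ) (X k : ℕ), mcDotS Cs X k = mcDot Cs (X >>> k)
  | [], _, _ => rfl
  | C :: Cs, X, k => by rw [mcDotS, mcDot, mcDotS_eq Cs X (k + 32), mc_shift, mcD_eq]

theorem mcDsumS_eq : ∀ (n X k : ℕ), mcDsumS n X k = mcDsum n (X >>> k)
  | 0, _, _ => rfl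
  | n + 1, X, k => by rw [mcDsumS, mcDsum, mcDsumS_eq n X (k + 32), mc_shift, mcD_eq]

/-- the fold of `Cfsg.Agent.Helper92.Mat.nfold` in closed form -/
theorem mc_nfold : ∀ (Cs : List ℕ) (X L s r n : ℕ),
    nfold Cs X L s r n = ((L + mcDot Cs X : ℕ) : ℤ) + ((8192 * (n + Cs.length) : ℕ) : ℤ) * onesP
      - ((8 * (s + mcDsum Cs.length X) : ℕ) : ℤ) * onesP - ((1024 * (r + Cs.sum) : ℕ) : ℤ)
  | [], X, L, s, r, n => by simp [nfold, mcDot, mcDsum]
  | C :: Cs, X, L, s, r, n => by
    rw [nfold, mc_nfold Cs]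
    simp only [mcDot, mcDsum, List.length_cons, List.sum_cons]
    push_cast
    ring

theorem mc_nfold24 (Cs : List ℕ) (hlen : Cs.length = 24) (X : ℕ) :
    nfold Cs X 0 0 0 0 = ((mcDot Cs X : ℕ) : ℤ) + ((8192 * 24 : ℕ) : ℤ) * onesP
      - ((8 * mcDsum 24 X : ℕ) : ℤ) * onesP - ((1024 * Cs.sum : ℕ) : ℤ) := by
  rw [mc_nfold, hlen]
  simp only [Nat.zero_add]

/-- the constant `∑ 2^(32 k)`, `k < 24` -/
def mcOnes : ℕ := 361473786798814014053855441165240015001531232175935954627345314401526997584827217253787821643621264862387672895453578350512580572307900284359275260800602007658466925769885264178773050617978790645311071965617020781270663169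

theorem mc_onesP : onesP = ((361473786798814014053855441165240015001531232175935954627345314401526997584827217253787821643621264862387672895453578350512580572307900284359275260800602007658466925769885264178773050617978790645311071965617020781270663169 : ℕ) : ℤ) := by decide +kernel

theorem mc_biasP : biasP = ((370149157681985550391147971753205775361567981748158417538401601947163645526863070467878729363068175219084977044944464230924882506043289891183897867059816455842270131988362510519063603832810281620798537692791829280021159085056 : ℕ) : ℤ) := by decide +kernel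

/-- the final step of the fast product -/
def mcFin (L s r : ℕ) : ℕ :=
  Nat.div (Nat.sub (Nat.add L (nat_lit 74029831536397110078229594350641155072313596349631683507680320389432729105372614093575745872613635043816995408988892846184976501208657978236779573411963291168454026397672502103812720766562056324159707538558365856004231817011200))
    (Nat.add (Nat.mul (Nat.mul (nat_lit 8) s) (nat_lit 361473786798814014053855441165240015001531232175935954627345314401526997584827217253787821643621264862387672895453578350512580572307900284359275260800602007658466925769885264178773050617978790645311071965617020781270663169)) (Nat.mul (nat_lit 1024) r))) (nat_lit 8)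

theorem mcFin_spec (L s r : ℕ)
    (h : 0 ≤ ((L : ℤ) + ((8192 * 24 : ℕ) : ℤ) * onesP - ((8 * s : ℕ) : ℤ) * onesP
      - ((1024 * r : ℕ) : ℤ)) / 8 + biasP) :
    ((mcFin L s r : ℕ) : ℤ) = ((L : ℤ) + ((8192 * 24 : ℕ) : ℤ) * onesP - ((8 * s : ℕ) : ℤ) * onesP
      - ((1024 * r : ℕ) : ℤ)) / 8 + biasP := by
  rw [mc_onesP, mc_biasP] at h ⊢
  have e : mcFin L s r = (L + 74029831536397110078229594350641155072313596349631683507680320389432729105372614093575745872613635043816995408988892846184976501208657978236779573411963291168454026397672502103812720766562056324159707538558365856004231817011200 - (8 * s * 361473786798814014053855441165240015001531232175935954627345314401526997584827217253787821643621264862387672895453578350512580572307900284359275260800602007658466925769885264178773050617978790645311071965617020781270663169 + 1024 * r)) / 8 := rfl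
  rw [e]
  omega

/-- the biased packed code of a lattice vector -/
noncomputable def mcCode (x : leechLattice) : ℕ := (pkV (x : GolayPt → ℤ) + biasP).toNat

theorem mcCode_nonneg (x : leechLattice) (hn : sqNorm (x : GolayPt → ℤ) ≤ 1024) :
    0 ≤ pkV (x : GolayPt → ℤ) + biasP := by
  have e1 : pkV (x : GolayPt → ℤ) + biasP = encL ((digs (x : GolayPt → ℤ)).map (· + 1024)) := by
    rw [encL_map_add, length_digs]
    rfl
  rw [e1]
  apply encL_nonneg
  intro d hd
  rw [List.mem_map] at hd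
  obtain ⟨d', hd', rfl⟩ := hd
  obtain ⟨p, rfl⟩ := mem_digs hd'
  have := bound_of_sqNorm x hn p
  omega

theorem mcCode_cast (x : leechLattice) (hn : sqNorm (x : GolayPt → ℤ) ≤ 1024) :
    ((mcCode x : ℕ) : ℤ) = pkV (x : GolayPt → ℤ) + biasP :=
  Int.toNat_of_nonneg (mcCode_nonneg x hn)

theorem mcCode_inj (x y : leechLattice) (hx : sqNorm (x : GolayPt → ℤ) ≤ 1024)
    (hy : sqNorm (y : GolayPt → ℤ) ≤ 1024) (h : mcCode x = mcCode y) : x = y := by
  apply pkV_inj x y hx hy
  have h1 := mcCode_cast x hx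
  have h2 := mcCode_cast y hy
  rw [h] at h1
  linarith

/-- the linear combination of the columns -/
def mcL24 (c0 c1 c2 c3 c4 c5 c6 c7 c8 c9 c10 c11 c12 c13 c14 c15 c16 c17 c18 c19 c20 c21 c22 c23 X : ℕ) : ℕ :=
  (Nat.add (Nat.mul (mcD X (nat_lit 0)) c0) (Nat.add (Nat.mul (mcD X (nat_lit 32)) c1) (Nat.add (Nat.mul (mcD X (nat_lit 64)) c2) (Nat.add (Nat.mul (mcD X (nat_lit 96)) c3) (Nat.add (Nat.mul (mcD X (nat_lit 128)) c4) (Nat.add (Nat.mul (mcD X (nat_lit 160)) c5) (Nat.add (Nat.mul (mcD X (nat_lit 192)) c6) (Nat.add (Nat.mul (mcD X (nat_lit 224)) c7) (Nat.add (Nat.mul (mcD X (nat_lit 256)) c8) (Nat.add (Nat.mul (mcD X (nat_lit 288)) c9) (Nat.add (Nat.mul (mcD X (nat_lit 320)) c10) (Nat.add (Nat.mul (mcD X (nat_lit 352)) c11) (Nat.add (Nat.mul (mcD X (nat_lit 384)) c12) (Nat.add (Nat.mul (mcD X (nat_lit 416)) c13) (Nat.add (Nat.mul (mcD X (nat_lit 448)) c14) (Nat.add (Nat.mul (mcD X (nat_lit 480)) c15) (Nat.add (Nat.mul (mcD X (nat_lit 512)) c16) (Nat.add (Nat.mul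 (mcD X (nat_lit 544)) c17) (Nat.add (Nat.mul (mcD X (nat_lit 576)) c18) (Nat.add (Nat.mul (mcD X (nat_lit 608)) c19) (Nat.add (Nat.mul (mcD X (nat_lit 640)) c20) (Nat.add (Nat.mul (mcD X (nat_lit 672)) c21) (Nat.add (Nat.mul (mcD X (nat_lit 704)) c22) (Nat.add (Nat.mul (mcD X (nat_lit 736)) c23) (nat_lit 0)))))))))))))))))))))))))

/-- the sum of the digits -/
def mcS24 (X : ℕ) : ℕ :=
  (Nat.add (mcD X (nat_lit 0)) (Nat.add (mcD X (nat_lit 32)) (Nat.add (mcD X (nat_lit 64)) (Nat.add (mcD X (nat_lit 96)) (Nat.add (mcD X (nat_lit 128)) (Nat.add (mcD X (nat_lit 160)) (Nat.add (mcD X (nat_lit 192)) (Nat.add (mcD X (nat_lit 224)) (Nat.add (mcD X (nat_lit 256)) (Nat.add (mcD X (nat_lit 288)) (Nat.add (mcD X (nat_lit 320)) (Nat.add (mcD X (nat_lit 352)) (Nat.add (mcD X (nat_lit 384)) (Nat.add (mcD X (nat_lit 416)) (Nat.add (mcD X (nat_lit 448)) (Nat.add (mcD X (nat_lit 480)) (Nat.add (mcD X (nat_lit 512)) (Nat.add (mcD X (nat_lit 544)) (Nat.add (mcD X (nat_lit 576)) (Nat.add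 (mcD X (nat_lit 608)) (Nat.add (mcD X (nat_lit 640)) (Nat.add (mcD X (nat_lit 672)) (Nat.add (mcD X (nat_lit 704)) (Nat.add (mcD X (nat_lit 736)) (nat_lit 0)))))))))))))))))))))))))

/-- the image of a biased packed vector under a matrix with biased packed columns `c0 … c23`
whose sum is `r` -/
def mcMv24 (c0 c1 c2 c3 c4 c5 c6 c7 c8 c9 c10 c11 c12 c13 c14 c15 c16 c17 c18 c19 c20 c21 c22 c23 r X : ℕ) : ℕ :=
  mcLet X fun X => mcFin (mcL24 c0 c1 c2 c3 c4 c5 c6 c7 c8 c9 c10 c11 c12 c13 c14 c15 c16 c17 c18 c19 c20 c21 c22 c23 X) (mcS24 X) r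

theorem mcL24_eq (c0 c1 c2 c3 c4 c5 c6 c7 c8 c9 c10 c11 c12 c13 c14 c15 c16 c17 c18 c19 c20 c21 c22 c23 X : ℕ) :
    mcL24 c0 c1 c2 c3 c4 c5 c6 c7 c8 c9 c10 c11 c12 c13 c14 c15 c16 c17 c18 c19 c20 c21 c22 c23 X = mcDot [c0, c1, c2, c3, c4, c5, c6, c7, c8, c9, c10, c11, c12, c13, c14, c15, c16, c17, c18, c19, c20, c21, c22, c23] X := by
  have h := mcDotS_eq [c0, c1, c2, c3, c4, c5, c6, c7, c8, c9, c10, c11, c12, c13, c14, c15, c16, c17, c18, c19, c20, c21, c22, c23] X 0
  rw [Nat.shiftRight_zero] at h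
  rw [← h]
  rfl

theorem mcS24_eq (X : ℕ) : mcS24 X = mcDsum 24 X := by
  have h := mcDsumS_eq 24 X 0
  rw [Nat.shiftRight_zero] at h
  rw [← h]
  rfl

/-- **The fast product computes the action.** -/
theorem mcMv24_spec {g : Co0} {c0 c1 c2 c3 c4 c5 c6 c7 c8 c9 c10 c11 c12 c13 c14 c15 c16 c17 c18 c19 c20 c21 c22 c23 r : ℕ}
    (h : IsPk g [c0, c1, c2, c3, c4, c5, c6, c7, c8, c9, c10, c11, c12, c13, c14, c15, c16, c17, c18, c19, c20, c21, c22, c23])
    (hr : r = List.sum [c0, c1, c2, c3, c4, c5, c6, c7, c8, c9, c10, c11, c12, c13, c14, c15, c16, c17, c18, c19, c20, c21, c22, c23])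
    (x : leechLattice) (hn : sqNorm (x : GolayPt → ℤ) ≤ 1024) :
    mcMv24 c0 c1 c2 c3 c4 c5 c6 c7 c8 c9 c10 c11 c12 c13 c14 c15 c16 c17 c18 c19 c20 c21 c22 c23 r (mcCode x) = mcCode (g • x) := by
  have hgn : sqNorm ((g • x : leechLattice) : GolayPt → ℤ) ≤ 1024 := by
    rw [co0_sqNorm]
    exact hn
  have h1 := h.apply x hn
  have h2 := mcCode_nonneg _ hgn
  have h3 : Mat.pmv [c0, c1, c2, c3, c4, c5, c6, c7, c8, c9, c10, c11, c12, c13, c14, c15, c16, c17, c18, c19, c20, c21, c22, c23] (pkV (x : GolayPt → ℤ)) =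
      (((mcDot [c0, c1, c2, c3, c4, c5, c6, c7, c8, c9, c10, c11, c12, c13, c14, c15, c16, c17, c18, c19, c20, c21, c22, c23] (mcCode x) : ℕ) : ℤ) + ((8192 * 24 : ℕ) : ℤ) * onesP
        - ((8 * mcDsum 24 (mcCode x) : ℕ) : ℤ) * onesP
        - ((1024 * (List.sum [c0, c1, c2, c3, c4, c5, c6, c7, c8, c9, c10, c11, c12, c13, c14, c15, c16, c17, c18, c19, c20, c21, c22, c23]) : ℕ) : ℤ)) / 8 := by
    rw [Mat.pmv, mc_nfold24 _ rfl]
    rfl
  rw [h1, h3] at h2
  have key : ((mcMv24 c0 c1 c2 c3 c4 c5 c6 c7 c8 c9 c10 c11 c12 c13 c14 c15 c16 c17 c18 c19 c20 c21 c22 c23 r (mcCode x) : ℕ) : ℤ) =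
      pkV ((g • x : leechLattice) : GolayPt → ℤ) + biasP := by
    rw [h1, h3, mcMv24, mcLet_eq, mcL24_eq, mcS24_eq, hr]
    exact mcFin_spec _ _ _ h2
  have h4 : mcCode (g • x) = (((mcMv24 c0 c1 c2 c3 c4 c5 c6 c7 c8 c9 c10 c11 c12 c13 c14 c15 c16 c17 c18 c19 c20 c21 c22 c23 r (mcCode x) : ℕ) : ℤ)).toNat := by
    rw [key]
    rfl
  rw [h4, Int.toNat_natCast]

/-- the code of the vector `8 e_i` -/
def mcB8 (i : ℕ) : ℕ :=
  Nat.add (nat_lit 370149157681985550391147971753205775361567981748158417538401601947163645526863070467878729363068175219084977044944464230924882506043289891183897867059816455842270131988362510519063603832810281620798537692791829280021159085056) (Nat.shiftLeft (nat_lit 8) (Nat.mul (nat_lit 32) i))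

theorem mcB8_spec (i : GolayPt) : mcCode (P i i) = mcB8 (idx i) := by
  have h : ∀ k < 24, (pkL (e8L k) + biasP).toNat = mcB8 k := by decide +kernel
  rw [mcCode, P_vec, pkV_vecL]
  exact h _ (Cfsg.Agent.Helper7.idx_lt i)

/-- two elements whose fast actions agree on the vectors `8 e_i` are equal -/
theorem mc_eq_of_basis {p q : Co0} (f g : ℕ → ℕ)
    (hf : ∀ x : leechLattice, sqNorm (x : GolayPt → ℤ) ≤ 1024 → f (mcCode x) = mcCode (p • x))
    (hg : ∀ x : leechLattice, sqNorm (x : GolayPt → ℤ) ≤ 1024 → g (mcCode x) = mcCode (q • x))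
    (h : allTo 24 (fun i => Nat.beq (f (mcB8 i)) (g (mcB8 i))) = true) : p = q := by
  apply co0_eq_of_F_eq
  intro i
  have h1 := (allTo_iff _ _).1 h (idx i) (Cfsg.Agent.Helper7.idx_lt i)
  have h2 : f (mcB8 (idx i)) = g (mcB8 (idx i)) := Nat.eq_of_beq_eq_true h1
  rw [← mcB8_spec, hf _ (sqNorm_P i), hg _ (sqNorm_P i)] at h2
  exact mcCode_inj _ _ (by rw [co0_sqNorm]; exact sqNorm_P i) (by rw [co0_sqNorm]; exact sqNorm_P i) h2

end Cfsg.Agent.Helper86
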