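import Cfsg.Agent.Helper86.McLFWord

/-!
# The 2-local structure of the McLaughlin group: certificates X0 (seat helper86)

Kernel evaluations of the boolean checks of `Cfsg.Agent.Helper86.McLFWord`.
-/

set_option autoImplicit false
set_option maxRecDepth 100000

namespace Cfsg.Agent.Helper86

theorem mc_chkX_0 : mcChkX (25 * 0) 25 = true := by decide +kernel
theorem mc_chkX_1 : mcChkX (25 * 1) 25 = true := by decide +kernel
theorem mc_chkX_2 : mcChkX (25 * 2) 25 = true := by decide +kernel
theorem mc_chkX_3 : mcChkX (25 * 3) 25 = true := by decide +kernel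
theorem mc_chkX_4 : mcChkX (25 * 4) 25 = true := by decide +kernel
theorem mc_chkX_5 : mcChkX (25 * 5) 25 = true := by decide +kernel
theorem mc_chkX_6 : mcChkX (25 * 6) 25 = true := by decide +kernel
theorem mc_chkX_7 : mcChkX (25 * 7) 25 = true := by decide +kernel
theorem mc_chkX_8 : mcChkX (25 * 8) 25 = true := by decide +kernel
theorem mc_chkX_9 : mcChkX (25 * 9) 25 = true := by decide +kernel
theorem mc_chkX_10 : mcChkX (25 * 10) 25 = true := by decide +kernel
theorem mc_chkX_11 : mcChkX (25 * 11) 25 = true := by decide +kernel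
theorem mc_chkX_12 : mcChkX (25 * 12) 25 = true := by decide +kernel
theorem mc_chkX_13 : mcChkX (25 * 13) 25 = true := by decide +kernel
theorem mc_chkX_14 : mcChkX (25 * 14) 25 = true := by decide +kernel
theorem mc_chkX_15 : mcChkX (25 * 15) 25 = true := by decide +kernel
theorem mc_chkX_16 : mcChkX (25 * 16) 25 = true := by decide +kernel
theorem mc_chkX_17 : mcChkX (25 * 17) 25 = true := by decide +kernel
theorem mc_chkX_18 : mcChkX (25 * 18) 25 = true := by decide +kernel
theorem mc_chkX_19 : mcChkX (25 * 19) 25 = true := by decide +kernel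
theorem mc_chkX_20 : mcChkX (25 * 20) 25 = true := by decide +kernel
theorem mc_chkX_21 : mcChkX (25 * 21) 25 = true := by decide +kernel
theorem mc_chkX_22 : mcChkX (25 * 22) 25 = true := by decide +kernel
theorem mc_chkX_23 : mcChkX (25 * 23) 25 = true := by decide +kernel
theorem mc_chkX_24 : mcChkX (25 * 24) 25 = true := by decide +kernel
theorem mc_chkX_25 : mcChkX (25 * 25) 25 = true := by decide +kernel
theorem mc_chkX_26 : mcChkX (25 * 26) 25 = true := by decide +kernel
theorem mc_chkX_27 : mcChkX (25 * 27) 25 = true := by decide +kernel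
theorem mc_chkX_28 : mcChkX (25 * 28) 25 = true := by decide +kernel
theorem mc_chkX_29 : mcChkX (25 * 29) 25 = true := by decide +kernel
theorem mc_chkX_30 : mcChkX (25 * 30) 25 = true := by decide +kernel
theorem mc_chkX_31 : mcChkX (25 * 31) 25 = true := by decide +kernel
theorem mc_chkX_32 : mcChkX (25 * 32) 25 = true := by decide +kernel
theorem mc_chkX_33 : mcChkX (25 * 33) 25 = true := by decide +kernel
theorem mc_chkX_34 : mcChkX (25 * 34) 25 = true := by decide +kernel
theorem mc_chkX_35 : mcChkX (25 * 35) 25 = true := by decide +kernel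
theorem mc_chkX_36 : mcChkX (25 * 36) 25 = true := by decide +kernel
theorem mc_chkX_37 : mcChkX (25 * 37) 25 = true := by decide +kernel
theorem mc_chkX_38 : mcChkX (25 * 38) 25 = true := by decide +kernel
theorem mc_chkX_39 : mcChkX (25 * 39) 25 = true := by decide +kernel
theorem mc_chkX_40 : mcChkX (25 * 40) 25 = true := by decide +kernel
theorem mc_chkX_41 : mcChkX (25 * 41) 25 = true := by decide +kernel
theorem mc_chkX_42 : mcChkX (25 * 42) 25 = true := by decide +kernel
theorem mc_chkX_43 : mcChkX (25 * 43) 25 = true := by decide +kernel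
theorem mc_chkX_44 : mcChkX (25 * 44) 25 = true := by decide +kernel
theorem mc_chkX_45 : mcChkX (25 * 45) 25 = true := by decide +kernel
theorem mc_chkX_46 : mcChkX (25 * 46) 25 = true := by decide +kernel
theorem mc_chkX_47 : mcChkX (25 * 47) 25 = true := by decide +kernel
theorem mc_chkX_48 : mcChkX (25 * 48) 25 = true := by decide +kernel
theorem mc_chkX_49 : mcChkX (25 * 49) 25 = true := by decide +kernel
theorem mc_chkX_50 : mcChkX (25 * 50) 25 = true := by decide +kernel
theorem mc_chkX_51 : mcChkX (25 * 51) 25 = true := by decide +kernel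
theorem mc_chkX_52 : mcChkX (25 * 52) 25 = true := by decide +kernel
theorem mc_chkX_53 : mcChkX (25 * 53) 25 = true := by decide +kernel
theorem mc_chkX_54 : mcChkX (25 * 54) 25 = true := by decide +kernel
theorem mc_chkX_55 : mcChkX (25 * 55) 25 = true := by decide +kernel
theorem mc_chkX_56 : mcChkX (25 * 56) 25 = true := by decide +kernel
theorem mc_chkX_57 : mcChkX (25 * 57) 25 = true := by decide +kernel
theorem mc_chkX_58 : mcChkX (25 * 58) 25 = true := by decide +kernel
theorem mc_chkX_59 : mcChkX (25 * 59) 25 = true := by decide +kernel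
theorem mc_chkX_60 : mcChkX (25 * 60) 25 = true := by decide +kernel
theorem mc_chkX_61 : mcChkX (25 * 61) 25 = true := by decide +kernel
theorem mc_chkX_62 : mcChkX (25 * 62) 25 = true := by decide +kernel
theorem mc_chkX_63 : mcChkX (25 * 63) 25 = true := by decide +kernel
theorem mc_chkX_64 : mcChkX (25 * 64) 25 = true := by decide +kernel
theorem mc_chkX_65 : mcChkX (25 * 65) 25 = true := by decide +kernel
theorem mc_chkX_66 : mcChkX (25 * 66) 25 = true := by decide +kernel
theorem mc_chkX_67 : mcChkX (25 * 67) 25 = true := by decide +kernel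
theorem mc_chkX_68 : mcChkX (25 * 68) 25 = true := by decide +kernel
theorem mc_chkX_69 : mcChkX (25 * 69) 25 = true := by decide +kernel
theorem mc_chkX_70 : mcChkX (25 * 70) 25 = true := by decide +kernel
theorem mc_chkX_71 : mcChkX (25 * 71) 25 = true := by decide +kernel
theorem mc_chkX_72 : mcChkX (25 * 72) 25 = true := by decide +kernel
theorem mc_chkX_73 : mcChkX (25 * 73) 25 = true := by decide +kernel
theorem mc_chkX_74 : mcChkX (25 * 74) 25 = true := by decide +kernel
theorem mc_chkX_75 : mcChkX (25 * 75) 25 = true := by decide +kernel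
theorem mc_chkX_76 : mcChkX (25 * 76) 25 = true := by decide +kernel
theorem mc_chkX_77 : mcChkX (25 * 77) 25 = true := by decide +kernel
theorem mc_chkX_78 : mcChkX (25 * 78) 25 = true := by decide +kernel
theorem mc_chkX_79 : mcChkX (25 * 79) 25 = true := by decide +kernel
theorem mc_chkX_80 : mcChkX (25 * 80) 25 = true := by decide +kernel
theorem mc_chkX_81 : mcChkX (25 * 81) 25 = true := by decide +kernel
theorem mc_chkX_82 : mcChkX (25 * 82) 25 = true := by decide +kernel
theorem mc_chkX_83 : mcChkX (25 * 83) 25 = true := by decide +kernel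
theorem mc_chkX_84 : mcChkX (25 * 84) 25 = true := by decide +kernel
theorem mc_chkX_85 : mcChkX (25 * 85) 25 = true := by decide +kernel
theorem mc_chkX_86 : mcChkX (25 * 86) 25 = true := by decide +kernel
theorem mc_chkX_87 : mcChkX (25 * 87) 25 = true := by decide +kernel
theorem mc_chkX_88 : mcChkX (25 * 88) 25 = true := by decide +kernel
theorem mc_chkX_89 : mcChkX (25 * 89) 25 = true := by decide +kernel
theorem mc_chkX_90 : mcChkX (25 * 90) 25 = true := by decide +kernel
theorem mc_chkX_91 : mcChkX (25 * 91) 25 = true := by decide +kernel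
theorem mc_chkX_92 : mcChkX (25 * 92) 25 = true := by decide +kernel
theorem mc_chkX_93 : mcChkX (25 * 93) 25 = true := by decide +kernel
theorem mc_chkX_94 : mcChkX (25 * 94) 25 = true := by decide +kernel
theorem mc_chkX_95 : mcChkX (25 * 95) 25 = true := by decide +kernel
theorem mc_chkX_96 : mcChkX (25 * 96) 25 = true := by decide +kernel
theorem mc_chkX_97 : mcChkX (25 * 97) 25 = true := by decide +kernel
theorem mc_chkX_98 : mcChkX (25 * 98) 25 = true := by decide +kernel
theorem mc_chkX_99 : mcChkX (25 * 99) 25 = true := by decide +kernel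

theorem mc_chkX_f0 (c : ℕ) (h1 : 0 ≤ c) (h2 : c < 100) : mcChkX (25 * c) 25 = true := by
  interval_cases c
  · exact mc_chkX_0
  · exact mc_chkX_1
  · exact mc_chkX_2
  · exact mc_chkX_3
  · exact mc_chkX_4
  · exact mc_chkX_5
  · exact mc_chkX_6
  · exact mc_chkX_7
  · exact mc_chkX_8
  · exact mc_chkX_9
  · exact mc_chkX_10
  · exact mc_chkX_11
  · exact mc_chkX_12
  · exact mc_chkX_13
  · exact mc_chkX_14
  · exact mc_chkX_15
  · exact mc_chkX_16
  · exact mc_chkX_17
  · exact mc_chkX_18
  · exact mc_chkX_19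
  · exact mc_chkX_20
  · exact mc_chkX_21
  · exact mc_chkX_22
  · exact mc_chkX_23
  · exact mc_chkX_24
  · exact mc_chkX_25
  · exact mc_chkX_26
  · exact mc_chkX_27
  · exact mc_chkX_28
  · exact mc_chkX_29
  · exact mc_chkX_30
  · exact mc_chkX_31
  · exact mc_chkX_32
  · exact mc_chkX_33
  · exact mc_chkX_34
  · exact mc_chkX_35
  · exact mc_chkX_36
  · exact mc_chkX_37
  · exact mc_chkX_38
  · exact mc_chkX_39
  · exact mc_chkX_40
  · exact mc_chkX_41
  · exact mc_chkX_42
  · exact mc_chkX_43
  · exact mc_chkX_44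
  · exact mc_chkX_45
  · exact mc_chkX_46
  · exact mc_chkX_47
  · exact mc_chkX_48
  · exact mc_chkX_49
  · exact mc_chkX_50
  · exact mc_chkX_51
  · exact mc_chkX_52
  · exact mc_chkX_53
  · exact mc_chkX_54
  · exact mc_chkX_55
  · exact mc_chkX_56
  · exact mc_chkX_57
  · exact mc_chkX_58
  · exact mc_chkX_59
  · exact mc_chkX_60
  · exact mc_chkX_61
  · exact mc_chkX_62
  · exact mc_chkX_63
  · exact mc_chkX_64
  · exact mc_chkX_65
  · exact mc_chkX_66
  · exact mc_chkX_67
  · exact mc_chkX_68
  · exact mc_chkX_69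
  · exact mc_chkX_70
  · exact mc_chkX_71
  · exact mc_chkX_72
  · exact mc_chkX_73
  · exact mc_chkX_74
  · exact mc_chkX_75
  · exact mc_chkX_76
  · exact mc_chkX_77
  · exact mc_chkX_78
  · exact mc_chkX_79
  · exact mc_chkX_80
  · exact mc_chkX_81
  · exact mc_chkX_82
  · exact mc_chkX_83
  · exact mc_chkX_84
  · exact mc_chkX_85
  · exact mc_chkX_86
  · exact mc_chkX_87
  · exact mc_chkX_88
  · exact mc_chkX_89
  · exact mc_chkX_90
  · exact mc_chkX_91
  · exact mc_chkX_92
  · exact mc_chkX_93
  · exact mc_chkX_94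
  · exact mc_chkX_95
  · exact mc_chkX_96
  · exact mc_chkX_97
  · exact mc_chkX_98
  · exact mc_chkX_99

end Cfsg.Agent.Helper86
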