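import Cfsg.Agent.Helper86.McLFWord

/-!
# The 2-local structure of the McLaughlin group: certificates X1 (seat helper86)

Kernel evaluations of the boolean checks of `Cfsg.Agent.Helper86.McLFWord`.
-/

set_option autoImplicit false
set_option maxRecDepth 100000

namespace Cfsg.Agent.Helper86

theorem mc_chkX_100 : mcChkX (25 * 100) 25 = true := by decide +kernel
theorem mc_chkX_101 : mcChkX (25 * 101) 25 = true := by decide +kernel
theorem mc_chkX_102 : mcChkX (25 * 102) 25 = true := by decide +kernel
theorem mc_chkX_103 : mcChkX (25 * 103) 25 = true := by decide +kernel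
theorem mc_chkX_104 : mcChkX (25 * 104) 25 = true := by decide +kernel
theorem mc_chkX_105 : mcChkX (25 * 105) 25 = true := by decide +kernel
theorem mc_chkX_106 : mcChkX (25 * 106) 25 = true := by decide +kernel
theorem mc_chkX_107 : mcChkX (25 * 107) 25 = true := by decide +kernel
theorem mc_chkX_108 : mcChkX (25 * 108) 25 = true := by decide +kernel
theorem mc_chkX_109 : mcChkX (25 * 109) 25 = true := by decide +kernel
theorem mc_chkX_110 : mcChkX (25 * 110) 25 = true := by decide +kernel
theorem mc_chkX_111 : mcChkX (25 * 111) 25 = true := by decide +kernel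
theorem mc_chkX_112 : mcChkX (25 * 112) 25 = true := by decide +kernel
theorem mc_chkX_113 : mcChkX (25 * 113) 25 = true := by decide +kernel
theorem mc_chkX_114 : mcChkX (25 * 114) 25 = true := by decide +kernel
theorem mc_chkX_115 : mcChkX (25 * 115) 25 = true := by decide +kernel
theorem mc_chkX_116 : mcChkX (25 * 116) 25 = true := by decide +kernel
theorem mc_chkX_117 : mcChkX (25 * 117) 25 = true := by decide +kernel
theorem mc_chkX_118 : mcChkX (25 * 118) 25 = true := by decide +kernel
theorem mc_chkX_119 : mcChkX (25 * 119) 25 = true := by decide +kernel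
theorem mc_chkX_120 : mcChkX (25 * 120) 25 = true := by decide +kernel
theorem mc_chkX_121 : mcChkX (25 * 121) 25 = true := by decide +kernel
theorem mc_chkX_122 : mcChkX (25 * 122) 25 = true := by decide +kernel
theorem mc_chkX_123 : mcChkX (25 * 123) 25 = true := by decide +kernel
theorem mc_chkX_124 : mcChkX (25 * 124) 25 = true := by decide +kernel
theorem mc_chkX_125 : mcChkX (25 * 125) 25 = true := by decide +kernel
theorem mc_chkX_126 : mcChkX (25 * 126) 25 = true := by decide +kernel
theorem mc_chkX_127 : mcChkX (25 * 127) 25 = true := by decide +kernel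
theorem mc_chkX_128 : mcChkX (25 * 128) 25 = true := by decide +kernel
theorem mc_chkX_129 : mcChkX (25 * 129) 25 = true := by decide +kernel
theorem mc_chkX_130 : mcChkX (25 * 130) 25 = true := by decide +kernel
theorem mc_chkX_131 : mcChkX (25 * 131) 25 = true := by decide +kernel
theorem mc_chkX_132 : mcChkX (25 * 132) 25 = true := by decide +kernel
theorem mc_chkX_133 : mcChkX (25 * 133) 25 = true := by decide +kernel
theorem mc_chkX_134 : mcChkX (25 * 134) 25 = true := by decide +kernel
theorem mc_chkX_135 : mcChkX (25 * 135) 25 = true := by decide +kernel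
theorem mc_chkX_136 : mcChkX (25 * 136) 25 = true := by decide +kernel
theorem mc_chkX_137 : mcChkX (25 * 137) 25 = true := by decide +kernel
theorem mc_chkX_138 : mcChkX (25 * 138) 25 = true := by decide +kernel
theorem mc_chkX_139 : mcChkX (25 * 139) 25 = true := by decide +kernel
theorem mc_chkX_140 : mcChkX (25 * 140) 25 = true := by decide +kernel
theorem mc_chkX_141 : mcChkX (25 * 141) 25 = true := by decide +kernel
theorem mc_chkX_142 : mcChkX (25 * 142) 25 = true := by decide +kernel
theorem mc_chkX_143 : mcChkX (25 * 143) 25 = true := by decide +kernel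
theorem mc_chkX_144 : mcChkX (25 * 144) 25 = true := by decide +kernel
theorem mc_chkX_145 : mcChkX (25 * 145) 25 = true := by decide +kernel
theorem mc_chkX_146 : mcChkX (25 * 146) 25 = true := by decide +kernel
theorem mc_chkX_147 : mcChkX (25 * 147) 25 = true := by decide +kernel
theorem mc_chkX_148 : mcChkX (25 * 148) 25 = true := by decide +kernel
theorem mc_chkX_149 : mcChkX (25 * 149) 25 = true := by decide +kernel
theorem mc_chkX_150 : mcChkX (25 * 150) 25 = true := by decide +kernel
theorem mc_chkX_151 : mcChkX (25 * 151) 25 = true := by decide +kernel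
theorem mc_chkX_152 : mcChkX (25 * 152) 25 = true := by decide +kernel
theorem mc_chkX_153 : mcChkX (25 * 153) 25 = true := by decide +kernel
theorem mc_chkX_154 : mcChkX (25 * 154) 25 = true := by decide +kernel
theorem mc_chkX_155 : mcChkX (25 * 155) 25 = true := by decide +kernel
theorem mc_chkX_156 : mcChkX (25 * 156) 25 = true := by decide +kernel
theorem mc_chkX_157 : mcChkX (25 * 157) 25 = true := by decide +kernel
theorem mc_chkX_158 : mcChkX (25 * 158) 25 = true := by decide +kernel
theorem mc_chkX_159 : mcChkX (25 * 159) 25 = true := by decide +kernel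
theorem mc_chkX_160 : mcChkX (25 * 160) 25 = true := by decide +kernel
theorem mc_chkX_161 : mcChkX (25 * 161) 25 = true := by decide +kernel
theorem mc_chkX_162 : mcChkX (25 * 162) 25 = true := by decide +kernel
theorem mc_chkX_163 : mcChkX (25 * 163) 25 = true := by decide +kernel
theorem mc_chkX_164 : mcChkX (25 * 164) 25 = true := by decide +kernel
theorem mc_chkX_165 : mcChkX (25 * 165) 25 = true := by decide +kernel
theorem mc_chkX_166 : mcChkX (25 * 166) 25 = true := by decide +kernel
theorem mc_chkX_167 : mcChkX (25 * 167) 25 = true := by decide +kernel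
theorem mc_chkX_168 : mcChkX (25 * 168) 25 = true := by decide +kernel
theorem mc_chkX_169 : mcChkX (25 * 169) 25 = true := by decide +kernel
theorem mc_chkX_170 : mcChkX (25 * 170) 25 = true := by decide +kernel
theorem mc_chkX_171 : mcChkX (25 * 171) 25 = true := by decide +kernel
theorem mc_chkX_172 : mcChkX (25 * 172) 25 = true := by decide +kernel
theorem mc_chkX_173 : mcChkX (25 * 173) 25 = true := by decide +kernel
theorem mc_chkX_174 : mcChkX (25 * 174) 25 = true := by decide +kernel
theorem mc_chkX_175 : mcChkX (25 * 175) 25 = true := by decide +kernel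
theorem mc_chkX_176 : mcChkX (25 * 176) 25 = true := by decide +kernel
theorem mc_chkX_177 : mcChkX (25 * 177) 25 = true := by decide +kernel
theorem mc_chkX_178 : mcChkX (25 * 178) 25 = true := by decide +kernel
theorem mc_chkX_179 : mcChkX (25 * 179) 25 = true := by decide +kernel
theorem mc_chkX_180 : mcChkX (25 * 180) 25 = true := by decide +kernel
theorem mc_chkX_181 : mcChkX (25 * 181) 25 = true := by decide +kernel
theorem mc_chkX_182 : mcChkX (25 * 182) 25 = true := by decide +kernel
theorem mc_chkX_183 : mcChkX (25 * 183) 25 = true := by decide +kernel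
theorem mc_chkX_184 : mcChkX (25 * 184) 25 = true := by decide +kernel
theorem mc_chkX_185 : mcChkX (25 * 185) 25 = true := by decide +kernel
theorem mc_chkX_186 : mcChkX (25 * 186) 25 = true := by decide +kernel
theorem mc_chkX_187 : mcChkX (25 * 187) 25 = true := by decide +kernel
theorem mc_chkX_188 : mcChkX (25 * 188) 25 = true := by decide +kernel
theorem mc_chkX_189 : mcChkX (25 * 189) 25 = true := by decide +kernel
theorem mc_chkX_190 : mcChkX (25 * 190) 25 = true := by decide +kernel
theorem mc_chkX_191 : mcChkX (25 * 191) 25 = true := by decide +kernel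
theorem mc_chkX_192 : mcChkX (25 * 192) 25 = true := by decide +kernel
theorem mc_chkX_193 : mcChkX (25 * 193) 25 = true := by decide +kernel
theorem mc_chkX_194 : mcChkX (25 * 194) 25 = true := by decide +kernel
theorem mc_chkX_195 : mcChkX (25 * 195) 25 = true := by decide +kernel
theorem mc_chkX_196 : mcChkX (25 * 196) 25 = true := by decide +kernel
theorem mc_chkX_197 : mcChkX (25 * 197) 25 = true := by decide +kernel
theorem mc_chkX_198 : mcChkX (25 * 198) 25 = true := by decide +kernel
theorem mc_chkX_199 : mcChkX (25 * 199) 25 = true := by decide +kernel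

theorem mc_chkX_f1 (c : ℕ) (h1 : 100 ≤ c) (h2 : c < 200) : mcChkX (25 * c) 25 = true := by
  interval_cases c
  · exact mc_chkX_100
  · exact mc_chkX_101
  · exact mc_chkX_102
  · exact mc_chkX_103
  · exact mc_chkX_104
  · exact mc_chkX_105
  · exact mc_chkX_106
  · exact mc_chkX_107
  · exact mc_chkX_108
  · exact mc_chkX_109
  · exact mc_chkX_110
  · exact mc_chkX_111
  · exact mc_chkX_112
  · exact mc_chkX_113
  · exact mc_chkX_114
  · exact mc_chkX_115
  · exact mc_chkX_116
  · exact mc_chkX_117
  · exact mc_chkX_118
  · exact mc_chkX_119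
  · exact mc_chkX_120
  · exact mc_chkX_121
  · exact mc_chkX_122
  · exact mc_chkX_123
  · exact mc_chkX_124
  · exact mc_chkX_125
  · exact mc_chkX_126
  · exact mc_chkX_127
  · exact mc_chkX_128
  · exact mc_chkX_129
  · exact mc_chkX_130
  · exact mc_chkX_131
  · exact mc_chkX_132
  · exact mc_chkX_133
  · exact mc_chkX_134
  · exact mc_chkX_135
  · exact mc_chkX_136
  · exact mc_chkX_137
  · exact mc_chkX_138
  · exact mc_chkX_139
  · exact mc_chkX_140
  · exact mc_chkX_141
  · exact mc_chkX_142
  · exact mc_chkX_143
  · exact mc_chkX_144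
  · exact mc_chkX_145
  · exact mc_chkX_146
  · exact mc_chkX_147
  · exact mc_chkX_148
  · exact mc_chkX_149
  · exact mc_chkX_150
  · exact mc_chkX_151
  · exact mc_chkX_152
  · exact mc_chkX_153
  · exact mc_chkX_154
  · exact mc_chkX_155
  · exact mc_chkX_156
  · exact mc_chkX_157
  · exact mc_chkX_158
  · exact mc_chkX_159
  · exact mc_chkX_160
  · exact mc_chkX_161
  · exact mc_chkX_162
  · exact mc_chkX_163
  · exact mc_chkX_164
  · exact mc_chkX_165
  · exact mc_chkX_166
  · exact mc_chkX_167
  · exact mc_chkX_168
  · exact mc_chkX_169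
  · exact mc_chkX_170
  · exact mc_chkX_171
  · exact mc_chkX_172
  · exact mc_chkX_173
  · exact mc_chkX_174
  · exact mc_chkX_175
  · exact mc_chkX_176
  · exact mc_chkX_177
  · exact mc_chkX_178
  · exact mc_chkX_179
  · exact mc_chkX_180
  · exact mc_chkX_181
  · exact mc_chkX_182
  · exact mc_chkX_183
  · exact mc_chkX_184
  · exact mc_chkX_185
  · exact mc_chkX_186
  · exact mc_chkX_187
  · exact mc_chkX_188
  · exact mc_chkX_189
  · exact mc_chkX_190
  · exact mc_chkX_191
  · exact mc_chkX_192
  · exact mc_chkX_193
  · exact mc_chkX_194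
  · exact mc_chkX_195
  · exact mc_chkX_196
  · exact mc_chkX_197
  · exact mc_chkX_198
  · exact mc_chkX_199

end Cfsg.Agent.Helper86
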