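import Cfsg.Agent.Helper86.McLFWord

/-!
# The 2-local structure of the McLaughlin group: certificates X2 (seat helper86)

Kernel evaluations of the boolean checks of `Cfsg.Agent.Helper86.McLFWord`.
-/

set_option autoImplicit false
set_option maxRecDepth 100000

namespace Cfsg.Agent.Helper86

theorem mc_chkX_200 : mcChkX (25 * 200) 25 = true := by decide +kernel
theorem mc_chkX_201 : mcChkX (25 * 201) 25 = true := by decide +kernel
theorem mc_chkX_202 : mcChkX (25 * 202) 25 = true := by decide +kernel
theorem mc_chkX_203 : mcChkX (25 * 203) 25 = true := by decide +kernel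
theorem mc_chkX_204 : mcChkX (25 * 204) 25 = true := by decide +kernel
theorem mc_chkX_205 : mcChkX (25 * 205) 25 = true := by decide +kernel
theorem mc_chkX_206 : mcChkX (25 * 206) 25 = true := by decide +kernel
theorem mc_chkX_207 : mcChkX (25 * 207) 25 = true := by decide +kernel
theorem mc_chkX_208 : mcChkX (25 * 208) 25 = true := by decide +kernel
theorem mc_chkX_209 : mcChkX (25 * 209) 25 = true := by decide +kernel
theorem mc_chkX_210 : mcChkX (25 * 210) 25 = true := by decide +kernel
theorem mc_chkX_211 : mcChkX (25 * 211) 25 = true := by decide +kernel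
theorem mc_chkX_212 : mcChkX (25 * 212) 25 = true := by decide +kernel
theorem mc_chkX_213 : mcChkX (25 * 213) 25 = true := by decide +kernel
theorem mc_chkX_214 : mcChkX (25 * 214) 25 = true := by decide +kernel
theorem mc_chkX_215 : mcChkX (25 * 215) 25 = true := by decide +kernel
theorem mc_chkX_216 : mcChkX (25 * 216) 25 = true := by decide +kernel
theorem mc_chkX_217 : mcChkX (25 * 217) 25 = true := by decide +kernel
theorem mc_chkX_218 : mcChkX (25 * 218) 25 = true := by decide +kernel
theorem mc_chkX_219 : mcChkX (25 * 219) 25 = true := by decide +kernel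
theorem mc_chkX_220 : mcChkX (25 * 220) 25 = true := by decide +kernel
theorem mc_chkX_221 : mcChkX (25 * 221) 25 = true := by decide +kernel
theorem mc_chkX_222 : mcChkX (25 * 222) 25 = true := by decide +kernel
theorem mc_chkX_223 : mcChkX (25 * 223) 25 = true := by decide +kernel
theorem mc_chkX_224 : mcChkX (25 * 224) 25 = true := by decide +kernel
theorem mc_chkX_225 : mcChkX (25 * 225) 25 = true := by decide +kernel
theorem mc_chkX_226 : mcChkX (25 * 226) 25 = true := by decide +kernel
theorem mc_chkX_227 : mcChkX (25 * 227) 25 = true := by decide +kernel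
theorem mc_chkX_228 : mcChkX (25 * 228) 25 = true := by decide +kernel
theorem mc_chkX_229 : mcChkX (25 * 229) 25 = true := by decide +kernel
theorem mc_chkX_230 : mcChkX (25 * 230) 25 = true := by decide +kernel
theorem mc_chkX_231 : mcChkX (25 * 231) 25 = true := by decide +kernel
theorem mc_chkX_232 : mcChkX (25 * 232) 25 = true := by decide +kernel
theorem mc_chkX_233 : mcChkX (25 * 233) 25 = true := by decide +kernel
theorem mc_chkX_234 : mcChkX (25 * 234) 25 = true := by decide +kernel
theorem mc_chkX_235 : mcChkX (25 * 235) 25 = true := by decide +kernel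
theorem mc_chkX_236 : mcChkX (25 * 236) 25 = true := by decide +kernel
theorem mc_chkX_237 : mcChkX (25 * 237) 25 = true := by decide +kernel
theorem mc_chkX_238 : mcChkX (25 * 238) 25 = true := by decide +kernel
theorem mc_chkX_239 : mcChkX (25 * 239) 25 = true := by decide +kernel
theorem mc_chkX_240 : mcChkX (25 * 240) 25 = true := by decide +kernel
theorem mc_chkX_241 : mcChkX (25 * 241) 25 = true := by decide +kernel
theorem mc_chkX_242 : mcChkX (25 * 242) 25 = true := by decide +kernel
theorem mc_chkX_243 : mcChkX (25 * 243) 25 = true := by decide +kernel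
theorem mc_chkX_244 : mcChkX (25 * 244) 25 = true := by decide +kernel
theorem mc_chkX_245 : mcChkX (25 * 245) 25 = true := by decide +kernel
theorem mc_chkX_246 : mcChkX (25 * 246) 25 = true := by decide +kernel
theorem mc_chkX_247 : mcChkX (25 * 247) 25 = true := by decide +kernel
theorem mc_chkX_248 : mcChkX (25 * 248) 25 = true := by decide +kernel
theorem mc_chkX_249 : mcChkX (25 * 249) 25 = true := by decide +kernel
theorem mc_chkX_250 : mcChkX (25 * 250) 25 = true := by decide +kernel
theorem mc_chkX_251 : mcChkX (25 * 251) 25 = true := by decide +kernel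
theorem mc_chkX_252 : mcChkX (25 * 252) 25 = true := by decide +kernel
theorem mc_chkX_253 : mcChkX (25 * 253) 25 = true := by decide +kernel
theorem mc_chkX_254 : mcChkX (25 * 254) 25 = true := by decide +kernel
theorem mc_chkX_255 : mcChkX (25 * 255) 25 = true := by decide +kernel
theorem mc_chkX_256 : mcChkX (25 * 256) 25 = true := by decide +kernel
theorem mc_chkX_257 : mcChkX (25 * 257) 25 = true := by decide +kernel
theorem mc_chkX_258 : mcChkX (25 * 258) 25 = true := by decide +kernel
theorem mc_chkX_259 : mcChkX (25 * 259) 25 = true := by decide +kernel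
theorem mc_chkX_260 : mcChkX (25 * 260) 25 = true := by decide +kernel
theorem mc_chkX_261 : mcChkX (25 * 261) 25 = true := by decide +kernel
theorem mc_chkX_262 : mcChkX (25 * 262) 25 = true := by decide +kernel
theorem mc_chkX_263 : mcChkX (25 * 263) 25 = true := by decide +kernel
theorem mc_chkX_264 : mcChkX (25 * 264) 25 = true := by decide +kernel
theorem mc_chkX_265 : mcChkX (25 * 265) 25 = true := by decide +kernel
theorem mc_chkX_266 : mcChkX (25 * 266) 25 = true := by decide +kernel
theorem mc_chkX_267 : mcChkX (25 * 267) 25 = true := by decide +kernel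
theorem mc_chkX_268 : mcChkX (25 * 268) 25 = true := by decide +kernel
theorem mc_chkX_269 : mcChkX (25 * 269) 25 = true := by decide +kernel
theorem mc_chkX_270 : mcChkX (25 * 270) 25 = true := by decide +kernel
theorem mc_chkX_271 : mcChkX (25 * 271) 25 = true := by decide +kernel
theorem mc_chkX_272 : mcChkX (25 * 272) 25 = true := by decide +kernel
theorem mc_chkX_273 : mcChkX (25 * 273) 25 = true := by decide +kernel
theorem mc_chkX_274 : mcChkX (25 * 274) 25 = true := by decide +kernel
theorem mc_chkX_275 : mcChkX (25 * 275) 25 = true := by decide +kernel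
theorem mc_chkX_276 : mcChkX (25 * 276) 25 = true := by decide +kernel
theorem mc_chkX_277 : mcChkX (25 * 277) 25 = true := by decide +kernel
theorem mc_chkX_278 : mcChkX (25 * 278) 25 = true := by decide +kernel
theorem mc_chkX_279 : mcChkX (25 * 279) 25 = true := by decide +kernel
theorem mc_chkX_280 : mcChkX (25 * 280) 25 = true := by decide +kernel
theorem mc_chkX_281 : mcChkX (25 * 281) 25 = true := by decide +kernel
theorem mc_chkX_282 : mcChkX (25 * 282) 25 = true := by decide +kernel
theorem mc_chkX_283 : mcChkX (25 * 283) 25 = true := by decide +kernel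
theorem mc_chkX_284 : mcChkX (25 * 284) 25 = true := by decide +kernel
theorem mc_chkX_285 : mcChkX (25 * 285) 25 = true := by decide +kernel
theorem mc_chkX_286 : mcChkX (25 * 286) 25 = true := by decide +kernel
theorem mc_chkX_287 : mcChkX (25 * 287) 25 = true := by decide +kernel
theorem mc_chkX_288 : mcChkX (25 * 288) 25 = true := by decide +kernel
theorem mc_chkX_289 : mcChkX (25 * 289) 25 = true := by decide +kernel
theorem mc_chkX_290 : mcChkX (25 * 290) 25 = true := by decide +kernel
theorem mc_chkX_291 : mcChkX (25 * 291) 25 = true := by decide +kernel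
theorem mc_chkX_292 : mcChkX (25 * 292) 25 = true := by decide +kernel
theorem mc_chkX_293 : mcChkX (25 * 293) 25 = true := by decide +kernel
theorem mc_chkX_294 : mcChkX (25 * 294) 25 = true := by decide +kernel
theorem mc_chkX_295 : mcChkX (25 * 295) 25 = true := by decide +kernel
theorem mc_chkX_296 : mcChkX (25 * 296) 25 = true := by decide +kernel
theorem mc_chkX_297 : mcChkX (25 * 297) 25 = true := by decide +kernel
theorem mc_chkX_298 : mcChkX (25 * 298) 25 = true := by decide +kernel
theorem mc_chkX_299 : mcChkX (25 * 299) 25 = true := by decide +kernel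

theorem mc_chkX_f2 (c : ℕ) (h1 : 200 ≤ c) (h2 : c < 300) : mcChkX (25 * c) 25 = true := by
  interval_cases c
  · exact mc_chkX_200
  · exact mc_chkX_201
  · exact mc_chkX_202
  · exact mc_chkX_203
  · exact mc_chkX_204
  · exact mc_chkX_205
  · exact mc_chkX_206
  · exact mc_chkX_207
  · exact mc_chkX_208
  · exact mc_chkX_209
  · exact mc_chkX_210
  · exact mc_chkX_211
  · exact mc_chkX_212
  · exact mc_chkX_213
  · exact mc_chkX_214
  · exact mc_chkX_215
  · exact mc_chkX_216
  · exact mc_chkX_217
  · exact mc_chkX_218
  · exact mc_chkX_219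
  · exact mc_chkX_220
  · exact mc_chkX_221
  · exact mc_chkX_222
  · exact mc_chkX_223
  · exact mc_chkX_224
  · exact mc_chkX_225
  · exact mc_chkX_226
  · exact mc_chkX_227
  · exact mc_chkX_228
  · exact mc_chkX_229
  · exact mc_chkX_230
  · exact mc_chkX_231
  · exact mc_chkX_232
  · exact mc_chkX_233
  · exact mc_chkX_234
  · exact mc_chkX_235
  · exact mc_chkX_236
  · exact mc_chkX_237
  · exact mc_chkX_238
  · exact mc_chkX_239
  · exact mc_chkX_240
  · exact mc_chkX_241
  · exact mc_chkX_242
  · exact mc_chkX_243
  · exact mc_chkX_244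
  · exact mc_chkX_245
  · exact mc_chkX_246
  · exact mc_chkX_247
  · exact mc_chkX_248
  · exact mc_chkX_249
  · exact mc_chkX_250
  · exact mc_chkX_251
  · exact mc_chkX_252
  · exact mc_chkX_253
  · exact mc_chkX_254
  · exact mc_chkX_255
  · exact mc_chkX_256
  · exact mc_chkX_257
  · exact mc_chkX_258
  · exact mc_chkX_259
  · exact mc_chkX_260
  · exact mc_chkX_261
  · exact mc_chkX_262
  · exact mc_chkX_263
  · exact mc_chkX_264
  · exact mc_chkX_265
  · exact mc_chkX_266
  · exact mc_chkX_267
  · exact mc_chkX_268
  · exact mc_chkX_269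
  · exact mc_chkX_270
  · exact mc_chkX_271
  · exact mc_chkX_272
  · exact mc_chkX_273
  · exact mc_chkX_274
  · exact mc_chkX_275
  · exact mc_chkX_276
  · exact mc_chkX_277
  · exact mc_chkX_278
  · exact mc_chkX_279
  · exact mc_chkX_280
  · exact mc_chkX_281
  · exact mc_chkX_282
  · exact mc_chkX_283
  · exact mc_chkX_284
  · exact mc_chkX_285
  · exact mc_chkX_286
  · exact mc_chkX_287
  · exact mc_chkX_288
  · exact mc_chkX_289
  · exact mc_chkX_290
  · exact mc_chkX_291
  · exact mc_chkX_292
  · exact mc_chkX_293
  · exact mc_chkX_294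
  · exact mc_chkX_295
  · exact mc_chkX_296
  · exact mc_chkX_297
  · exact mc_chkX_298
  · exact mc_chkX_299

end Cfsg.Agent.Helper86
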