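import Cfsg.Agent.Helper86.McLFWord

/-!
# The 2-local structure of the McLaughlin group: certificates X3 (seat helper86)

Kernel evaluations of the boolean checks of `Cfsg.Agent.Helper86.McLFWord`.
-/

set_option autoImplicit false
set_option maxRecDepth 100000

namespace Cfsg.Agent.Helper86

theorem mc_chkX_300 : mcChkX (25 * 300) 25 = true := by decide +kernel
theorem mc_chkX_301 : mcChkX (25 * 301) 25 = true := by decide +kernel
theorem mc_chkX_302 : mcChkX (25 * 302) 25 = true := by decide +kernel
theorem mc_chkX_303 : mcChkX (25 * 303) 25 = true := by decide +kernel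
theorem mc_chkX_304 : mcChkX (25 * 304) 25 = true := by decide +kernel
theorem mc_chkX_305 : mcChkX (25 * 305) 25 = true := by decide +kernel
theorem mc_chkX_306 : mcChkX (25 * 306) 25 = true := by decide +kernel
theorem mc_chkX_307 : mcChkX (25 * 307) 25 = true := by decide +kernel
theorem mc_chkX_308 : mcChkX (25 * 308) 25 = true := by decide +kernel
theorem mc_chkX_309 : mcChkX (25 * 309) 25 = true := by decide +kernel
theorem mc_chkX_310 : mcChkX (25 * 310) 25 = true := by decide +kernel
theorem mc_chkX_311 : mcChkX (25 * 311) 25 = true := by decide +kernel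
theorem mc_chkX_312 : mcChkX (25 * 312) 25 = true := by decide +kernel
theorem mc_chkX_313 : mcChkX (25 * 313) 25 = true := by decide +kernel
theorem mc_chkX_314 : mcChkX (25 * 314) 25 = true := by decide +kernel
theorem mc_chkX_315 : mcChkX (25 * 315) 25 = true := by decide +kernel
theorem mc_chkX_316 : mcChkX (25 * 316) 25 = true := by decide +kernel
theorem mc_chkX_317 : mcChkX (25 * 317) 25 = true := by decide +kernel
theorem mc_chkX_318 : mcChkX (25 * 318) 25 = true := by decide +kernel
theorem mc_chkX_319 : mcChkX (25 * 319) 25 = true := by decide +kernel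
theorem mc_chkX_320 : mcChkX (25 * 320) 25 = true := by decide +kernel
theorem mc_chkX_321 : mcChkX (25 * 321) 25 = true := by decide +kernel
theorem mc_chkX_322 : mcChkX (25 * 322) 25 = true := by decide +kernel
theorem mc_chkX_323 : mcChkX (25 * 323) 25 = true := by decide +kernel
theorem mc_chkX_324 : mcChkX (25 * 324) 25 = true := by decide +kernel
theorem mc_chkX_325 : mcChkX (25 * 325) 25 = true := by decide +kernel
theorem mc_chkX_326 : mcChkX (25 * 326) 25 = true := by decide +kernel
theorem mc_chkX_327 : mcChkX (25 * 327) 25 = true := by decide +kernel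
theorem mc_chkX_328 : mcChkX (25 * 328) 25 = true := by decide +kernel
theorem mc_chkX_329 : mcChkX (25 * 329) 25 = true := by decide +kernel
theorem mc_chkX_330 : mcChkX (25 * 330) 25 = true := by decide +kernel
theorem mc_chkX_331 : mcChkX (25 * 331) 25 = true := by decide +kernel
theorem mc_chkX_332 : mcChkX (25 * 332) 25 = true := by decide +kernel
theorem mc_chkX_333 : mcChkX (25 * 333) 25 = true := by decide +kernel
theorem mc_chkX_334 : mcChkX (25 * 334) 25 = true := by decide +kernel
theorem mc_chkX_335 : mcChkX (25 * 335) 25 = true := by decide +kernel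
theorem mc_chkX_336 : mcChkX (25 * 336) 25 = true := by decide +kernel
theorem mc_chkX_337 : mcChkX (25 * 337) 25 = true := by decide +kernel
theorem mc_chkX_338 : mcChkX (25 * 338) 25 = true := by decide +kernel
theorem mc_chkX_339 : mcChkX (25 * 339) 25 = true := by decide +kernel
theorem mc_chkX_340 : mcChkX (25 * 340) 25 = true := by decide +kernel
theorem mc_chkX_341 : mcChkX (25 * 341) 25 = true := by decide +kernel
theorem mc_chkX_342 : mcChkX (25 * 342) 25 = true := by decide +kernel
theorem mc_chkX_343 : mcChkX (25 * 343) 25 = true := by decide +kernel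
theorem mc_chkX_344 : mcChkX (25 * 344) 25 = true := by decide +kernel
theorem mc_chkX_345 : mcChkX (25 * 345) 25 = true := by decide +kernel
theorem mc_chkX_346 : mcChkX (25 * 346) 25 = true := by decide +kernel
theorem mc_chkX_347 : mcChkX (25 * 347) 25 = true := by decide +kernel
theorem mc_chkX_348 : mcChkX (25 * 348) 25 = true := by decide +kernel
theorem mc_chkX_349 : mcChkX (25 * 349) 25 = true := by decide +kernel
theorem mc_chkX_350 : mcChkX (25 * 350) 25 = true := by decide +kernel
theorem mc_chkX_351 : mcChkX (25 * 351) 25 = true := by decide +kernel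
theorem mc_chkX_352 : mcChkX (25 * 352) 25 = true := by decide +kernel
theorem mc_chkX_353 : mcChkX (25 * 353) 25 = true := by decide +kernel
theorem mc_chkX_354 : mcChkX (25 * 354) 25 = true := by decide +kernel
theorem mc_chkX_355 : mcChkX (25 * 355) 25 = true := by decide +kernel
theorem mc_chkX_356 : mcChkX (25 * 356) 25 = true := by decide +kernel
theorem mc_chkX_357 : mcChkX (25 * 357) 25 = true := by decide +kernel
theorem mc_chkX_358 : mcChkX (25 * 358) 25 = true := by decide +kernel
theorem mc_chkX_359 : mcChkX (25 * 359) 25 = true := by decide +kernel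
theorem mc_chkX_360 : mcChkX (25 * 360) 25 = true := by decide +kernel
theorem mc_chkX_361 : mcChkX (25 * 361) 25 = true := by decide +kernel
theorem mc_chkX_362 : mcChkX (25 * 362) 25 = true := by decide +kernel
theorem mc_chkX_363 : mcChkX (25 * 363) 25 = true := by decide +kernel
theorem mc_chkX_364 : mcChkX (25 * 364) 25 = true := by decide +kernel
theorem mc_chkX_365 : mcChkX (25 * 365) 25 = true := by decide +kernel
theorem mc_chkX_366 : mcChkX (25 * 366) 25 = true := by decide +kernel
theorem mc_chkX_367 : mcChkX (25 * 367) 25 = true := by decide +kernel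
theorem mc_chkX_368 : mcChkX (25 * 368) 25 = true := by decide +kernel
theorem mc_chkX_369 : mcChkX (25 * 369) 25 = true := by decide +kernel
theorem mc_chkX_370 : mcChkX (25 * 370) 25 = true := by decide +kernel
theorem mc_chkX_371 : mcChkX (25 * 371) 25 = true := by decide +kernel
theorem mc_chkX_372 : mcChkX (25 * 372) 25 = true := by decide +kernel
theorem mc_chkX_373 : mcChkX (25 * 373) 25 = true := by decide +kernel
theorem mc_chkX_374 : mcChkX (25 * 374) 25 = true := by decide +kernel
theorem mc_chkX_375 : mcChkX (25 * 375) 25 = true := by decide +kernel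
theorem mc_chkX_376 : mcChkX (25 * 376) 25 = true := by decide +kernel
theorem mc_chkX_377 : mcChkX (25 * 377) 25 = true := by decide +kernel
theorem mc_chkX_378 : mcChkX (25 * 378) 25 = true := by decide +kernel
theorem mc_chkX_379 : mcChkX (25 * 379) 25 = true := by decide +kernel
theorem mc_chkX_380 : mcChkX (25 * 380) 25 = true := by decide +kernel
theorem mc_chkX_381 : mcChkX (25 * 381) 25 = true := by decide +kernel
theorem mc_chkX_382 : mcChkX (25 * 382) 25 = true := by decide +kernel
theorem mc_chkX_383 : mcChkX (25 * 383) 25 = true := by decide +kernel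
theorem mc_chkX_384 : mcChkX (25 * 384) 25 = true := by decide +kernel
theorem mc_chkX_385 : mcChkX (25 * 385) 25 = true := by decide +kernel
theorem mc_chkX_386 : mcChkX (25 * 386) 25 = true := by decide +kernel
theorem mc_chkX_387 : mcChkX (25 * 387) 25 = true := by decide +kernel
theorem mc_chkX_388 : mcChkX (25 * 388) 25 = true := by decide +kernel
theorem mc_chkX_389 : mcChkX (25 * 389) 25 = true := by decide +kernel
theorem mc_chkX_390 : mcChkX (25 * 390) 25 = true := by decide +kernel
theorem mc_chkX_391 : mcChkX (25 * 391) 25 = true := by decide +kernel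
theorem mc_chkX_392 : mcChkX (25 * 392) 25 = true := by decide +kernel
theorem mc_chkX_393 : mcChkX (25 * 393) 25 = true := by decide +kernel
theorem mc_chkX_394 : mcChkX (25 * 394) 25 = true := by decide +kernel
theorem mc_chkX_395 : mcChkX (25 * 395) 25 = true := by decide +kernel
theorem mc_chkX_396 : mcChkX (25 * 396) 25 = true := by decide +kernel
theorem mc_chkX_397 : mcChkX (25 * 397) 25 = true := by decide +kernel
theorem mc_chkX_398 : mcChkX (25 * 398) 25 = true := by decide +kernel
theorem mc_chkX_399 : mcChkX (25 * 399) 25 = true := by decide +kernel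

theorem mc_chkX_f3 (c : ℕ) (h1 : 300 ≤ c) (h2 : c < 400) : mcChkX (25 * c) 25 = true := by
  interval_cases c
  · exact mc_chkX_300
  · exact mc_chkX_301
  · exact mc_chkX_302
  · exact mc_chkX_303
  · exact mc_chkX_304
  · exact mc_chkX_305
  · exact mc_chkX_306
  · exact mc_chkX_307
  · exact mc_chkX_308
  · exact mc_chkX_309
  · exact mc_chkX_310
  · exact mc_chkX_311
  · exact mc_chkX_312
  · exact mc_chkX_313
  · exact mc_chkX_314
  · exact mc_chkX_315
  · exact mc_chkX_316
  · exact mc_chkX_317
  · exact mc_chkX_318
  · exact mc_chkX_319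
  · exact mc_chkX_320
  · exact mc_chkX_321
  · exact mc_chkX_322
  · exact mc_chkX_323
  · exact mc_chkX_324
  · exact mc_chkX_325
  · exact mc_chkX_326
  · exact mc_chkX_327
  · exact mc_chkX_328
  · exact mc_chkX_329
  · exact mc_chkX_330
  · exact mc_chkX_331
  · exact mc_chkX_332
  · exact mc_chkX_333
  · exact mc_chkX_334
  · exact mc_chkX_335
  · exact mc_chkX_336
  · exact mc_chkX_337
  · exact mc_chkX_338
  · exact mc_chkX_339
  · exact mc_chkX_340
  · exact mc_chkX_341
  · exact mc_chkX_342
  · exact mc_chkX_343
  · exact mc_chkX_344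
  · exact mc_chkX_345
  · exact mc_chkX_346
  · exact mc_chkX_347
  · exact mc_chkX_348
  · exact mc_chkX_349
  · exact mc_chkX_350
  · exact mc_chkX_351
  · exact mc_chkX_352
  · exact mc_chkX_353
  · exact mc_chkX_354
  · exact mc_chkX_355
  · exact mc_chkX_356
  · exact mc_chkX_357
  · exact mc_chkX_358
  · exact mc_chkX_359
  · exact mc_chkX_360
  · exact mc_chkX_361
  · exact mc_chkX_362
  · exact mc_chkX_363
  · exact mc_chkX_364
  · exact mc_chkX_365
  · exact mc_chkX_366
  · exact mc_chkX_367
  · exact mc_chkX_368
  · exact mc_chkX_369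
  · exact mc_chkX_370
  · exact mc_chkX_371
  · exact mc_chkX_372
  · exact mc_chkX_373
  · exact mc_chkX_374
  · exact mc_chkX_375
  · exact mc_chkX_376
  · exact mc_chkX_377
  · exact mc_chkX_378
  · exact mc_chkX_379
  · exact mc_chkX_380
  · exact mc_chkX_381
  · exact mc_chkX_382
  · exact mc_chkX_383
  · exact mc_chkX_384
  · exact mc_chkX_385
  · exact mc_chkX_386
  · exact mc_chkX_387
  · exact mc_chkX_388
  · exact mc_chkX_389
  · exact mc_chkX_390
  · exact mc_chkX_391
  · exact mc_chkX_392
  · exact mc_chkX_393
  · exact mc_chkX_394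
  · exact mc_chkX_395
  · exact mc_chkX_396
  · exact mc_chkX_397
  · exact mc_chkX_398
  · exact mc_chkX_399

end Cfsg.Agent.Helper86
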