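import Cfsg.Agent.Helper86.McLFWord

/-!
# The 2-local structure of the McLaughlin group: certificates X4 (seat helper86)

Kernel evaluations of the boolean checks of `Cfsg.Agent.Helper86.McLFWord`.
-/

set_option autoImplicit false
set_option maxRecDepth 100000

namespace Cfsg.Agent.Helper86

theorem mc_chkX_400 : mcChkX (25 * 400) 25 = true := by decide +kernel
theorem mc_chkX_401 : mcChkX (25 * 401) 25 = true := by decide +kernel
theorem mc_chkX_402 : mcChkX (25 * 402) 25 = true := by decide +kernel
theorem mc_chkX_403 : mcChkX (25 * 403) 25 = true := by decide +kernel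
theorem mc_chkX_404 : mcChkX (25 * 404) 25 = true := by decide +kernel
theorem mc_chkX_405 : mcChkX (25 * 405) 25 = true := by decide +kernel
theorem mc_chkX_406 : mcChkX (25 * 406) 25 = true := by decide +kernel
theorem mc_chkX_407 : mcChkX (25 * 407) 25 = true := by decide +kernel
theorem mc_chkX_408 : mcChkX (25 * 408) 25 = true := by decide +kernel
theorem mc_chkX_409 : mcChkX (25 * 409) 25 = true := by decide +kernel
theorem mc_chkX_410 : mcChkX (25 * 410) 25 = true := by decide +kernel
theorem mc_chkX_411 : mcChkX (25 * 411) 25 = true := by decide +kernel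
theorem mc_chkX_412 : mcChkX (25 * 412) 25 = true := by decide +kernel
theorem mc_chkX_413 : mcChkX (25 * 413) 25 = true := by decide +kernel
theorem mc_chkX_414 : mcChkX (25 * 414) 25 = true := by decide +kernel
theorem mc_chkX_415 : mcChkX (25 * 415) 25 = true := by decide +kernel
theorem mc_chkX_416 : mcChkX (25 * 416) 25 = true := by decide +kernel
theorem mc_chkX_417 : mcChkX (25 * 417) 25 = true := by decide +kernel
theorem mc_chkX_418 : mcChkX (25 * 418) 25 = true := by decide +kernel
theorem mc_chkX_419 : mcChkX (25 * 419) 25 = true := by decide +kernel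
theorem mc_chkX_420 : mcChkX (25 * 420) 25 = true := by decide +kernel
theorem mc_chkX_421 : mcChkX (25 * 421) 25 = true := by decide +kernel
theorem mc_chkX_422 : mcChkX (25 * 422) 25 = true := by decide +kernel
theorem mc_chkX_423 : mcChkX (25 * 423) 25 = true := by decide +kernel
theorem mc_chkX_424 : mcChkX (25 * 424) 25 = true := by decide +kernel
theorem mc_chkX_425 : mcChkX (25 * 425) 25 = true := by decide +kernel
theorem mc_chkX_426 : mcChkX (25 * 426) 25 = true := by decide +kernel
theorem mc_chkX_427 : mcChkX (25 * 427) 25 = true := by decide +kernel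
theorem mc_chkX_428 : mcChkX (25 * 428) 25 = true := by decide +kernel
theorem mc_chkX_429 : mcChkX (25 * 429) 25 = true := by decide +kernel
theorem mc_chkX_430 : mcChkX (25 * 430) 25 = true := by decide +kernel
theorem mc_chkX_431 : mcChkX (25 * 431) 25 = true := by decide +kernel
theorem mc_chkX_432 : mcChkX (25 * 432) 25 = true := by decide +kernel
theorem mc_chkX_433 : mcChkX (25 * 433) 25 = true := by decide +kernel
theorem mc_chkX_434 : mcChkX (25 * 434) 25 = true := by decide +kernel
theorem mc_chkX_435 : mcChkX (25 * 435) 25 = true := by decide +kernel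
theorem mc_chkX_436 : mcChkX (25 * 436) 25 = true := by decide +kernel
theorem mc_chkX_437 : mcChkX (25 * 437) 25 = true := by decide +kernel
theorem mc_chkX_438 : mcChkX (25 * 438) 25 = true := by decide +kernel
theorem mc_chkX_439 : mcChkX (25 * 439) 25 = true := by decide +kernel
theorem mc_chkX_440 : mcChkX (25 * 440) 25 = true := by decide +kernel
theorem mc_chkX_441 : mcChkX (25 * 441) 25 = true := by decide +kernel
theorem mc_chkX_442 : mcChkX (25 * 442) 25 = true := by decide +kernel
theorem mc_chkX_443 : mcChkX (25 * 443) 25 = true := by decide +kernel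
theorem mc_chkX_444 : mcChkX (25 * 444) 25 = true := by decide +kernel
theorem mc_chkX_445 : mcChkX (25 * 445) 25 = true := by decide +kernel
theorem mc_chkX_446 : mcChkX (25 * 446) 25 = true := by decide +kernel
theorem mc_chkX_447 : mcChkX (25 * 447) 25 = true := by decide +kernel
theorem mc_chkX_448 : mcChkX (25 * 448) 25 = true := by decide +kernel
theorem mc_chkX_449 : mcChkX (25 * 449) 25 = true := by decide +kernel
theorem mc_chkX_450 : mcChkX (25 * 450) 25 = true := by decide +kernel
theorem mc_chkX_451 : mcChkX (25 * 451) 25 = true := by decide +kernel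
theorem mc_chkX_452 : mcChkX (25 * 452) 25 = true := by decide +kernel
theorem mc_chkX_453 : mcChkX (25 * 453) 25 = true := by decide +kernel
theorem mc_chkX_454 : mcChkX (25 * 454) 25 = true := by decide +kernel
theorem mc_chkX_455 : mcChkX (25 * 455) 25 = true := by decide +kernel
theorem mc_chkX_456 : mcChkX (25 * 456) 25 = true := by decide +kernel
theorem mc_chkX_457 : mcChkX (25 * 457) 25 = true := by decide +kernel
theorem mc_chkX_458 : mcChkX (25 * 458) 25 = true := by decide +kernel
theorem mc_chkX_459 : mcChkX (25 * 459) 25 = true := by decide +kernel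
theorem mc_chkX_460 : mcChkX (25 * 460) 25 = true := by decide +kernel
theorem mc_chkX_461 : mcChkX (25 * 461) 25 = true := by decide +kernel
theorem mc_chkX_462 : mcChkX (25 * 462) 25 = true := by decide +kernel
theorem mc_chkX_463 : mcChkX (25 * 463) 25 = true := by decide +kernel
theorem mc_chkX_464 : mcChkX (25 * 464) 25 = true := by decide +kernel
theorem mc_chkX_465 : mcChkX (25 * 465) 25 = true := by decide +kernel
theorem mc_chkX_466 : mcChkX (25 * 466) 25 = true := by decide +kernel
theorem mc_chkX_467 : mcChkX (25 * 467) 25 = true := by decide +kernel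
theorem mc_chkX_468 : mcChkX (25 * 468) 25 = true := by decide +kernel
theorem mc_chkX_469 : mcChkX (25 * 469) 25 = true := by decide +kernel
theorem mc_chkX_470 : mcChkX (25 * 470) 25 = true := by decide +kernel
theorem mc_chkX_471 : mcChkX (25 * 471) 25 = true := by decide +kernel
theorem mc_chkX_472 : mcChkX (25 * 472) 25 = true := by decide +kernel
theorem mc_chkX_473 : mcChkX (25 * 473) 25 = true := by decide +kernel
theorem mc_chkX_474 : mcChkX (25 * 474) 25 = true := by decide +kernel
theorem mc_chkX_475 : mcChkX (25 * 475) 25 = true := by decide +kernel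
theorem mc_chkX_476 : mcChkX (25 * 476) 25 = true := by decide +kernel
theorem mc_chkX_477 : mcChkX (25 * 477) 25 = true := by decide +kernel
theorem mc_chkX_478 : mcChkX (25 * 478) 25 = true := by decide +kernel
theorem mc_chkX_479 : mcChkX (25 * 479) 25 = true := by decide +kernel
theorem mc_chkX_480 : mcChkX (25 * 480) 25 = true := by decide +kernel
theorem mc_chkX_481 : mcChkX (25 * 481) 25 = true := by decide +kernel
theorem mc_chkX_482 : mcChkX (25 * 482) 25 = true := by decide +kernel
theorem mc_chkX_483 : mcChkX (25 * 483) 25 = true := by decide +kernel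
theorem mc_chkX_484 : mcChkX (25 * 484) 25 = true := by decide +kernel
theorem mc_chkX_485 : mcChkX (25 * 485) 25 = true := by decide +kernel
theorem mc_chkX_486 : mcChkX (25 * 486) 25 = true := by decide +kernel
theorem mc_chkX_487 : mcChkX (25 * 487) 25 = true := by decide +kernel
theorem mc_chkX_488 : mcChkX (25 * 488) 25 = true := by decide +kernel
theorem mc_chkX_489 : mcChkX (25 * 489) 25 = true := by decide +kernel
theorem mc_chkX_490 : mcChkX (25 * 490) 25 = true := by decide +kernel
theorem mc_chkX_491 : mcChkX (25 * 491) 25 = true := by decide +kernel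
theorem mc_chkX_492 : mcChkX (25 * 492) 25 = true := by decide +kernel
theorem mc_chkX_493 : mcChkX (25 * 493) 25 = true := by decide +kernel
theorem mc_chkX_494 : mcChkX (25 * 494) 25 = true := by decide +kernel
theorem mc_chkX_495 : mcChkX (25 * 495) 25 = true := by decide +kernel
theorem mc_chkX_496 : mcChkX (25 * 496) 25 = true := by decide +kernel
theorem mc_chkX_497 : mcChkX (25 * 497) 25 = true := by decide +kernel
theorem mc_chkX_498 : mcChkX (25 * 498) 25 = true := by decide +kernel
theorem mc_chkX_499 : mcChkX (25 * 499) 25 = true := by decide +kernel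

theorem mc_chkX_f4 (c : ℕ) (h1 : 400 ≤ c) (h2 : c < 500) : mcChkX (25 * c) 25 = true := by
  interval_cases c
  · exact mc_chkX_400
  · exact mc_chkX_401
  · exact mc_chkX_402
  · exact mc_chkX_403
  · exact mc_chkX_404
  · exact mc_chkX_405
  · exact mc_chkX_406
  · exact mc_chkX_407
  · exact mc_chkX_408
  · exact mc_chkX_409
  · exact mc_chkX_410
  · exact mc_chkX_411
  · exact mc_chkX_412
  · exact mc_chkX_413
  · exact mc_chkX_414
  · exact mc_chkX_415
  · exact mc_chkX_416
  · exact mc_chkX_417
  · exact mc_chkX_418
  · exact mc_chkX_419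
  · exact mc_chkX_420
  · exact mc_chkX_421
  · exact mc_chkX_422
  · exact mc_chkX_423
  · exact mc_chkX_424
  · exact mc_chkX_425
  · exact mc_chkX_426
  · exact mc_chkX_427
  · exact mc_chkX_428
  · exact mc_chkX_429
  · exact mc_chkX_430
  · exact mc_chkX_431
  · exact mc_chkX_432
  · exact mc_chkX_433
  · exact mc_chkX_434
  · exact mc_chkX_435
  · exact mc_chkX_436
  · exact mc_chkX_437
  · exact mc_chkX_438
  · exact mc_chkX_439
  · exact mc_chkX_440
  · exact mc_chkX_441
  · exact mc_chkX_442
  · exact mc_chkX_443
  · exact mc_chkX_444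
  · exact mc_chkX_445
  · exact mc_chkX_446
  · exact mc_chkX_447
  · exact mc_chkX_448
  · exact mc_chkX_449
  · exact mc_chkX_450
  · exact mc_chkX_451
  · exact mc_chkX_452
  · exact mc_chkX_453
  · exact mc_chkX_454
  · exact mc_chkX_455
  · exact mc_chkX_456
  · exact mc_chkX_457
  · exact mc_chkX_458
  · exact mc_chkX_459
  · exact mc_chkX_460
  · exact mc_chkX_461
  · exact mc_chkX_462
  · exact mc_chkX_463
  · exact mc_chkX_464
  · exact mc_chkX_465
  · exact mc_chkX_466
  · exact mc_chkX_467
  · exact mc_chkX_468
  · exact mc_chkX_469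
  · exact mc_chkX_470
  · exact mc_chkX_471
  · exact mc_chkX_472
  · exact mc_chkX_473
  · exact mc_chkX_474
  · exact mc_chkX_475
  · exact mc_chkX_476
  · exact mc_chkX_477
  · exact mc_chkX_478
  · exact mc_chkX_479
  · exact mc_chkX_480
  · exact mc_chkX_481
  · exact mc_chkX_482
  · exact mc_chkX_483
  · exact mc_chkX_484
  · exact mc_chkX_485
  · exact mc_chkX_486
  · exact mc_chkX_487
  · exact mc_chkX_488
  · exact mc_chkX_489
  · exact mc_chkX_490
  · exact mc_chkX_491
  · exact mc_chkX_492
  · exact mc_chkX_493
  · exact mc_chkX_494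
  · exact mc_chkX_495
  · exact mc_chkX_496
  · exact mc_chkX_497
  · exact mc_chkX_498
  · exact mc_chkX_499

end Cfsg.Agent.Helper86
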