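import Cfsg.Agent.Helper86.McLFWord

/-!
# The 2-local structure of the McLaughlin group: certificates X5 (seat helper86)

Kernel evaluations of the boolean checks of `Cfsg.Agent.Helper86.McLFWord`.
-/

set_option autoImplicit false
set_option maxRecDepth 100000

namespace Cfsg.Agent.Helper86

theorem mc_chkX_500 : mcChkX (25 * 500) 25 = true := by decide +kernel
theorem mc_chkX_501 : mcChkX (25 * 501) 25 = true := by decide +kernel
theorem mc_chkX_502 : mcChkX (25 * 502) 25 = true := by decide +kernel
theorem mc_chkX_503 : mcChkX (25 * 503) 25 = true := by decide +kernel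
theorem mc_chkX_504 : mcChkX (25 * 504) 25 = true := by decide +kernel
theorem mc_chkX_505 : mcChkX (25 * 505) 25 = true := by decide +kernel
theorem mc_chkX_506 : mcChkX (25 * 506) 25 = true := by decide +kernel
theorem mc_chkX_507 : mcChkX (25 * 507) 25 = true := by decide +kernel
theorem mc_chkX_508 : mcChkX (25 * 508) 25 = true := by decide +kernel
theorem mc_chkX_509 : mcChkX (25 * 509) 25 = true := by decide +kernel
theorem mc_chkX_510 : mcChkX (25 * 510) 25 = true := by decide +kernel
theorem mc_chkX_511 : mcChkX (25 * 511) 25 = true := by decide +kernel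
theorem mc_chkX_512 : mcChkX (25 * 512) 25 = true := by decide +kernel
theorem mc_chkX_513 : mcChkX (25 * 513) 25 = true := by decide +kernel
theorem mc_chkX_514 : mcChkX (25 * 514) 25 = true := by decide +kernel
theorem mc_chkX_515 : mcChkX (25 * 515) 25 = true := by decide +kernel
theorem mc_chkX_516 : mcChkX (25 * 516) 25 = true := by decide +kernel
theorem mc_chkX_517 : mcChkX (25 * 517) 25 = true := by decide +kernel
theorem mc_chkX_518 : mcChkX (25 * 518) 25 = true := by decide +kernel
theorem mc_chkX_519 : mcChkX (25 * 519) 25 = true := by decide +kernel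
theorem mc_chkX_520 : mcChkX (25 * 520) 25 = true := by decide +kernel
theorem mc_chkX_521 : mcChkX (25 * 521) 25 = true := by decide +kernel
theorem mc_chkX_522 : mcChkX (25 * 522) 25 = true := by decide +kernel
theorem mc_chkX_523 : mcChkX (25 * 523) 25 = true := by decide +kernel
theorem mc_chkX_524 : mcChkX (25 * 524) 25 = true := by decide +kernel
theorem mc_chkX_525 : mcChkX (25 * 525) 25 = true := by decide +kernel
theorem mc_chkX_526 : mcChkX (25 * 526) 25 = true := by decide +kernel
theorem mc_chkX_527 : mcChkX (25 * 527) 25 = true := by decide +kernel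
theorem mc_chkX_528 : mcChkX (25 * 528) 25 = true := by decide +kernel
theorem mc_chkX_529 : mcChkX (25 * 529) 25 = true := by decide +kernel
theorem mc_chkX_530 : mcChkX (25 * 530) 25 = true := by decide +kernel
theorem mc_chkX_531 : mcChkX (25 * 531) 25 = true := by decide +kernel
theorem mc_chkX_532 : mcChkX (25 * 532) 25 = true := by decide +kernel
theorem mc_chkX_533 : mcChkX (25 * 533) 25 = true := by decide +kernel
theorem mc_chkX_534 : mcChkX (25 * 534) 25 = true := by decide +kernel
theorem mc_chkX_535 : mcChkX (25 * 535) 25 = true := by decide +kernel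
theorem mc_chkX_536 : mcChkX (25 * 536) 25 = true := by decide +kernel
theorem mc_chkX_537 : mcChkX (25 * 537) 25 = true := by decide +kernel
theorem mc_chkX_538 : mcChkX (25 * 538) 25 = true := by decide +kernel
theorem mc_chkX_539 : mcChkX (25 * 539) 25 = true := by decide +kernel
theorem mc_chkX_540 : mcChkX (25 * 540) 25 = true := by decide +kernel
theorem mc_chkX_541 : mcChkX (25 * 541) 25 = true := by decide +kernel
theorem mc_chkX_542 : mcChkX (25 * 542) 25 = true := by decide +kernel
theorem mc_chkX_543 : mcChkX (25 * 543) 25 = true := by decide +kernel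
theorem mc_chkX_544 : mcChkX (25 * 544) 25 = true := by decide +kernel
theorem mc_chkX_545 : mcChkX (25 * 545) 25 = true := by decide +kernel
theorem mc_chkX_546 : mcChkX (25 * 546) 25 = true := by decide +kernel
theorem mc_chkX_547 : mcChkX (25 * 547) 25 = true := by decide +kernel
theorem mc_chkX_548 : mcChkX (25 * 548) 25 = true := by decide +kernel
theorem mc_chkX_549 : mcChkX (25 * 549) 25 = true := by decide +kernel
theorem mc_chkX_550 : mcChkX (25 * 550) 25 = true := by decide +kernel
theorem mc_chkX_551 : mcChkX (25 * 551) 25 = true := by decide +kernel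
theorem mc_chkX_552 : mcChkX (25 * 552) 25 = true := by decide +kernel
theorem mc_chkX_553 : mcChkX (25 * 553) 25 = true := by decide +kernel
theorem mc_chkX_554 : mcChkX (25 * 554) 25 = true := by decide +kernel
theorem mc_chkX_555 : mcChkX (25 * 555) 25 = true := by decide +kernel
theorem mc_chkX_556 : mcChkX (25 * 556) 25 = true := by decide +kernel
theorem mc_chkX_557 : mcChkX (25 * 557) 25 = true := by decide +kernel
theorem mc_chkX_558 : mcChkX (25 * 558) 25 = true := by decide +kernel
theorem mc_chkX_559 : mcChkX (25 * 559) 25 = true := by decide +kernel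
theorem mc_chkX_560 : mcChkX (25 * 560) 25 = true := by decide +kernel
theorem mc_chkX_561 : mcChkX (25 * 561) 25 = true := by decide +kernel
theorem mc_chkX_562 : mcChkX (25 * 562) 25 = true := by decide +kernel
theorem mc_chkX_563 : mcChkX (25 * 563) 25 = true := by decide +kernel
theorem mc_chkX_564 : mcChkX (25 * 564) 25 = true := by decide +kernel
theorem mc_chkX_565 : mcChkX (25 * 565) 25 = true := by decide +kernel
theorem mc_chkX_566 : mcChkX (25 * 566) 25 = true := by decide +kernel
theorem mc_chkX_567 : mcChkX (25 * 567) 25 = true := by decide +kernel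
theorem mc_chkX_568 : mcChkX (25 * 568) 25 = true := by decide +kernel
theorem mc_chkX_569 : mcChkX (25 * 569) 25 = true := by decide +kernel
theorem mc_chkX_570 : mcChkX (25 * 570) 25 = true := by decide +kernel
theorem mc_chkX_571 : mcChkX (25 * 571) 25 = true := by decide +kernel
theorem mc_chkX_572 : mcChkX (25 * 572) 25 = true := by decide +kernel
theorem mc_chkX_573 : mcChkX (25 * 573) 25 = true := by decide +kernel
theorem mc_chkX_574 : mcChkX (25 * 574) 25 = true := by decide +kernel
theorem mc_chkX_575 : mcChkX (25 * 575) 25 = true := by decide +kernel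
theorem mc_chkX_576 : mcChkX (25 * 576) 25 = true := by decide +kernel
theorem mc_chkX_577 : mcChkX (25 * 577) 25 = true := by decide +kernel
theorem mc_chkX_578 : mcChkX (25 * 578) 25 = true := by decide +kernel
theorem mc_chkX_579 : mcChkX (25 * 579) 25 = true := by decide +kernel
theorem mc_chkX_580 : mcChkX (25 * 580) 25 = true := by decide +kernel
theorem mc_chkX_581 : mcChkX (25 * 581) 25 = true := by decide +kernel
theorem mc_chkX_582 : mcChkX (25 * 582) 25 = true := by decide +kernel
theorem mc_chkX_583 : mcChkX (25 * 583) 25 = true := by decide +kernel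
theorem mc_chkX_584 : mcChkX (25 * 584) 25 = true := by decide +kernel
theorem mc_chkX_585 : mcChkX (25 * 585) 25 = true := by decide +kernel
theorem mc_chkX_586 : mcChkX (25 * 586) 25 = true := by decide +kernel
theorem mc_chkX_587 : mcChkX (25 * 587) 25 = true := by decide +kernel
theorem mc_chkX_588 : mcChkX (25 * 588) 25 = true := by decide +kernel
theorem mc_chkX_589 : mcChkX (25 * 589) 25 = true := by decide +kernel
theorem mc_chkX_590 : mcChkX (25 * 590) 25 = true := by decide +kernel
theorem mc_chkX_591 : mcChkX (25 * 591) 25 = true := by decide +kernel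
theorem mc_chkX_592 : mcChkX (25 * 592) 25 = true := by decide +kernel
theorem mc_chkX_593 : mcChkX (25 * 593) 25 = true := by decide +kernel
theorem mc_chkX_594 : mcChkX (25 * 594) 25 = true := by decide +kernel
theorem mc_chkX_595 : mcChkX (25 * 595) 25 = true := by decide +kernel
theorem mc_chkX_596 : mcChkX (25 * 596) 25 = true := by decide +kernel
theorem mc_chkX_597 : mcChkX (25 * 597) 25 = true := by decide +kernel
theorem mc_chkX_598 : mcChkX (25 * 598) 25 = true := by decide +kernel
theorem mc_chkX_599 : mcChkX (25 * 599) 25 = true := by decide +kernel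

theorem mc_chkX_f5 (c : ℕ) (h1 : 500 ≤ c) (h2 : c < 600) : mcChkX (25 * c) 25 = true := by
  interval_cases c
  · exact mc_chkX_500
  · exact mc_chkX_501
  · exact mc_chkX_502
  · exact mc_chkX_503
  · exact mc_chkX_504
  · exact mc_chkX_505
  · exact mc_chkX_506
  · exact mc_chkX_507
  · exact mc_chkX_508
  · exact mc_chkX_509
  · exact mc_chkX_510
  · exact mc_chkX_511
  · exact mc_chkX_512
  · exact mc_chkX_513
  · exact mc_chkX_514
  · exact mc_chkX_515
  · exact mc_chkX_516
  · exact mc_chkX_517
  · exact mc_chkX_518
  · exact mc_chkX_519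
  · exact mc_chkX_520
  · exact mc_chkX_521
  · exact mc_chkX_522
  · exact mc_chkX_523
  · exact mc_chkX_524
  · exact mc_chkX_525
  · exact mc_chkX_526
  · exact mc_chkX_527
  · exact mc_chkX_528
  · exact mc_chkX_529
  · exact mc_chkX_530
  · exact mc_chkX_531
  · exact mc_chkX_532
  · exact mc_chkX_533
  · exact mc_chkX_534
  · exact mc_chkX_535
  · exact mc_chkX_536
  · exact mc_chkX_537
  · exact mc_chkX_538
  · exact mc_chkX_539
  · exact mc_chkX_540
  · exact mc_chkX_541
  · exact mc_chkX_542
  · exact mc_chkX_543
  · exact mc_chkX_544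
  · exact mc_chkX_545
  · exact mc_chkX_546
  · exact mc_chkX_547
  · exact mc_chkX_548
  · exact mc_chkX_549
  · exact mc_chkX_550
  · exact mc_chkX_551
  · exact mc_chkX_552
  · exact mc_chkX_553
  · exact mc_chkX_554
  · exact mc_chkX_555
  · exact mc_chkX_556
  · exact mc_chkX_557
  · exact mc_chkX_558
  · exact mc_chkX_559
  · exact mc_chkX_560
  · exact mc_chkX_561
  · exact mc_chkX_562
  · exact mc_chkX_563
  · exact mc_chkX_564
  · exact mc_chkX_565
  · exact mc_chkX_566
  · exact mc_chkX_567
  · exact mc_chkX_568
  · exact mc_chkX_569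
  · exact mc_chkX_570
  · exact mc_chkX_571
  · exact mc_chkX_572
  · exact mc_chkX_573
  · exact mc_chkX_574
  · exact mc_chkX_575
  · exact mc_chkX_576
  · exact mc_chkX_577
  · exact mc_chkX_578
  · exact mc_chkX_579
  · exact mc_chkX_580
  · exact mc_chkX_581
  · exact mc_chkX_582
  · exact mc_chkX_583
  · exact mc_chkX_584
  · exact mc_chkX_585
  · exact mc_chkX_586
  · exact mc_chkX_587
  · exact mc_chkX_588
  · exact mc_chkX_589
  · exact mc_chkX_590
  · exact mc_chkX_591
  · exact mc_chkX_592
  · exact mc_chkX_593
  · exact mc_chkX_594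
  · exact mc_chkX_595
  · exact mc_chkX_596
  · exact mc_chkX_597
  · exact mc_chkX_598
  · exact mc_chkX_599

end Cfsg.Agent.Helper86
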