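import Cfsg.Agent.Helper86.McLFWord

/-!
# The 2-local structure of the McLaughlin group: certificates X6 (seat helper86)

Kernel evaluations of the boolean checks of `Cfsg.Agent.Helper86.McLFWord`.
-/

set_option autoImplicit false
set_option maxRecDepth 100000

namespace Cfsg.Agent.Helper86

theorem mc_chkX_600 : mcChkX (25 * 600) 25 = true := by decide +kernel
theorem mc_chkX_601 : mcChkX (25 * 601) 25 = true := by decide +kernel
theorem mc_chkX_602 : mcChkX (25 * 602) 25 = true := by decide +kernel
theorem mc_chkX_603 : mcChkX (25 * 603) 25 = true := by decide +kernel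
theorem mc_chkX_604 : mcChkX (25 * 604) 25 = true := by decide +kernel
theorem mc_chkX_605 : mcChkX (25 * 605) 25 = true := by decide +kernel
theorem mc_chkX_606 : mcChkX (25 * 606) 25 = true := by decide +kernel
theorem mc_chkX_607 : mcChkX (25 * 607) 25 = true := by decide +kernel
theorem mc_chkX_608 : mcChkX (25 * 608) 25 = true := by decide +kernel
theorem mc_chkX_609 : mcChkX (25 * 609) 25 = true := by decide +kernel
theorem mc_chkX_610 : mcChkX (25 * 610) 25 = true := by decide +kernel
theorem mc_chkX_611 : mcChkX (25 * 611) 25 = true := by decide +kernel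
theorem mc_chkX_612 : mcChkX (25 * 612) 25 = true := by decide +kernel
theorem mc_chkX_613 : mcChkX (25 * 613) 25 = true := by decide +kernel
theorem mc_chkX_614 : mcChkX (25 * 614) 25 = true := by decide +kernel
theorem mc_chkX_615 : mcChkX (25 * 615) 25 = true := by decide +kernel
theorem mc_chkX_616 : mcChkX (25 * 616) 25 = true := by decide +kernel
theorem mc_chkX_617 : mcChkX (25 * 617) 25 = true := by decide +kernel
theorem mc_chkX_618 : mcChkX (25 * 618) 25 = true := by decide +kernel
theorem mc_chkX_619 : mcChkX (25 * 619) 25 = true := by decide +kernel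
theorem mc_chkX_620 : mcChkX (25 * 620) 25 = true := by decide +kernel
theorem mc_chkX_621 : mcChkX (25 * 621) 25 = true := by decide +kernel
theorem mc_chkX_622 : mcChkX (25 * 622) 25 = true := by decide +kernel
theorem mc_chkX_623 : mcChkX (25 * 623) 25 = true := by decide +kernel
theorem mc_chkX_624 : mcChkX (25 * 624) 25 = true := by decide +kernel
theorem mc_chkX_625 : mcChkX (25 * 625) 25 = true := by decide +kernel
theorem mc_chkX_626 : mcChkX (25 * 626) 25 = true := by decide +kernel
theorem mc_chkX_627 : mcChkX (25 * 627) 25 = true := by decide +kernel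
theorem mc_chkX_628 : mcChkX (25 * 628) 25 = true := by decide +kernel
theorem mc_chkX_629 : mcChkX (25 * 629) 25 = true := by decide +kernel
theorem mc_chkX_630 : mcChkX (25 * 630) 25 = true := by decide +kernel
theorem mc_chkX_631 : mcChkX (25 * 631) 25 = true := by decide +kernel
theorem mc_chkX_632 : mcChkX (25 * 632) 25 = true := by decide +kernel
theorem mc_chkX_633 : mcChkX (25 * 633) 25 = true := by decide +kernel
theorem mc_chkX_634 : mcChkX (25 * 634) 25 = true := by decide +kernel
theorem mc_chkX_635 : mcChkX (25 * 635) 25 = true := by decide +kernel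
theorem mc_chkX_636 : mcChkX (25 * 636) 25 = true := by decide +kernel
theorem mc_chkX_637 : mcChkX (25 * 637) 25 = true := by decide +kernel
theorem mc_chkX_638 : mcChkX (25 * 638) 25 = true := by decide +kernel
theorem mc_chkX_639 : mcChkX (25 * 639) 25 = true := by decide +kernel
theorem mc_chkX_640 : mcChkX (25 * 640) 25 = true := by decide +kernel
theorem mc_chkX_641 : mcChkX (25 * 641) 25 = true := by decide +kernel
theorem mc_chkX_642 : mcChkX (25 * 642) 25 = true := by decide +kernel
theorem mc_chkX_643 : mcChkX (25 * 643) 25 = true := by decide +kernel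
theorem mc_chkX_644 : mcChkX (25 * 644) 25 = true := by decide +kernel
theorem mc_chkX_645 : mcChkX (25 * 645) 25 = true := by decide +kernel
theorem mc_chkX_646 : mcChkX (25 * 646) 25 = true := by decide +kernel
theorem mc_chkX_647 : mcChkX (25 * 647) 25 = true := by decide +kernel
theorem mc_chkX_648 : mcChkX (25 * 648) 25 = true := by decide +kernel
theorem mc_chkX_649 : mcChkX (25 * 649) 25 = true := by decide +kernel
theorem mc_chkX_650 : mcChkX (25 * 650) 25 = true := by decide +kernel
theorem mc_chkX_651 : mcChkX (25 * 651) 25 = true := by decide +kernel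
theorem mc_chkX_652 : mcChkX (25 * 652) 25 = true := by decide +kernel
theorem mc_chkX_653 : mcChkX (25 * 653) 25 = true := by decide +kernel
theorem mc_chkX_654 : mcChkX (25 * 654) 25 = true := by decide +kernel
theorem mc_chkX_655 : mcChkX (25 * 655) 25 = true := by decide +kernel
theorem mc_chkX_656 : mcChkX (25 * 656) 25 = true := by decide +kernel
theorem mc_chkX_657 : mcChkX (25 * 657) 25 = true := by decide +kernel
theorem mc_chkX_658 : mcChkX (25 * 658) 25 = true := by decide +kernel
theorem mc_chkX_659 : mcChkX (25 * 659) 25 = true := by decide +kernel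
theorem mc_chkX_660 : mcChkX (25 * 660) 25 = true := by decide +kernel
theorem mc_chkX_661 : mcChkX (25 * 661) 25 = true := by decide +kernel
theorem mc_chkX_662 : mcChkX (25 * 662) 25 = true := by decide +kernel
theorem mc_chkX_663 : mcChkX (25 * 663) 25 = true := by decide +kernel
theorem mc_chkX_664 : mcChkX (25 * 664) 25 = true := by decide +kernel
theorem mc_chkX_665 : mcChkX (25 * 665) 25 = true := by decide +kernel
theorem mc_chkX_666 : mcChkX (25 * 666) 25 = true := by decide +kernel
theorem mc_chkX_667 : mcChkX (25 * 667) 25 = true := by decide +kernel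
theorem mc_chkX_668 : mcChkX (25 * 668) 25 = true := by decide +kernel
theorem mc_chkX_669 : mcChkX (25 * 669) 25 = true := by decide +kernel
theorem mc_chkX_670 : mcChkX (25 * 670) 25 = true := by decide +kernel
theorem mc_chkX_671 : mcChkX (25 * 671) 25 = true := by decide +kernel
theorem mc_chkX_672 : mcChkX (25 * 672) 25 = true := by decide +kernel
theorem mc_chkX_673 : mcChkX (25 * 673) 25 = true := by decide +kernel
theorem mc_chkX_674 : mcChkX (25 * 674) 25 = true := by decide +kernel
theorem mc_chkX_675 : mcChkX (25 * 675) 25 = true := by decide +kernel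
theorem mc_chkX_676 : mcChkX (25 * 676) 25 = true := by decide +kernel
theorem mc_chkX_677 : mcChkX (25 * 677) 25 = true := by decide +kernel
theorem mc_chkX_678 : mcChkX (25 * 678) 25 = true := by decide +kernel
theorem mc_chkX_679 : mcChkX (25 * 679) 25 = true := by decide +kernel
theorem mc_chkX_680 : mcChkX (25 * 680) 25 = true := by decide +kernel
theorem mc_chkX_681 : mcChkX (25 * 681) 25 = true := by decide +kernel
theorem mc_chkX_682 : mcChkX (25 * 682) 25 = true := by decide +kernel
theorem mc_chkX_683 : mcChkX (25 * 683) 25 = true := by decide +kernel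
theorem mc_chkX_684 : mcChkX (25 * 684) 25 = true := by decide +kernel
theorem mc_chkX_685 : mcChkX (25 * 685) 25 = true := by decide +kernel
theorem mc_chkX_686 : mcChkX (25 * 686) 25 = true := by decide +kernel
theorem mc_chkX_687 : mcChkX (25 * 687) 25 = true := by decide +kernel
theorem mc_chkX_688 : mcChkX (25 * 688) 25 = true := by decide +kernel
theorem mc_chkX_689 : mcChkX (25 * 689) 25 = true := by decide +kernel
theorem mc_chkX_690 : mcChkX (25 * 690) 25 = true := by decide +kernel
theorem mc_chkX_691 : mcChkX (25 * 691) 25 = true := by decide +kernel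
theorem mc_chkX_692 : mcChkX (25 * 692) 25 = true := by decide +kernel
theorem mc_chkX_693 : mcChkX (25 * 693) 25 = true := by decide +kernel
theorem mc_chkX_694 : mcChkX (25 * 694) 25 = true := by decide +kernel
theorem mc_chkX_695 : mcChkX (25 * 695) 25 = true := by decide +kernel
theorem mc_chkX_696 : mcChkX (25 * 696) 25 = true := by decide +kernel
theorem mc_chkX_697 : mcChkX (25 * 697) 25 = true := by decide +kernel
theorem mc_chkX_698 : mcChkX (25 * 698) 25 = true := by decide +kernel
theorem mc_chkX_699 : mcChkX (25 * 699) 25 = true := by decide +kernel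

theorem mc_chkX_f6 (c : ℕ) (h1 : 600 ≤ c) (h2 : c < 700) : mcChkX (25 * c) 25 = true := by
  interval_cases c
  · exact mc_chkX_600
  · exact mc_chkX_601
  · exact mc_chkX_602
  · exact mc_chkX_603
  · exact mc_chkX_604
  · exact mc_chkX_605
  · exact mc_chkX_606
  · exact mc_chkX_607
  · exact mc_chkX_608
  · exact mc_chkX_609
  · exact mc_chkX_610
  · exact mc_chkX_611
  · exact mc_chkX_612
  · exact mc_chkX_613
  · exact mc_chkX_614
  · exact mc_chkX_615
  · exact mc_chkX_616
  · exact mc_chkX_617
  · exact mc_chkX_618
  · exact mc_chkX_619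
  · exact mc_chkX_620
  · exact mc_chkX_621
  · exact mc_chkX_622
  · exact mc_chkX_623
  · exact mc_chkX_624
  · exact mc_chkX_625
  · exact mc_chkX_626
  · exact mc_chkX_627
  · exact mc_chkX_628
  · exact mc_chkX_629
  · exact mc_chkX_630
  · exact mc_chkX_631
  · exact mc_chkX_632
  · exact mc_chkX_633
  · exact mc_chkX_634
  · exact mc_chkX_635
  · exact mc_chkX_636
  · exact mc_chkX_637
  · exact mc_chkX_638
  · exact mc_chkX_639
  · exact mc_chkX_640
  · exact mc_chkX_641
  · exact mc_chkX_642
  · exact mc_chkX_643
  · exact mc_chkX_644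
  · exact mc_chkX_645
  · exact mc_chkX_646
  · exact mc_chkX_647
  · exact mc_chkX_648
  · exact mc_chkX_649
  · exact mc_chkX_650
  · exact mc_chkX_651
  · exact mc_chkX_652
  · exact mc_chkX_653
  · exact mc_chkX_654
  · exact mc_chkX_655
  · exact mc_chkX_656
  · exact mc_chkX_657
  · exact mc_chkX_658
  · exact mc_chkX_659
  · exact mc_chkX_660
  · exact mc_chkX_661
  · exact mc_chkX_662
  · exact mc_chkX_663
  · exact mc_chkX_664
  · exact mc_chkX_665
  · exact mc_chkX_666
  · exact mc_chkX_667
  · exact mc_chkX_668
  · exact mc_chkX_669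
  · exact mc_chkX_670
  · exact mc_chkX_671
  · exact mc_chkX_672
  · exact mc_chkX_673
  · exact mc_chkX_674
  · exact mc_chkX_675
  · exact mc_chkX_676
  · exact mc_chkX_677
  · exact mc_chkX_678
  · exact mc_chkX_679
  · exact mc_chkX_680
  · exact mc_chkX_681
  · exact mc_chkX_682
  · exact mc_chkX_683
  · exact mc_chkX_684
  · exact mc_chkX_685
  · exact mc_chkX_686
  · exact mc_chkX_687
  · exact mc_chkX_688
  · exact mc_chkX_689
  · exact mc_chkX_690
  · exact mc_chkX_691
  · exact mc_chkX_692
  · exact mc_chkX_693
  · exact mc_chkX_694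
  · exact mc_chkX_695
  · exact mc_chkX_696
  · exact mc_chkX_697
  · exact mc_chkX_698
  · exact mc_chkX_699

end Cfsg.Agent.Helper86
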