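import Cfsg.Agent.Helper86.McLFWord

/-!
# The 2-local structure of the McLaughlin group: certificates X7 (seat helper86)

Kernel evaluations of the boolean checks of `Cfsg.Agent.Helper86.McLFWord`.
-/

set_option autoImplicit false
set_option maxRecDepth 100000

namespace Cfsg.Agent.Helper86

theorem mc_chkX_700 : mcChkX (25 * 700) 25 = true := by decide +kernel
theorem mc_chkX_701 : mcChkX (25 * 701) 25 = true := by decide +kernel
theorem mc_chkX_702 : mcChkX (25 * 702) 25 = true := by decide +kernel
theorem mc_chkX_703 : mcChkX (25 * 703) 25 = true := by decide +kernel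
theorem mc_chkX_704 : mcChkX (25 * 704) 25 = true := by decide +kernel
theorem mc_chkX_705 : mcChkX (25 * 705) 25 = true := by decide +kernel
theorem mc_chkX_706 : mcChkX (25 * 706) 25 = true := by decide +kernel
theorem mc_chkX_707 : mcChkX (25 * 707) 25 = true := by decide +kernel
theorem mc_chkX_708 : mcChkX (25 * 708) 25 = true := by decide +kernel
theorem mc_chkX_709 : mcChkX (25 * 709) 25 = true := by decide +kernel
theorem mc_chkX_710 : mcChkX (25 * 710) 25 = true := by decide +kernel
theorem mc_chkX_711 : mcChkX (25 * 711) 25 = true := by decide +kernel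
theorem mc_chkX_712 : mcChkX (25 * 712) 25 = true := by decide +kernel
theorem mc_chkX_713 : mcChkX (25 * 713) 25 = true := by decide +kernel
theorem mc_chkX_714 : mcChkX (25 * 714) 25 = true := by decide +kernel
theorem mc_chkX_715 : mcChkX (25 * 715) 25 = true := by decide +kernel
theorem mc_chkX_716 : mcChkX (25 * 716) 25 = true := by decide +kernel
theorem mc_chkX_717 : mcChkX (25 * 717) 25 = true := by decide +kernel
theorem mc_chkX_718 : mcChkX (25 * 718) 25 = true := by decide +kernel
theorem mc_chkX_719 : mcChkX (25 * 719) 25 = true := by decide +kernel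
theorem mc_chkX_720 : mcChkX (25 * 720) 25 = true := by decide +kernel
theorem mc_chkX_721 : mcChkX (25 * 721) 25 = true := by decide +kernel
theorem mc_chkX_722 : mcChkX (25 * 722) 25 = true := by decide +kernel
theorem mc_chkX_723 : mcChkX (25 * 723) 25 = true := by decide +kernel
theorem mc_chkX_724 : mcChkX (25 * 724) 25 = true := by decide +kernel
theorem mc_chkX_725 : mcChkX (25 * 725) 25 = true := by decide +kernel
theorem mc_chkX_726 : mcChkX (25 * 726) 25 = true := by decide +kernel
theorem mc_chkX_727 : mcChkX (25 * 727) 25 = true := by decide +kernel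
theorem mc_chkX_728 : mcChkX (25 * 728) 25 = true := by decide +kernel
theorem mc_chkX_729 : mcChkX (25 * 729) 25 = true := by decide +kernel
theorem mc_chkX_730 : mcChkX (25 * 730) 25 = true := by decide +kernel
theorem mc_chkX_731 : mcChkX (25 * 731) 25 = true := by decide +kernel
theorem mc_chkX_732 : mcChkX (25 * 732) 25 = true := by decide +kernel
theorem mc_chkX_733 : mcChkX (25 * 733) 25 = true := by decide +kernel
theorem mc_chkX_734 : mcChkX (25 * 734) 25 = true := by decide +kernel
theorem mc_chkX_735 : mcChkX (25 * 735) 25 = true := by decide +kernel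
theorem mc_chkX_736 : mcChkX (25 * 736) 25 = true := by decide +kernel
theorem mc_chkX_737 : mcChkX (25 * 737) 25 = true := by decide +kernel
theorem mc_chkX_738 : mcChkX (25 * 738) 25 = true := by decide +kernel
theorem mc_chkX_739 : mcChkX (25 * 739) 25 = true := by decide +kernel
theorem mc_chkX_740 : mcChkX (25 * 740) 25 = true := by decide +kernel
theorem mc_chkX_741 : mcChkX (25 * 741) 25 = true := by decide +kernel
theorem mc_chkX_742 : mcChkX (25 * 742) 25 = true := by decide +kernel
theorem mc_chkX_743 : mcChkX (25 * 743) 25 = true := by decide +kernel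
theorem mc_chkX_744 : mcChkX (25 * 744) 25 = true := by decide +kernel
theorem mc_chkX_745 : mcChkX (25 * 745) 25 = true := by decide +kernel
theorem mc_chkX_746 : mcChkX (25 * 746) 25 = true := by decide +kernel
theorem mc_chkX_747 : mcChkX (25 * 747) 25 = true := by decide +kernel
theorem mc_chkX_748 : mcChkX (25 * 748) 25 = true := by decide +kernel
theorem mc_chkX_749 : mcChkX (25 * 749) 25 = true := by decide +kernel
theorem mc_chkX_750 : mcChkX (25 * 750) 25 = true := by decide +kernel
theorem mc_chkX_751 : mcChkX (25 * 751) 25 = true := by decide +kernel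
theorem mc_chkX_752 : mcChkX (25 * 752) 25 = true := by decide +kernel
theorem mc_chkX_753 : mcChkX (25 * 753) 25 = true := by decide +kernel
theorem mc_chkX_754 : mcChkX (25 * 754) 25 = true := by decide +kernel
theorem mc_chkX_755 : mcChkX (25 * 755) 25 = true := by decide +kernel
theorem mc_chkX_756 : mcChkX (25 * 756) 25 = true := by decide +kernel
theorem mc_chkX_757 : mcChkX (25 * 757) 25 = true := by decide +kernel
theorem mc_chkX_758 : mcChkX (25 * 758) 25 = true := by decide +kernel
theorem mc_chkX_759 : mcChkX (25 * 759) 25 = true := by decide +kernel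
theorem mc_chkX_760 : mcChkX (25 * 760) 25 = true := by decide +kernel
theorem mc_chkX_761 : mcChkX (25 * 761) 25 = true := by decide +kernel
theorem mc_chkX_762 : mcChkX (25 * 762) 25 = true := by decide +kernel
theorem mc_chkX_763 : mcChkX (25 * 763) 25 = true := by decide +kernel
theorem mc_chkX_764 : mcChkX (25 * 764) 25 = true := by decide +kernel
theorem mc_chkX_765 : mcChkX (25 * 765) 25 = true := by decide +kernel
theorem mc_chkX_766 : mcChkX (25 * 766) 25 = true := by decide +kernel
theorem mc_chkX_767 : mcChkX (25 * 767) 25 = true := by decide +kernel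
theorem mc_chkX_768 : mcChkX (25 * 768) 25 = true := by decide +kernel
theorem mc_chkX_769 : mcChkX (25 * 769) 25 = true := by decide +kernel
theorem mc_chkX_770 : mcChkX (25 * 770) 25 = true := by decide +kernel
theorem mc_chkX_771 : mcChkX (25 * 771) 25 = true := by decide +kernel
theorem mc_chkX_772 : mcChkX (25 * 772) 25 = true := by decide +kernel
theorem mc_chkX_773 : mcChkX (25 * 773) 25 = true := by decide +kernel
theorem mc_chkX_774 : mcChkX (25 * 774) 25 = true := by decide +kernel
theorem mc_chkX_775 : mcChkX (25 * 775) 25 = true := by decide +kernel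
theorem mc_chkX_776 : mcChkX (25 * 776) 25 = true := by decide +kernel
theorem mc_chkX_777 : mcChkX (25 * 777) 25 = true := by decide +kernel
theorem mc_chkX_778 : mcChkX (25 * 778) 25 = true := by decide +kernel
theorem mc_chkX_779 : mcChkX (25 * 779) 25 = true := by decide +kernel
theorem mc_chkX_780 : mcChkX (25 * 780) 25 = true := by decide +kernel
theorem mc_chkX_781 : mcChkX (25 * 781) 25 = true := by decide +kernel
theorem mc_chkX_782 : mcChkX (25 * 782) 25 = true := by decide +kernel
theorem mc_chkX_783 : mcChkX (25 * 783) 25 = true := by decide +kernel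
theorem mc_chkX_784 : mcChkX (25 * 784) 25 = true := by decide +kernel
theorem mc_chkX_785 : mcChkX (25 * 785) 25 = true := by decide +kernel
theorem mc_chkX_786 : mcChkX (25 * 786) 25 = true := by decide +kernel
theorem mc_chkX_787 : mcChkX (25 * 787) 25 = true := by decide +kernel
theorem mc_chkX_788 : mcChkX (25 * 788) 25 = true := by decide +kernel
theorem mc_chkX_789 : mcChkX (25 * 789) 25 = true := by decide +kernel
theorem mc_chkX_790 : mcChkX (25 * 790) 25 = true := by decide +kernel
theorem mc_chkX_791 : mcChkX (25 * 791) 25 = true := by decide +kernel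
theorem mc_chkX_792 : mcChkX (25 * 792) 25 = true := by decide +kernel
theorem mc_chkX_793 : mcChkX (25 * 793) 25 = true := by decide +kernel
theorem mc_chkX_794 : mcChkX (25 * 794) 25 = true := by decide +kernel
theorem mc_chkX_795 : mcChkX (25 * 795) 25 = true := by decide +kernel
theorem mc_chkX_796 : mcChkX (25 * 796) 25 = true := by decide +kernel
theorem mc_chkX_797 : mcChkX (25 * 797) 25 = true := by decide +kernel
theorem mc_chkX_798 : mcChkX (25 * 798) 25 = true := by decide +kernel
theorem mc_chkX_799 : mcChkX (25 * 799) 25 = true := by decide +kernel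

theorem mc_chkX_f7 (c : ℕ) (h1 : 700 ≤ c) (h2 : c < 800) : mcChkX (25 * c) 25 = true := by
  interval_cases c
  · exact mc_chkX_700
  · exact mc_chkX_701
  · exact mc_chkX_702
  · exact mc_chkX_703
  · exact mc_chkX_704
  · exact mc_chkX_705
  · exact mc_chkX_706
  · exact mc_chkX_707
  · exact mc_chkX_708
  · exact mc_chkX_709
  · exact mc_chkX_710
  · exact mc_chkX_711
  · exact mc_chkX_712
  · exact mc_chkX_713
  · exact mc_chkX_714
  · exact mc_chkX_715
  · exact mc_chkX_716
  · exact mc_chkX_717
  · exact mc_chkX_718
  · exact mc_chkX_719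
  · exact mc_chkX_720
  · exact mc_chkX_721
  · exact mc_chkX_722
  · exact mc_chkX_723
  · exact mc_chkX_724
  · exact mc_chkX_725
  · exact mc_chkX_726
  · exact mc_chkX_727
  · exact mc_chkX_728
  · exact mc_chkX_729
  · exact mc_chkX_730
  · exact mc_chkX_731
  · exact mc_chkX_732
  · exact mc_chkX_733
  · exact mc_chkX_734
  · exact mc_chkX_735
  · exact mc_chkX_736
  · exact mc_chkX_737
  · exact mc_chkX_738
  · exact mc_chkX_739
  · exact mc_chkX_740
  · exact mc_chkX_741
  · exact mc_chkX_742
  · exact mc_chkX_743
  · exact mc_chkX_744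
  · exact mc_chkX_745
  · exact mc_chkX_746
  · exact mc_chkX_747
  · exact mc_chkX_748
  · exact mc_chkX_749
  · exact mc_chkX_750
  · exact mc_chkX_751
  · exact mc_chkX_752
  · exact mc_chkX_753
  · exact mc_chkX_754
  · exact mc_chkX_755
  · exact mc_chkX_756
  · exact mc_chkX_757
  · exact mc_chkX_758
  · exact mc_chkX_759
  · exact mc_chkX_760
  · exact mc_chkX_761
  · exact mc_chkX_762
  · exact mc_chkX_763
  · exact mc_chkX_764
  · exact mc_chkX_765
  · exact mc_chkX_766
  · exact mc_chkX_767
  · exact mc_chkX_768
  · exact mc_chkX_769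
  · exact mc_chkX_770
  · exact mc_chkX_771
  · exact mc_chkX_772
  · exact mc_chkX_773
  · exact mc_chkX_774
  · exact mc_chkX_775
  · exact mc_chkX_776
  · exact mc_chkX_777
  · exact mc_chkX_778
  · exact mc_chkX_779
  · exact mc_chkX_780
  · exact mc_chkX_781
  · exact mc_chkX_782
  · exact mc_chkX_783
  · exact mc_chkX_784
  · exact mc_chkX_785
  · exact mc_chkX_786
  · exact mc_chkX_787
  · exact mc_chkX_788
  · exact mc_chkX_789
  · exact mc_chkX_790
  · exact mc_chkX_791
  · exact mc_chkX_792
  · exact mc_chkX_793
  · exact mc_chkX_794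
  · exact mc_chkX_795
  · exact mc_chkX_796
  · exact mc_chkX_797
  · exact mc_chkX_798
  · exact mc_chkX_799

end Cfsg.Agent.Helper86
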