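import Cfsg.Agent.Helper86.McLFWord

/-!
# The 2-local structure of the McLaughlin group: certificates X8 (seat helper86)

Kernel evaluations of the boolean checks of `Cfsg.Agent.Helper86.McLFWord`.
-/

set_option autoImplicit false
set_option maxRecDepth 100000

namespace Cfsg.Agent.Helper86

theorem mc_chkX_800 : mcChkX (25 * 800) 25 = true := by decide +kernel
theorem mc_chkX_801 : mcChkX (25 * 801) 25 = true := by decide +kernel
theorem mc_chkX_802 : mcChkX (25 * 802) 25 = true := by decide +kernel
theorem mc_chkX_803 : mcChkX (25 * 803) 25 = true := by decide +kernel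
theorem mc_chkX_804 : mcChkX (25 * 804) 25 = true := by decide +kernel
theorem mc_chkX_805 : mcChkX (25 * 805) 25 = true := by decide +kernel
theorem mc_chkX_806 : mcChkX (25 * 806) 25 = true := by decide +kernel
theorem mc_chkX_807 : mcChkX (25 * 807) 25 = true := by decide +kernel
theorem mc_chkX_808 : mcChkX (25 * 808) 25 = true := by decide +kernel
theorem mc_chkX_809 : mcChkX (25 * 809) 25 = true := by decide +kernel
theorem mc_chkX_810 : mcChkX (25 * 810) 25 = true := by decide +kernel
theorem mc_chkX_811 : mcChkX (25 * 811) 25 = true := by decide +kernel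
theorem mc_chkX_812 : mcChkX (25 * 812) 25 = true := by decide +kernel
theorem mc_chkX_813 : mcChkX (25 * 813) 25 = true := by decide +kernel
theorem mc_chkX_814 : mcChkX (25 * 814) 25 = true := by decide +kernel
theorem mc_chkX_815 : mcChkX (25 * 815) 25 = true := by decide +kernel
theorem mc_chkX_816 : mcChkX (25 * 816) 25 = true := by decide +kernel
theorem mc_chkX_817 : mcChkX (25 * 817) 25 = true := by decide +kernel
theorem mc_chkX_818 : mcChkX (25 * 818) 25 = true := by decide +kernel
theorem mc_chkX_819 : mcChkX (25 * 819) 25 = true := by decide +kernel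
theorem mc_chkX_820 : mcChkX (25 * 820) 25 = true := by decide +kernel
theorem mc_chkX_821 : mcChkX (25 * 821) 25 = true := by decide +kernel
theorem mc_chkX_822 : mcChkX (25 * 822) 25 = true := by decide +kernel
theorem mc_chkX_823 : mcChkX (25 * 823) 25 = true := by decide +kernel
theorem mc_chkX_824 : mcChkX (25 * 824) 25 = true := by decide +kernel
theorem mc_chkX_825 : mcChkX (25 * 825) 25 = true := by decide +kernel
theorem mc_chkX_826 : mcChkX (25 * 826) 25 = true := by decide +kernel
theorem mc_chkX_827 : mcChkX (25 * 827) 25 = true := by decide +kernel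
theorem mc_chkX_828 : mcChkX (25 * 828) 25 = true := by decide +kernel
theorem mc_chkX_829 : mcChkX (25 * 829) 25 = true := by decide +kernel
theorem mc_chkX_830 : mcChkX (25 * 830) 25 = true := by decide +kernel
theorem mc_chkX_831 : mcChkX (25 * 831) 25 = true := by decide +kernel
theorem mc_chkX_832 : mcChkX (25 * 832) 25 = true := by decide +kernel
theorem mc_chkX_833 : mcChkX (25 * 833) 25 = true := by decide +kernel
theorem mc_chkX_834 : mcChkX (25 * 834) 25 = true := by decide +kernel
theorem mc_chkX_835 : mcChkX (25 * 835) 25 = true := by decide +kernel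
theorem mc_chkX_836 : mcChkX (25 * 836) 25 = true := by decide +kernel
theorem mc_chkX_837 : mcChkX (25 * 837) 25 = true := by decide +kernel
theorem mc_chkX_838 : mcChkX (25 * 838) 25 = true := by decide +kernel
theorem mc_chkX_839 : mcChkX (25 * 839) 25 = true := by decide +kernel
theorem mc_chkX_840 : mcChkX (25 * 840) 25 = true := by decide +kernel
theorem mc_chkX_841 : mcChkX (25 * 841) 25 = true := by decide +kernel
theorem mc_chkX_842 : mcChkX (25 * 842) 25 = true := by decide +kernel
theorem mc_chkX_843 : mcChkX (25 * 843) 25 = true := by decide +kernel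
theorem mc_chkX_844 : mcChkX (25 * 844) 25 = true := by decide +kernel
theorem mc_chkX_845 : mcChkX (25 * 845) 25 = true := by decide +kernel
theorem mc_chkX_846 : mcChkX (25 * 846) 25 = true := by decide +kernel
theorem mc_chkX_847 : mcChkX (25 * 847) 25 = true := by decide +kernel
theorem mc_chkX_848 : mcChkX (25 * 848) 25 = true := by decide +kernel
theorem mc_chkX_849 : mcChkX (25 * 849) 25 = true := by decide +kernel
theorem mc_chkX_850 : mcChkX (25 * 850) 25 = true := by decide +kernel
theorem mc_chkX_851 : mcChkX (25 * 851) 25 = true := by decide +kernel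
theorem mc_chkX_852 : mcChkX (25 * 852) 25 = true := by decide +kernel
theorem mc_chkX_853 : mcChkX (25 * 853) 25 = true := by decide +kernel
theorem mc_chkX_854 : mcChkX (25 * 854) 25 = true := by decide +kernel
theorem mc_chkX_855 : mcChkX (25 * 855) 25 = true := by decide +kernel
theorem mc_chkX_856 : mcChkX (25 * 856) 25 = true := by decide +kernel
theorem mc_chkX_857 : mcChkX (25 * 857) 25 = true := by decide +kernel
theorem mc_chkX_858 : mcChkX (25 * 858) 25 = true := by decide +kernel
theorem mc_chkX_859 : mcChkX (25 * 859) 25 = true := by decide +kernel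
theorem mc_chkX_860 : mcChkX (25 * 860) 25 = true := by decide +kernel
theorem mc_chkX_861 : mcChkX (25 * 861) 25 = true := by decide +kernel
theorem mc_chkX_862 : mcChkX (25 * 862) 25 = true := by decide +kernel
theorem mc_chkX_863 : mcChkX (25 * 863) 25 = true := by decide +kernel
theorem mc_chkX_864 : mcChkX (25 * 864) 25 = true := by decide +kernel
theorem mc_chkX_865 : mcChkX (25 * 865) 25 = true := by decide +kernel
theorem mc_chkX_866 : mcChkX (25 * 866) 25 = true := by decide +kernel
theorem mc_chkX_867 : mcChkX (25 * 867) 25 = true := by decide +kernel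
theorem mc_chkX_868 : mcChkX (25 * 868) 25 = true := by decide +kernel
theorem mc_chkX_869 : mcChkX (25 * 869) 25 = true := by decide +kernel
theorem mc_chkX_870 : mcChkX (25 * 870) 25 = true := by decide +kernel
theorem mc_chkX_871 : mcChkX (25 * 871) 25 = true := by decide +kernel
theorem mc_chkX_872 : mcChkX (25 * 872) 25 = true := by decide +kernel
theorem mc_chkX_873 : mcChkX (25 * 873) 25 = true := by decide +kernel
theorem mc_chkX_874 : mcChkX (25 * 874) 25 = true := by decide +kernel
theorem mc_chkX_875 : mcChkX (25 * 875) 25 = true := by decide +kernel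
theorem mc_chkX_876 : mcChkX (25 * 876) 25 = true := by decide +kernel
theorem mc_chkX_877 : mcChkX (25 * 877) 25 = true := by decide +kernel
theorem mc_chkX_878 : mcChkX (25 * 878) 25 = true := by decide +kernel
theorem mc_chkX_879 : mcChkX (25 * 879) 25 = true := by decide +kernel
theorem mc_chkX_880 : mcChkX (25 * 880) 25 = true := by decide +kernel
theorem mc_chkX_881 : mcChkX (25 * 881) 25 = true := by decide +kernel
theorem mc_chkX_882 : mcChkX (25 * 882) 25 = true := by decide +kernel
theorem mc_chkX_883 : mcChkX (25 * 883) 25 = true := by decide +kernel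
theorem mc_chkX_884 : mcChkX (25 * 884) 25 = true := by decide +kernel
theorem mc_chkX_885 : mcChkX (25 * 885) 25 = true := by decide +kernel
theorem mc_chkX_886 : mcChkX (25 * 886) 25 = true := by decide +kernel
theorem mc_chkX_887 : mcChkX (25 * 887) 25 = true := by decide +kernel
theorem mc_chkX_888 : mcChkX (25 * 888) 25 = true := by decide +kernel
theorem mc_chkX_889 : mcChkX (25 * 889) 25 = true := by decide +kernel
theorem mc_chkX_890 : mcChkX (25 * 890) 25 = true := by decide +kernel

theorem mc_chkX_f8 (c : ℕ) (h1 : 800 ≤ c) (h2 : c < 891) : mcChkX (25 * c) 25 = true := by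
  interval_cases c
  · exact mc_chkX_800
  · exact mc_chkX_801
  · exact mc_chkX_802
  · exact mc_chkX_803
  · exact mc_chkX_804
  · exact mc_chkX_805
  · exact mc_chkX_806
  · exact mc_chkX_807
  · exact mc_chkX_808
  · exact mc_chkX_809
  · exact mc_chkX_810
  · exact mc_chkX_811
  · exact mc_chkX_812
  · exact mc_chkX_813
  · exact mc_chkX_814
  · exact mc_chkX_815
  · exact mc_chkX_816
  · exact mc_chkX_817
  · exact mc_chkX_818
  · exact mc_chkX_819
  · exact mc_chkX_820
  · exact mc_chkX_821
  · exact mc_chkX_822
  · exact mc_chkX_823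
  · exact mc_chkX_824
  · exact mc_chkX_825
  · exact mc_chkX_826
  · exact mc_chkX_827
  · exact mc_chkX_828
  · exact mc_chkX_829
  · exact mc_chkX_830
  · exact mc_chkX_831
  · exact mc_chkX_832
  · exact mc_chkX_833
  · exact mc_chkX_834
  · exact mc_chkX_835
  · exact mc_chkX_836
  · exact mc_chkX_837
  · exact mc_chkX_838
  · exact mc_chkX_839
  · exact mc_chkX_840
  · exact mc_chkX_841
  · exact mc_chkX_842
  · exact mc_chkX_843
  · exact mc_chkX_844
  · exact mc_chkX_845
  · exact mc_chkX_846
  · exact mc_chkX_847
  · exact mc_chkX_848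
  · exact mc_chkX_849
  · exact mc_chkX_850
  · exact mc_chkX_851
  · exact mc_chkX_852
  · exact mc_chkX_853
  · exact mc_chkX_854
  · exact mc_chkX_855
  · exact mc_chkX_856
  · exact mc_chkX_857
  · exact mc_chkX_858
  · exact mc_chkX_859
  · exact mc_chkX_860
  · exact mc_chkX_861
  · exact mc_chkX_862
  · exact mc_chkX_863
  · exact mc_chkX_864
  · exact mc_chkX_865
  · exact mc_chkX_866
  · exact mc_chkX_867
  · exact mc_chkX_868
  · exact mc_chkX_869
  · exact mc_chkX_870
  · exact mc_chkX_871
  · exact mc_chkX_872
  · exact mc_chkX_873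
  · exact mc_chkX_874
  · exact mc_chkX_875
  · exact mc_chkX_876
  · exact mc_chkX_877
  · exact mc_chkX_878
  · exact mc_chkX_879
  · exact mc_chkX_880
  · exact mc_chkX_881
  · exact mc_chkX_882
  · exact mc_chkX_883
  · exact mc_chkX_884
  · exact mc_chkX_885
  · exact mc_chkX_886
  · exact mc_chkX_887
  · exact mc_chkX_888
  · exact mc_chkX_889
  · exact mc_chkX_890

end Cfsg.Agent.Helper86
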