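import Cfsg.Agent.Helper86.McLFData

/-!
# The 2-local structure of the McLaughlin group: elements (seat helper86, generated)

The 51 elements as products, their packed matrices, and the fast action of words.
-/

set_option autoImplicit false

namespace Cfsg.Agent.Helper86

open Cfsg MulAction Cfsg.Agent.Helper92 Cfsg.Agent.Helper92.Mat Cfsg.Agent.Helper92.Co3Out
  Cfsg.Agent.Helper92.McLOut

theorem mc_pB10_mem : pB10 ∈ mclSub := by
  rw [pB10_eq]
  exact Subgroup.pow_mem _ gB.2 10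

theorem mc_pU3_mem : pU3 ∈ mclSub := by
  have h : pU3 = pU⁻¹ := eq_inv_of_mul_eq_one_right pU_pU3
  rw [h]
  exact Subgroup.inv_mem _ gU.2

/-- element `0` -/
noncomputable def mcE0 : Co0 := List.prod [pB]

theorem mcE0_pk : IsPk mcE0 mcP0 :=
  (isMat_prod_pk (gs := [pB]) (Cs := [bP])
    (.cons isPk_b .nil) (M := mcM0) (by decide +kernel)).isPk (by decide +kernel)

theorem mcE0_mem : mcE0 ∈ mclSub := by
  unfold mcE0
  simp only [List.prod_cons, List.prod_nil]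
  exact (Subgroup.mul_mem _ gB.2 (Subgroup.one_mem _))

theorem mcF0_spec (x : leechLattice) (hn : sqNorm (x : GolayPt → ℤ) ≤ 1024) :
    mcF0 (mcCode x) = mcCode (mcE0 • x) := by
  unfold mcF0
  exact mcMv24_spec mcE0_pk (by decide +kernel) x hn

/-- element `1` -/
noncomputable def mcE1 : Co0 := List.prod [pB10]

theorem mcE1_pk : IsPk mcE1 mcP1 :=
  (isMat_prod_pk (gs := [pB10]) (Cs := [biP])
    (.cons isPk_bi .nil) (M := mcM1) (by decide +kernel)).isPk (by decide +kernel)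

theorem mcE1_mem : mcE1 ∈ mclSub := by
  unfold mcE1
  simp only [List.prod_cons, List.prod_nil]
  exact (Subgroup.mul_mem _ mc_pB10_mem (Subgroup.one_mem _))

theorem mcF1_spec (x : leechLattice) (hn : sqNorm (x : GolayPt → ℤ) ≤ 1024) :
    mcF1 (mcCode x) = mcCode (mcE1 • x) := by
  unfold mcF1
  exact mcMv24_spec mcE1_pk (by decide +kernel) x hn

/-- element `2` -/
noncomputable def mcE2 : Co0 := List.prod [pW]

theorem mcE2_pk : IsPk mcE2 mcP2 :=
  (isMat_prod_pk (gs := [pW]) (Cs := [wP])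
    (.cons isPk_w .nil) (M := mcM2) (by decide +kernel)).isPk (by decide +kernel)

theorem mcE2_mem : mcE2 ∈ mclSub := by
  unfold mcE2
  simp only [List.prod_cons, List.prod_nil]
  exact (Subgroup.mul_mem _ gW.2 (Subgroup.one_mem _))

theorem mcF2_spec (x : leechLattice) (hn : sqNorm (x : GolayPt → ℤ) ≤ 1024) :
    mcF2 (mcCode x) = mcCode (mcE2 • x) := by
  unfold mcF2
  exact mcMv24_spec mcE2_pk (by decide +kernel) x hn

/-- element `3` -/
noncomputable def mcE3 : Co0 := List.prod [pW, pW, pW, pW]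

theorem mcE3_pk : IsPk mcE3 mcP3 :=
  (isMat_prod_pk (gs := [pW, pW, pW, pW]) (Cs := [wP, wP, wP, wP])
    (.cons isPk_w (.cons isPk_w (.cons isPk_w (.cons isPk_w .nil)))) (M := mcM3) (by decide +kernel)).isPk (by decide +kernel)

theorem mcE3_mem : mcE3 ∈ mclSub := by
  unfold mcE3
  simp only [List.prod_cons, List.prod_nil]
  exact (Subgroup.mul_mem _ gW.2 (Subgroup.mul_mem _ gW.2 (Subgroup.mul_mem _ gW.2 (Subgroup.mul_mem _ gW.2 (Subgroup.one_mem _)))))

theorem mcF3_spec (x : leechLattice) (hn : sqNorm (x : GolayPt → ℤ) ≤ 1024) :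
    mcF3 (mcCode x) = mcCode (mcE3 • x) := by
  unfold mcF3
  exact mcMv24_spec mcE3_pk (by decide +kernel) x hn

/-- element `4` -/
noncomputable def mcE4 : Co0 := List.prod [pU]

theorem mcE4_pk : IsPk mcE4 mcP4 :=
  (isMat_prod_pk (gs := [pU]) (Cs := [uP])
    (.cons isPk_u .nil) (M := mcM4) (by decide +kernel)).isPk (by decide +kernel)

theorem mcE4_mem : mcE4 ∈ mclSub := by
  unfold mcE4
  simp only [List.prod_cons, List.prod_nil]
  exact (Subgroup.mul_mem _ gU.2 (Subgroup.one_mem _))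

theorem mcF4_spec (x : leechLattice) (hn : sqNorm (x : GolayPt → ℤ) ≤ 1024) :
    mcF4 (mcCode x) = mcCode (mcE4 • x) := by
  unfold mcF4
  exact mcMv24_spec mcE4_pk (by decide +kernel) x hn

/-- element `5` -/
noncomputable def mcE5 : Co0 := List.prod [pU3]

theorem mcE5_pk : IsPk mcE5 mcP5 :=
  (isMat_prod_pk (gs := [pU3]) (Cs := [u3P])
    (.cons isPk_u3 .nil) (M := mcM5) (by decide +kernel)).isPk (by decide +kernel)

theorem mcE5_mem : mcE5 ∈ mclSub := by
  unfold mcE5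
  simp only [List.prod_cons, List.prod_nil]
  exact (Subgroup.mul_mem _ mc_pU3_mem (Subgroup.one_mem _))

theorem mcF5_spec (x : leechLattice) (hn : sqNorm (x : GolayPt → ℤ) ≤ 1024) :
    mcF5 (mcCode x) = mcCode (mcE5 • x) := by
  unfold mcF5
  exact mcMv24_spec mcE5_pk (by decide +kernel) x hn

/-- element `6` -/
noncomputable def mcE6 : Co0 := List.prod [yE]

theorem mcE6_pk : IsPk mcE6 mcP6 :=
  (isMat_prod_pk (gs := [yE]) (Cs := [yP])
    (.cons isPk_y .nil) (M := mcM6) (by decide +kernel)).isPk (by decide +kernel)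

theorem mcE6_mem : mcE6 ∈ mclSub := by
  unfold mcE6
  simp only [List.prod_cons, List.prod_nil]
  exact (Subgroup.mul_mem _ gY.2 (Subgroup.one_mem _))

theorem mcF6_spec (x : leechLattice) (hn : sqNorm (x : GolayPt → ℤ) ≤ 1024) :
    mcF6 (mcCode x) = mcCode (mcE6 • x) := by
  unfold mcF6
  exact mcMv24_spec mcE6_pk (by decide +kernel) x hn

/-- element `7` -/
noncomputable def mcE7 : Co0 := List.prod [yE, yE, yE, yE]

theorem mcE7_pk : IsPk mcE7 mcP7 :=
  (isMat_prod_pk (gs := [yE, yE, yE, yE]) (Cs := [yP, yP, yP, yP])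
    (.cons isPk_y (.cons isPk_y (.cons isPk_y (.cons isPk_y .nil)))) (M := mcM7) (by decide +kernel)).isPk (by decide +kernel)

theorem mcE7_mem : mcE7 ∈ mclSub := by
  unfold mcE7
  simp only [List.prod_cons, List.prod_nil]
  exact (Subgroup.mul_mem _ gY.2 (Subgroup.mul_mem _ gY.2 (Subgroup.mul_mem _ gY.2 (Subgroup.mul_mem _ gY.2 (Subgroup.one_mem _)))))

theorem mcF7_spec (x : leechLattice) (hn : sqNorm (x : GolayPt → ℤ) ≤ 1024) :
    mcF7 (mcCode x) = mcCode (mcE7 • x) := by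
  unfold mcF7
  exact mcMv24_spec mcE7_pk (by decide +kernel) x hn

/-- element `8` -/
noncomputable def mcE8 : Co0 := List.prod [mcE7, mcE7]

theorem mcE8_pk : IsPk mcE8 mcP8 :=
  (isMat_prod_pk (gs := [mcE7, mcE7]) (Cs := [mcP7, mcP7])
    (.cons mcE7_pk (.cons mcE7_pk .nil)) (M := mcM8) (by decide +kernel)).isPk (by decide +kernel)

theorem mcE8_mem : mcE8 ∈ mclSub := by
  unfold mcE8
  simp only [List.prod_cons, List.prod_nil]
  exact (Subgroup.mul_mem _ mcE7_mem (Subgroup.mul_mem _ mcE7_mem (Subgroup.one_mem _)))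

theorem mcF8_spec (x : leechLattice) (hn : sqNorm (x : GolayPt → ℤ) ≤ 1024) :
    mcF8 (mcCode x) = mcCode (mcE8 • x) := by
  unfold mcF8
  exact mcMv24_spec mcE8_pk (by decide +kernel) x hn

/-- element `9` -/
noncomputable def mcE9 : Co0 := List.prod [mcE6, mcE6]

theorem mcE9_pk : IsPk mcE9 mcP9 :=
  (isMat_prod_pk (gs := [mcE6, mcE6]) (Cs := [mcP6, mcP6])
    (.cons mcE6_pk (.cons mcE6_pk .nil)) (M := mcM9) (by decide +kernel)).isPk (by decide +kernel)

theorem mcE9_mem : mcE9 ∈ mclSub := by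
  unfold mcE9
  simp only [List.prod_cons, List.prod_nil]
  exact (Subgroup.mul_mem _ mcE6_mem (Subgroup.mul_mem _ mcE6_mem (Subgroup.one_mem _)))

theorem mcF9_spec (x : leechLattice) (hn : sqNorm (x : GolayPt → ℤ) ≤ 1024) :
    mcF9 (mcCode x) = mcCode (mcE9 • x) := by
  unfold mcF9
  exact mcMv24_spec mcE9_pk (by decide +kernel) x hn

/-- element `10` -/
noncomputable def mcE10 : Co0 := List.prod [mcE2, mcE1, mcE7]

theorem mcE10_pk : IsPk mcE10 mcP10 :=
  (isMat_prod_pk (gs := [mcE2, mcE1, mcE7]) (Cs := [mcP2, mcP1, mcP7])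
    (.cons mcE2_pk (.cons mcE1_pk (.cons mcE7_pk .nil))) (M := mcM10) (by decide +kernel)).isPk (by decide +kernel)

theorem mcE10_mem : mcE10 ∈ mclSub := by
  unfold mcE10
  simp only [List.prod_cons, List.prod_nil]
  exact (Subgroup.mul_mem _ mcE2_mem (Subgroup.mul_mem _ mcE1_mem (Subgroup.mul_mem _ mcE7_mem (Subgroup.one_mem _))))

theorem mcF10_spec (x : leechLattice) (hn : sqNorm (x : GolayPt → ℤ) ≤ 1024) :
    mcF10 (mcCode x) = mcCode (mcE10 • x) := by
  unfold mcF10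
  exact mcMv24_spec mcE10_pk (by decide +kernel) x hn

/-- element `11` -/
noncomputable def mcE11 : Co0 := List.prod [mcE6, mcE0, mcE3]

theorem mcE11_pk : IsPk mcE11 mcP11 :=
  (isMat_prod_pk (gs := [mcE6, mcE0, mcE3]) (Cs := [mcP6, mcP0, mcP3])
    (.cons mcE6_pk (.cons mcE0_pk (.cons mcE3_pk .nil))) (M := mcM11) (by decide +kernel)).isPk (by decide +kernel)

theorem mcE11_mem : mcE11 ∈ mclSub := by
  unfold mcE11
  simp only [List.prod_cons, List.prod_nil]
  exact (Subgroup.mul_mem _ mcE6_mem (Subgroup.mul_mem _ mcE0_mem (Subgroup.mul_mem _ mcE3_mem (Subgroup.one_mem _))))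

theorem mcF11_spec (x : leechLattice) (hn : sqNorm (x : GolayPt → ℤ) ≤ 1024) :
    mcF11 (mcCode x) = mcCode (mcE11 • x) := by
  unfold mcF11
  exact mcMv24_spec mcE11_pk (by decide +kernel) x hn

/-- element `12` -/
noncomputable def mcE12 : Co0 := List.prod [mcE2, mcE1]

theorem mcE12_pk : IsPk mcE12 mcP12 :=
  (isMat_prod_pk (gs := [mcE2, mcE1]) (Cs := [mcP2, mcP1])
    (.cons mcE2_pk (.cons mcE1_pk .nil)) (M := mcM12) (by decide +kernel)).isPk (by decide +kernel)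

theorem mcE12_mem : mcE12 ∈ mclSub := by
  unfold mcE12
  simp only [List.prod_cons, List.prod_nil]
  exact (Subgroup.mul_mem _ mcE2_mem (Subgroup.mul_mem _ mcE1_mem (Subgroup.one_mem _)))

theorem mcF12_spec (x : leechLattice) (hn : sqNorm (x : GolayPt → ℤ) ≤ 1024) :
    mcF12 (mcCode x) = mcCode (mcE12 • x) := by
  unfold mcF12
  exact mcMv24_spec mcE12_pk (by decide +kernel) x hn

/-- element `13` -/
noncomputable def mcE13 : Co0 := List.prod [mcE0, mcE3]

theorem mcE13_pk : IsPk mcE13 mcP13 :=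
  (isMat_prod_pk (gs := [mcE0, mcE3]) (Cs := [mcP0, mcP3])
    (.cons mcE0_pk (.cons mcE3_pk .nil)) (M := mcM13) (by decide +kernel)).isPk (by decide +kernel)

theorem mcE13_mem : mcE13 ∈ mclSub := by
  unfold mcE13
  simp only [List.prod_cons, List.prod_nil]
  exact (Subgroup.mul_mem _ mcE0_mem (Subgroup.mul_mem _ mcE3_mem (Subgroup.one_mem _)))

theorem mcF13_spec (x : leechLattice) (hn : sqNorm (x : GolayPt → ℤ) ≤ 1024) :
    mcF13 (mcCode x) = mcCode (mcE13 • x) := by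
  unfold mcF13
  exact mcMv24_spec mcE13_pk (by decide +kernel) x hn

/-- element `14` -/
noncomputable def mcE14 : Co0 := List.prod [mcE0, mcE7]

theorem mcE14_pk : IsPk mcE14 mcP14 :=
  (isMat_prod_pk (gs := [mcE0, mcE7]) (Cs := [mcP0, mcP7])
    (.cons mcE0_pk (.cons mcE7_pk .nil)) (M := mcM14) (by decide +kernel)).isPk (by decide +kernel)

theorem mcE14_mem : mcE14 ∈ mclSub := by
  unfold mcE14
  simp only [List.prod_cons, List.prod_nil]
  exact (Subgroup.mul_mem _ mcE0_mem (Subgroup.mul_mem _ mcE7_mem (Subgroup.one_mem _)))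

theorem mcF14_spec (x : leechLattice) (hn : sqNorm (x : GolayPt → ℤ) ≤ 1024) :
    mcF14 (mcCode x) = mcCode (mcE14 • x) := by
  unfold mcF14
  exact mcMv24_spec mcE14_pk (by decide +kernel) x hn

/-- element `15` -/
noncomputable def mcE15 : Co0 := List.prod [mcE6, mcE1]

theorem mcE15_pk : IsPk mcE15 mcP15 :=
  (isMat_prod_pk (gs := [mcE6, mcE1]) (Cs := [mcP6, mcP1])
    (.cons mcE6_pk (.cons mcE1_pk .nil)) (M := mcM15) (by decide +kernel)).isPk (by decide +kernel)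

theorem mcE15_mem : mcE15 ∈ mclSub := by
  unfold mcE15
  simp only [List.prod_cons, List.prod_nil]
  exact (Subgroup.mul_mem _ mcE6_mem (Subgroup.mul_mem _ mcE1_mem (Subgroup.one_mem _)))

theorem mcF15_spec (x : leechLattice) (hn : sqNorm (x : GolayPt → ℤ) ≤ 1024) :
    mcF15 (mcCode x) = mcCode (mcE15 • x) := by
  unfold mcF15
  exact mcMv24_spec mcE15_pk (by decide +kernel) x hn

/-- element `16` -/
noncomputable def mcE16 : Co0 := List.prod [mcE7, mcE3]

theorem mcE16_pk : IsPk mcE16 mcP16 :=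
  (isMat_prod_pk (gs := [mcE7, mcE3]) (Cs := [mcP7, mcP3])
    (.cons mcE7_pk (.cons mcE3_pk .nil)) (M := mcM16) (by decide +kernel)).isPk (by decide +kernel)

theorem mcE16_mem : mcE16 ∈ mclSub := by
  unfold mcE16
  simp only [List.prod_cons, List.prod_nil]
  exact (Subgroup.mul_mem _ mcE7_mem (Subgroup.mul_mem _ mcE3_mem (Subgroup.one_mem _)))

theorem mcF16_spec (x : leechLattice) (hn : sqNorm (x : GolayPt → ℤ) ≤ 1024) :
    mcF16 (mcCode x) = mcCode (mcE16 • x) := by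
  unfold mcF16
  exact mcMv24_spec mcE16_pk (by decide +kernel) x hn

/-- element `17` -/
noncomputable def mcE17 : Co0 := List.prod [mcE2, mcE6]

theorem mcE17_pk : IsPk mcE17 mcP17 :=
  (isMat_prod_pk (gs := [mcE2, mcE6]) (Cs := [mcP2, mcP6])
    (.cons mcE2_pk (.cons mcE6_pk .nil)) (M := mcM17) (by decide +kernel)).isPk (by decide +kernel)

theorem mcE17_mem : mcE17 ∈ mclSub := by
  unfold mcE17
  simp only [List.prod_cons, List.prod_nil]
  exact (Subgroup.mul_mem _ mcE2_mem (Subgroup.mul_mem _ mcE6_mem (Subgroup.one_mem _)))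

theorem mcF17_spec (x : leechLattice) (hn : sqNorm (x : GolayPt → ℤ) ≤ 1024) :
    mcF17 (mcCode x) = mcCode (mcE17 • x) := by
  unfold mcF17
  exact mcMv24_spec mcE17_pk (by decide +kernel) x hn

/-- element `18` -/
noncomputable def mcE18 : Co0 := List.prod [mcE3, mcE4, mcE7]

theorem mcE18_pk : IsPk mcE18 mcP18 :=
  (isMat_prod_pk (gs := [mcE3, mcE4, mcE7]) (Cs := [mcP3, mcP4, mcP7])
    (.cons mcE3_pk (.cons mcE4_pk (.cons mcE7_pk .nil))) (M := mcM18) (by decide +kernel)).isPk (by decide +kernel)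

theorem mcE18_mem : mcE18 ∈ mclSub := by
  unfold mcE18
  simp only [List.prod_cons, List.prod_nil]
  exact (Subgroup.mul_mem _ mcE3_mem (Subgroup.mul_mem _ mcE4_mem (Subgroup.mul_mem _ mcE7_mem (Subgroup.one_mem _))))

theorem mcF18_spec (x : leechLattice) (hn : sqNorm (x : GolayPt → ℤ) ≤ 1024) :
    mcF18 (mcCode x) = mcCode (mcE18 • x) := by
  unfold mcF18
  exact mcMv24_spec mcE18_pk (by decide +kernel) x hn

/-- element `19` -/
noncomputable def mcE19 : Co0 := List.prod [mcE6, mcE5, mcE2]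

theorem mcE19_pk : IsPk mcE19 mcP19 :=
  (isMat_prod_pk (gs := [mcE6, mcE5, mcE2]) (Cs := [mcP6, mcP5, mcP2])
    (.cons mcE6_pk (.cons mcE5_pk (.cons mcE2_pk .nil))) (M := mcM19) (by decide +kernel)).isPk (by decide +kernel)

theorem mcE19_mem : mcE19 ∈ mclSub := by
  unfold mcE19
  simp only [List.prod_cons, List.prod_nil]
  exact (Subgroup.mul_mem _ mcE6_mem (Subgroup.mul_mem _ mcE5_mem (Subgroup.mul_mem _ mcE2_mem (Subgroup.one_mem _))))

theorem mcF19_spec (x : leechLattice) (hn : sqNorm (x : GolayPt → ℤ) ≤ 1024) :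
    mcF19 (mcCode x) = mcCode (mcE19 • x) := by
  unfold mcF19
  exact mcMv24_spec mcE19_pk (by decide +kernel) x hn

/-- element `20` -/
noncomputable def mcE20 : Co0 := List.prod [mcE1, mcE7]

theorem mcE20_pk : IsPk mcE20 mcP20 :=
  (isMat_prod_pk (gs := [mcE1, mcE7]) (Cs := [mcP1, mcP7])
    (.cons mcE1_pk (.cons mcE7_pk .nil)) (M := mcM20) (by decide +kernel)).isPk (by decide +kernel)

theorem mcE20_mem : mcE20 ∈ mclSub := by
  unfold mcE20
  simp only [List.prod_cons, List.prod_nil]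
  exact (Subgroup.mul_mem _ mcE1_mem (Subgroup.mul_mem _ mcE7_mem (Subgroup.one_mem _)))

theorem mcF20_spec (x : leechLattice) (hn : sqNorm (x : GolayPt → ℤ) ≤ 1024) :
    mcF20 (mcCode x) = mcCode (mcE20 • x) := by
  unfold mcF20
  exact mcMv24_spec mcE20_pk (by decide +kernel) x hn

/-- element `21` -/
noncomputable def mcE21 : Co0 := List.prod [mcE6, mcE0]

theorem mcE21_pk : IsPk mcE21 mcP21 :=
  (isMat_prod_pk (gs := [mcE6, mcE0]) (Cs := [mcP6, mcP0])
    (.cons mcE6_pk (.cons mcE0_pk .nil)) (M := mcM21) (by decide +kernel)).isPk (by decide +kernel)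

theorem mcE21_mem : mcE21 ∈ mclSub := by
  unfold mcE21
  simp only [List.prod_cons, List.prod_nil]
  exact (Subgroup.mul_mem _ mcE6_mem (Subgroup.mul_mem _ mcE0_mem (Subgroup.one_mem _)))

theorem mcF21_spec (x : leechLattice) (hn : sqNorm (x : GolayPt → ℤ) ≤ 1024) :
    mcF21 (mcCode x) = mcCode (mcE21 • x) := by
  unfold mcF21
  exact mcMv24_spec mcE21_pk (by decide +kernel) x hn

/-- element `22` -/
noncomputable def mcE22 : Co0 := List.prod [mcE4, mcE6, mcE1]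

theorem mcE22_pk : IsPk mcE22 mcP22 :=
  (isMat_prod_pk (gs := [mcE4, mcE6, mcE1]) (Cs := [mcP4, mcP6, mcP1])
    (.cons mcE4_pk (.cons mcE6_pk (.cons mcE1_pk .nil))) (M := mcM22) (by decide +kernel)).isPk (by decide +kernel)

theorem mcE22_mem : mcE22 ∈ mclSub := by
  unfold mcE22
  simp only [List.prod_cons, List.prod_nil]
  exact (Subgroup.mul_mem _ mcE4_mem (Subgroup.mul_mem _ mcE6_mem (Subgroup.mul_mem _ mcE1_mem (Subgroup.one_mem _))))

theorem mcF22_spec (x : leechLattice) (hn : sqNorm (x : GolayPt → ℤ) ≤ 1024) :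
    mcF22 (mcCode x) = mcCode (mcE22 • x) := by
  unfold mcF22
  exact mcMv24_spec mcE22_pk (by decide +kernel) x hn

/-- element `23` -/
noncomputable def mcE23 : Co0 := List.prod [mcE0, mcE7, mcE5]

theorem mcE23_pk : IsPk mcE23 mcP23 :=
  (isMat_prod_pk (gs := [mcE0, mcE7, mcE5]) (Cs := [mcP0, mcP7, mcP5])
    (.cons mcE0_pk (.cons mcE7_pk (.cons mcE5_pk .nil))) (M := mcM23) (by decide +kernel)).isPk (by decide +kernel)

theorem mcE23_mem : mcE23 ∈ mclSub := by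
  unfold mcE23
  simp only [List.prod_cons, List.prod_nil]
  exact (Subgroup.mul_mem _ mcE0_mem (Subgroup.mul_mem _ mcE7_mem (Subgroup.mul_mem _ mcE5_mem (Subgroup.one_mem _))))

theorem mcF23_spec (x : leechLattice) (hn : sqNorm (x : GolayPt → ℤ) ≤ 1024) :
    mcF23 (mcCode x) = mcCode (mcE23 • x) := by
  unfold mcF23
  exact mcMv24_spec mcE23_pk (by decide +kernel) x hn

/-- element `24` -/
noncomputable def mcE24 : Co0 := List.prod [mcE1, mcE6, mcE1]

theorem mcE24_pk : IsPk mcE24 mcP24 :=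
  (isMat_prod_pk (gs := [mcE1, mcE6, mcE1]) (Cs := [mcP1, mcP6, mcP1])
    (.cons mcE1_pk (.cons mcE6_pk (.cons mcE1_pk .nil))) (M := mcM24) (by decide +kernel)).isPk (by decide +kernel)

theorem mcE24_mem : mcE24 ∈ mclSub := by
  unfold mcE24
  simp only [List.prod_cons, List.prod_nil]
  exact (Subgroup.mul_mem _ mcE1_mem (Subgroup.mul_mem _ mcE6_mem (Subgroup.mul_mem _ mcE1_mem (Subgroup.one_mem _))))

theorem mcF24_spec (x : leechLattice) (hn : sqNorm (x : GolayPt → ℤ) ≤ 1024) :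
    mcF24 (mcCode x) = mcCode (mcE24 • x) := by
  unfold mcF24
  exact mcMv24_spec mcE24_pk (by decide +kernel) x hn

/-- element `25` -/
noncomputable def mcE25 : Co0 := List.prod [mcE0, mcE7, mcE0]

theorem mcE25_pk : IsPk mcE25 mcP25 :=
  (isMat_prod_pk (gs := [mcE0, mcE7, mcE0]) (Cs := [mcP0, mcP7, mcP0])
    (.cons mcE0_pk (.cons mcE7_pk (.cons mcE0_pk .nil))) (M := mcM25) (by decide +kernel)).isPk (by decide +kernel)

theorem mcE25_mem : mcE25 ∈ mclSub := by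
  unfold mcE25
  simp only [List.prod_cons, List.prod_nil]
  exact (Subgroup.mul_mem _ mcE0_mem (Subgroup.mul_mem _ mcE7_mem (Subgroup.mul_mem _ mcE0_mem (Subgroup.one_mem _))))

theorem mcF25_spec (x : leechLattice) (hn : sqNorm (x : GolayPt → ℤ) ≤ 1024) :
    mcF25 (mcCode x) = mcCode (mcE25 • x) := by
  unfold mcF25
  exact mcMv24_spec mcE25_pk (by decide +kernel) x hn

/-- element `26` -/
noncomputable def mcE26 : Co0 := List.prod [mcE3, mcE4]

theorem mcE26_pk : IsPk mcE26 mcP26 :=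
  (isMat_prod_pk (gs := [mcE3, mcE4]) (Cs := [mcP3, mcP4])
    (.cons mcE3_pk (.cons mcE4_pk .nil)) (M := mcM26) (by decide +kernel)).isPk (by decide +kernel)

theorem mcE26_mem : mcE26 ∈ mclSub := by
  unfold mcE26
  simp only [List.prod_cons, List.prod_nil]
  exact (Subgroup.mul_mem _ mcE3_mem (Subgroup.mul_mem _ mcE4_mem (Subgroup.one_mem _)))

theorem mcF26_spec (x : leechLattice) (hn : sqNorm (x : GolayPt → ℤ) ≤ 1024) :
    mcF26 (mcCode x) = mcCode (mcE26 • x) := by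
  unfold mcF26
  exact mcMv24_spec mcE26_pk (by decide +kernel) x hn

/-- element `27` -/
noncomputable def mcE27 : Co0 := List.prod [mcE5, mcE2]

theorem mcE27_pk : IsPk mcE27 mcP27 :=
  (isMat_prod_pk (gs := [mcE5, mcE2]) (Cs := [mcP5, mcP2])
    (.cons mcE5_pk (.cons mcE2_pk .nil)) (M := mcM27) (by decide +kernel)).isPk (by decide +kernel)

theorem mcE27_mem : mcE27 ∈ mclSub := by
  unfold mcE27
  simp only [List.prod_cons, List.prod_nil]
  exact (Subgroup.mul_mem _ mcE5_mem (Subgroup.mul_mem _ mcE2_mem (Subgroup.one_mem _)))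

theorem mcF27_spec (x : leechLattice) (hn : sqNorm (x : GolayPt → ℤ) ≤ 1024) :
    mcF27 (mcCode x) = mcCode (mcE27 • x) := by
  unfold mcF27
  exact mcMv24_spec mcE27_pk (by decide +kernel) x hn

/-- element `28` -/
noncomputable def mcE28 : Co0 := List.prod [mcE1, mcE4]

theorem mcE28_pk : IsPk mcE28 mcP28 :=
  (isMat_prod_pk (gs := [mcE1, mcE4]) (Cs := [mcP1, mcP4])
    (.cons mcE1_pk (.cons mcE4_pk .nil)) (M := mcM28) (by decide +kernel)).isPk (by decide +kernel)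

theorem mcE28_mem : mcE28 ∈ mclSub := by
  unfold mcE28
  simp only [List.prod_cons, List.prod_nil]
  exact (Subgroup.mul_mem _ mcE1_mem (Subgroup.mul_mem _ mcE4_mem (Subgroup.one_mem _)))

theorem mcF28_spec (x : leechLattice) (hn : sqNorm (x : GolayPt → ℤ) ≤ 1024) :
    mcF28 (mcCode x) = mcCode (mcE28 • x) := by
  unfold mcF28
  exact mcMv24_spec mcE28_pk (by decide +kernel) x hn

/-- element `29` -/
noncomputable def mcE29 : Co0 := List.prod [mcE5, mcE0]

theorem mcE29_pk : IsPk mcE29 mcP29 :=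
  (isMat_prod_pk (gs := [mcE5, mcE0]) (Cs := [mcP5, mcP0])
    (.cons mcE5_pk (.cons mcE0_pk .nil)) (M := mcM29) (by decide +kernel)).isPk (by decide +kernel)

theorem mcE29_mem : mcE29 ∈ mclSub := by
  unfold mcE29
  simp only [List.prod_cons, List.prod_nil]
  exact (Subgroup.mul_mem _ mcE5_mem (Subgroup.mul_mem _ mcE0_mem (Subgroup.one_mem _)))

theorem mcF29_spec (x : leechLattice) (hn : sqNorm (x : GolayPt → ℤ) ≤ 1024) :
    mcF29 (mcCode x) = mcCode (mcE29 • x) := by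
  unfold mcF29
  exact mcMv24_spec mcE29_pk (by decide +kernel) x hn

/-- element `30` -/
noncomputable def mcE30 : Co0 := List.prod [mcE0, mcE6]

theorem mcE30_pk : IsPk mcE30 mcP30 :=
  (isMat_prod_pk (gs := [mcE0, mcE6]) (Cs := [mcP0, mcP6])
    (.cons mcE0_pk (.cons mcE6_pk .nil)) (M := mcM30) (by decide +kernel)).isPk (by decide +kernel)

theorem mcE30_mem : mcE30 ∈ mclSub := by
  unfold mcE30
  simp only [List.prod_cons, List.prod_nil]
  exact (Subgroup.mul_mem _ mcE0_mem (Subgroup.mul_mem _ mcE6_mem (Subgroup.one_mem _)))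

theorem mcF30_spec (x : leechLattice) (hn : sqNorm (x : GolayPt → ℤ) ≤ 1024) :
    mcF30 (mcCode x) = mcCode (mcE30 • x) := by
  unfold mcF30
  exact mcMv24_spec mcE30_pk (by decide +kernel) x hn

/-- element `31` -/
noncomputable def mcE31 : Co0 := List.prod [mcE7, mcE1]

theorem mcE31_pk : IsPk mcE31 mcP31 :=
  (isMat_prod_pk (gs := [mcE7, mcE1]) (Cs := [mcP7, mcP1])
    (.cons mcE7_pk (.cons mcE1_pk .nil)) (M := mcM31) (by decide +kernel)).isPk (by decide +kernel)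

theorem mcE31_mem : mcE31 ∈ mclSub := by
  unfold mcE31
  simp only [List.prod_cons, List.prod_nil]
  exact (Subgroup.mul_mem _ mcE7_mem (Subgroup.mul_mem _ mcE1_mem (Subgroup.one_mem _)))

theorem mcF31_spec (x : leechLattice) (hn : sqNorm (x : GolayPt → ℤ) ≤ 1024) :
    mcF31 (mcCode x) = mcCode (mcE31 • x) := by
  unfold mcF31
  exact mcMv24_spec mcE31_pk (by decide +kernel) x hn

/-- element `32` -/
noncomputable def mcE32 : Co0 := List.prod [mcE25, mcE10, mcE10, mcE22, mcE10, mcE29]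

theorem mcE32_pk : IsPk mcE32 mcP32 :=
  (isMat_prod_pk (gs := [mcE25, mcE10, mcE10, mcE22, mcE10, mcE29]) (Cs := [mcP25, mcP10, mcP10, mcP22, mcP10, mcP29])
    (.cons mcE25_pk (.cons mcE10_pk (.cons mcE10_pk (.cons mcE22_pk (.cons mcE10_pk (.cons mcE29_pk .nil)))))) (M := mcM32) (by decide +kernel)).isPk (by decide +kernel)

theorem mcE32_mem : mcE32 ∈ mclSub := by
  unfold mcE32
  simp only [List.prod_cons, List.prod_nil]
  exact (Subgroup.mul_mem _ mcE25_mem (Subgroup.mul_mem _ mcE10_mem (Subgroup.mul_mem _ mcE10_mem (Subgroup.mul_mem _ mcE22_mem (Subgroup.mul_mem _ mcE10_mem (Subgroup.mul_mem _ mcE29_mem (Subgroup.one_mem _)))))))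

theorem mcF32_spec (x : leechLattice) (hn : sqNorm (x : GolayPt → ℤ) ≤ 1024) :
    mcF32 (mcCode x) = mcCode (mcE32 • x) := by
  unfold mcF32
  exact mcMv24_spec mcE32_pk (by decide +kernel) x hn

/-- element `33` -/
noncomputable def mcE33 : Co0 := List.prod [mcE24, mcE24, mcE1, mcE29, mcE21, mcE27]

theorem mcE33_pk : IsPk mcE33 mcP33 :=
  (isMat_prod_pk (gs := [mcE24, mcE24, mcE1, mcE29, mcE21, mcE27]) (Cs := [mcP24, mcP24, mcP1, mcP29, mcP21, mcP27])
    (.cons mcE24_pk (.cons mcE24_pk (.cons mcE1_pk (.cons mcE29_pk (.cons mcE21_pk (.cons mcE27_pk .nil)))))) (M := mcM33) (by decide +kernel)).isPk (by decide +kernel)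

theorem mcE33_mem : mcE33 ∈ mclSub := by
  unfold mcE33
  simp only [List.prod_cons, List.prod_nil]
  exact (Subgroup.mul_mem _ mcE24_mem (Subgroup.mul_mem _ mcE24_mem (Subgroup.mul_mem _ mcE1_mem (Subgroup.mul_mem _ mcE29_mem (Subgroup.mul_mem _ mcE21_mem (Subgroup.mul_mem _ mcE27_mem (Subgroup.one_mem _)))))))

theorem mcF33_spec (x : leechLattice) (hn : sqNorm (x : GolayPt → ℤ) ≤ 1024) :
    mcF33 (mcCode x) = mcCode (mcE33 • x) := by
  unfold mcF33
  exact mcMv24_spec mcE33_pk (by decide +kernel) x hn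

/-- element `34` -/
noncomputable def mcE34 : Co0 := List.prod [mcE18, mcE24, mcE0, mcE19, mcE1, mcE26]

theorem mcE34_pk : IsPk mcE34 mcP34 :=
  (isMat_prod_pk (gs := [mcE18, mcE24, mcE0, mcE19, mcE1, mcE26]) (Cs := [mcP18, mcP24, mcP0, mcP19, mcP1, mcP26])
    (.cons mcE18_pk (.cons mcE24_pk (.cons mcE0_pk (.cons mcE19_pk (.cons mcE1_pk (.cons mcE26_pk .nil)))))) (M := mcM34) (by decide +kernel)).isPk (by decide +kernel)

theorem mcE34_mem : mcE34 ∈ mclSub := by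
  unfold mcE34
  simp only [List.prod_cons, List.prod_nil]
  exact (Subgroup.mul_mem _ mcE18_mem (Subgroup.mul_mem _ mcE24_mem (Subgroup.mul_mem _ mcE0_mem (Subgroup.mul_mem _ mcE19_mem (Subgroup.mul_mem _ mcE1_mem (Subgroup.mul_mem _ mcE26_mem (Subgroup.one_mem _)))))))

theorem mcF34_spec (x : leechLattice) (hn : sqNorm (x : GolayPt → ℤ) ≤ 1024) :
    mcF34 (mcCode x) = mcCode (mcE34 • x) := by
  unfold mcF34
  exact mcMv24_spec mcE34_pk (by decide +kernel) x hn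

/-- element `35` -/
noncomputable def mcE35 : Co0 := List.prod [mcE11, mcE18, mcE10, mcE25, mcE22]

theorem mcE35_pk : IsPk mcE35 mcP35 :=
  (isMat_prod_pk (gs := [mcE11, mcE18, mcE10, mcE25, mcE22]) (Cs := [mcP11, mcP18, mcP10, mcP25, mcP22])
    (.cons mcE11_pk (.cons mcE18_pk (.cons mcE10_pk (.cons mcE25_pk (.cons mcE22_pk .nil))))) (M := mcM35) (by decide +kernel)).isPk (by decide +kernel)

theorem mcE35_mem : mcE35 ∈ mclSub := by
  unfold mcE35
  simp only [List.prod_cons, List.prod_nil]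
  exact (Subgroup.mul_mem _ mcE11_mem (Subgroup.mul_mem _ mcE18_mem (Subgroup.mul_mem _ mcE10_mem (Subgroup.mul_mem _ mcE25_mem (Subgroup.mul_mem _ mcE22_mem (Subgroup.one_mem _))))))

theorem mcF35_spec (x : leechLattice) (hn : sqNorm (x : GolayPt → ℤ) ≤ 1024) :
    mcF35 (mcCode x) = mcCode (mcE35 • x) := by
  unfold mcF35
  exact mcMv24_spec mcE35_pk (by decide +kernel) x hn

/-- element `36` -/
noncomputable def mcE36 : Co0 := List.prod [mcE23, mcE10, mcE20, mcE31, mcE19, mcE14]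

theorem mcE36_pk : IsPk mcE36 mcP36 :=
  (isMat_prod_pk (gs := [mcE23, mcE10, mcE20, mcE31, mcE19, mcE14]) (Cs := [mcP23, mcP10, mcP20, mcP31, mcP19, mcP14])
    (.cons mcE23_pk (.cons mcE10_pk (.cons mcE20_pk (.cons mcE31_pk (.cons mcE19_pk (.cons mcE14_pk .nil)))))) (M := mcM36) (by decide +kernel)).isPk (by decide +kernel)

theorem mcE36_mem : mcE36 ∈ mclSub := by
  unfold mcE36
  simp only [List.prod_cons, List.prod_nil]
  exact (Subgroup.mul_mem _ mcE23_mem (Subgroup.mul_mem _ mcE10_mem (Subgroup.mul_mem _ mcE20_mem (Subgroup.mul_mem _ mcE31_mem (Subgroup.mul_mem _ mcE19_mem (Subgroup.mul_mem _ mcE14_mem (Subgroup.one_mem _)))))))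

theorem mcF36_spec (x : leechLattice) (hn : sqNorm (x : GolayPt → ℤ) ≤ 1024) :
    mcF36 (mcCode x) = mcCode (mcE36 • x) := by
  unfold mcF36
  exact mcMv24_spec mcE36_pk (by decide +kernel) x hn

/-- element `37` -/
noncomputable def mcE37 : Co0 := List.prod [mcE20, mcE18, mcE1, mcE21, mcE10, mcE31]

theorem mcE37_pk : IsPk mcE37 mcP37 :=
  (isMat_prod_pk (gs := [mcE20, mcE18, mcE1, mcE21, mcE10, mcE31]) (Cs := [mcP20, mcP18, mcP1, mcP21, mcP10, mcP31])
    (.cons mcE20_pk (.cons mcE18_pk (.cons mcE1_pk (.cons mcE21_pk (.cons mcE10_pk (.cons mcE31_pk .nil)))))) (M := mcM37) (by decide +kernel)).isPk (by decide +kernel)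

theorem mcE37_mem : mcE37 ∈ mclSub := by
  unfold mcE37
  simp only [List.prod_cons, List.prod_nil]
  exact (Subgroup.mul_mem _ mcE20_mem (Subgroup.mul_mem _ mcE18_mem (Subgroup.mul_mem _ mcE1_mem (Subgroup.mul_mem _ mcE21_mem (Subgroup.mul_mem _ mcE10_mem (Subgroup.mul_mem _ mcE31_mem (Subgroup.one_mem _)))))))

theorem mcF37_spec (x : leechLattice) (hn : sqNorm (x : GolayPt → ℤ) ≤ 1024) :
    mcF37 (mcCode x) = mcCode (mcE37 • x) := by
  unfold mcF37
  exact mcMv24_spec mcE37_pk (by decide +kernel) x hn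

/-- element `38` -/
noncomputable def mcE38 : Co0 := List.prod [mcE28, mcE25, mcE12, mcE22, mcE22, mcE19]

theorem mcE38_pk : IsPk mcE38 mcP38 :=
  (isMat_prod_pk (gs := [mcE28, mcE25, mcE12, mcE22, mcE22, mcE19]) (Cs := [mcP28, mcP25, mcP12, mcP22, mcP22, mcP19])
    (.cons mcE28_pk (.cons mcE25_pk (.cons mcE12_pk (.cons mcE22_pk (.cons mcE22_pk (.cons mcE19_pk .nil)))))) (M := mcM38) (by decide +kernel)).isPk (by decide +kernel)

theorem mcE38_mem : mcE38 ∈ mclSub := by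
  unfold mcE38
  simp only [List.prod_cons, List.prod_nil]
  exact (Subgroup.mul_mem _ mcE28_mem (Subgroup.mul_mem _ mcE25_mem (Subgroup.mul_mem _ mcE12_mem (Subgroup.mul_mem _ mcE22_mem (Subgroup.mul_mem _ mcE22_mem (Subgroup.mul_mem _ mcE19_mem (Subgroup.one_mem _)))))))

theorem mcF38_spec (x : leechLattice) (hn : sqNorm (x : GolayPt → ℤ) ≤ 1024) :
    mcF38 (mcCode x) = mcCode (mcE38 • x) := by
  unfold mcF38
  exact mcMv24_spec mcE38_pk (by decide +kernel) x hn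

/-- element `39` -/
noncomputable def mcE39 : Co0 := List.prod [mcE14, mcE14, mcE1, mcE21, mcE13, mcE21]

theorem mcE39_pk : IsPk mcE39 mcP39 :=
  (isMat_prod_pk (gs := [mcE14, mcE14, mcE1, mcE21, mcE13, mcE21]) (Cs := [mcP14, mcP14, mcP1, mcP21, mcP13, mcP21])
    (.cons mcE14_pk (.cons mcE14_pk (.cons mcE1_pk (.cons mcE21_pk (.cons mcE13_pk (.cons mcE21_pk .nil)))))) (M := mcM39) (by decide +kernel)).isPk (by decide +kernel)

theorem mcE39_mem : mcE39 ∈ mclSub := by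
  unfold mcE39
  simp only [List.prod_cons, List.prod_nil]
  exact (Subgroup.mul_mem _ mcE14_mem (Subgroup.mul_mem _ mcE14_mem (Subgroup.mul_mem _ mcE1_mem (Subgroup.mul_mem _ mcE21_mem (Subgroup.mul_mem _ mcE13_mem (Subgroup.mul_mem _ mcE21_mem (Subgroup.one_mem _)))))))

theorem mcF39_spec (x : leechLattice) (hn : sqNorm (x : GolayPt → ℤ) ≤ 1024) :
    mcF39 (mcCode x) = mcCode (mcE39 • x) := by
  unfold mcF39
  exact mcMv24_spec mcE39_pk (by decide +kernel) x hn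

/-- element `40` -/
noncomputable def mcE40 : Co0 := List.prod [mcE20, mcE28, mcE11, mcE31, mcE22, mcE16]

theorem mcE40_pk : IsPk mcE40 mcP40 :=
  (isMat_prod_pk (gs := [mcE20, mcE28, mcE11, mcE31, mcE22, mcE16]) (Cs := [mcP20, mcP28, mcP11, mcP31, mcP22, mcP16])
    (.cons mcE20_pk (.cons mcE28_pk (.cons mcE11_pk (.cons mcE31_pk (.cons mcE22_pk (.cons mcE16_pk .nil)))))) (M := mcM40) (by decide +kernel)).isPk (by decide +kernel)

theorem mcE40_mem : mcE40 ∈ mclSub := by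
  unfold mcE40
  simp only [List.prod_cons, List.prod_nil]
  exact (Subgroup.mul_mem _ mcE20_mem (Subgroup.mul_mem _ mcE28_mem (Subgroup.mul_mem _ mcE11_mem (Subgroup.mul_mem _ mcE31_mem (Subgroup.mul_mem _ mcE22_mem (Subgroup.mul_mem _ mcE16_mem (Subgroup.one_mem _)))))))

theorem mcF40_spec (x : leechLattice) (hn : sqNorm (x : GolayPt → ℤ) ≤ 1024) :
    mcF40 (mcCode x) = mcCode (mcE40 • x) := by
  unfold mcF40
  exact mcMv24_spec mcE40_pk (by decide +kernel) x hn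

/-- element `41` -/
noncomputable def mcE41 : Co0 := List.prod [mcE0, mcE30, mcE1, mcE29, mcE29]

theorem mcE41_pk : IsPk mcE41 mcP41 :=
  (isMat_prod_pk (gs := [mcE0, mcE30, mcE1, mcE29, mcE29]) (Cs := [mcP0, mcP30, mcP1, mcP29, mcP29])
    (.cons mcE0_pk (.cons mcE30_pk (.cons mcE1_pk (.cons mcE29_pk (.cons mcE29_pk .nil))))) (M := mcM41) (by decide +kernel)).isPk (by decide +kernel)

theorem mcE41_mem : mcE41 ∈ mclSub := by
  unfold mcE41
  simp only [List.prod_cons, List.prod_nil]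
  exact (Subgroup.mul_mem _ mcE0_mem (Subgroup.mul_mem _ mcE30_mem (Subgroup.mul_mem _ mcE1_mem (Subgroup.mul_mem _ mcE29_mem (Subgroup.mul_mem _ mcE29_mem (Subgroup.one_mem _))))))

theorem mcF41_spec (x : leechLattice) (hn : sqNorm (x : GolayPt → ℤ) ≤ 1024) :
    mcF41 (mcCode x) = mcCode (mcE41 • x) := by
  unfold mcF41
  exact mcMv24_spec mcE41_pk (by decide +kernel) x hn

/-- element `42` -/
noncomputable def mcE42 : Co0 := List.prod [mcE23, mcE10, mcE20, mcE31, mcE19, mcE23]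

theorem mcE42_pk : IsPk mcE42 mcP42 :=
  (isMat_prod_pk (gs := [mcE23, mcE10, mcE20, mcE31, mcE19, mcE23]) (Cs := [mcP23, mcP10, mcP20, mcP31, mcP19, mcP23])
    (.cons mcE23_pk (.cons mcE10_pk (.cons mcE20_pk (.cons mcE31_pk (.cons mcE19_pk (.cons mcE23_pk .nil)))))) (M := mcM42) (by decide +kernel)).isPk (by decide +kernel)

theorem mcE42_mem : mcE42 ∈ mclSub := by
  unfold mcE42
  simp only [List.prod_cons, List.prod_nil]
  exact (Subgroup.mul_mem _ mcE23_mem (Subgroup.mul_mem _ mcE10_mem (Subgroup.mul_mem _ mcE20_mem (Subgroup.mul_mem _ mcE31_mem (Subgroup.mul_mem _ mcE19_mem (Subgroup.mul_mem _ mcE23_mem (Subgroup.one_mem _)))))))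

theorem mcF42_spec (x : leechLattice) (hn : sqNorm (x : GolayPt → ℤ) ≤ 1024) :
    mcF42 (mcCode x) = mcCode (mcE42 • x) := by
  unfold mcF42
  exact mcMv24_spec mcE42_pk (by decide +kernel) x hn

/-- element `43` -/
noncomputable def mcE43 : Co0 := List.prod [mcE3, mcE30, mcE25, mcE31, mcE2]

theorem mcE43_pk : IsPk mcE43 mcP43 :=
  (isMat_prod_pk (gs := [mcE3, mcE30, mcE25, mcE31, mcE2]) (Cs := [mcP3, mcP30, mcP25, mcP31, mcP2])
    (.cons mcE3_pk (.cons mcE30_pk (.cons mcE25_pk (.cons mcE31_pk (.cons mcE2_pk .nil))))) (M := mcM43) (by decide +kernel)).isPk (by decide +kernel)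

theorem mcE43_mem : mcE43 ∈ mclSub := by
  unfold mcE43
  simp only [List.prod_cons, List.prod_nil]
  exact (Subgroup.mul_mem _ mcE3_mem (Subgroup.mul_mem _ mcE30_mem (Subgroup.mul_mem _ mcE25_mem (Subgroup.mul_mem _ mcE31_mem (Subgroup.mul_mem _ mcE2_mem (Subgroup.one_mem _))))))

theorem mcF43_spec (x : leechLattice) (hn : sqNorm (x : GolayPt → ℤ) ≤ 1024) :
    mcF43 (mcCode x) = mcCode (mcE43 • x) := by
  unfold mcF43
  exact mcMv24_spec mcE43_pk (by decide +kernel) x hn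

/-- element `44` -/
noncomputable def mcE44 : Co0 := List.prod [mcE24, mcE21, mcE15, mcE31, mcE4, mcE4, mcE30, mcE14, mcE20, mcE25]

theorem mcE44_pk : IsPk mcE44 mcP44 :=
  (isMat_prod_pk (gs := [mcE24, mcE21, mcE15, mcE31, mcE4, mcE4, mcE30, mcE14, mcE20, mcE25]) (Cs := [mcP24, mcP21, mcP15, mcP31, mcP4, mcP4, mcP30, mcP14, mcP20, mcP25])
    (.cons mcE24_pk (.cons mcE21_pk (.cons mcE15_pk (.cons mcE31_pk (.cons mcE4_pk (.cons mcE4_pk (.cons mcE30_pk (.cons mcE14_pk (.cons mcE20_pk (.cons mcE25_pk .nil)))))))))) (M := mcM44) (by decide +kernel)).isPk (by decide +kernel)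

theorem mcE44_mem : mcE44 ∈ mclSub := by
  unfold mcE44
  simp only [List.prod_cons, List.prod_nil]
  exact (Subgroup.mul_mem _ mcE24_mem (Subgroup.mul_mem _ mcE21_mem (Subgroup.mul_mem _ mcE15_mem (Subgroup.mul_mem _ mcE31_mem (Subgroup.mul_mem _ mcE4_mem (Subgroup.mul_mem _ mcE4_mem (Subgroup.mul_mem _ mcE30_mem (Subgroup.mul_mem _ mcE14_mem (Subgroup.mul_mem _ mcE20_mem (Subgroup.mul_mem _ mcE25_mem (Subgroup.one_mem _)))))))))))

theorem mcF44_spec (x : leechLattice) (hn : sqNorm (x : GolayPt → ℤ) ≤ 1024) :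
    mcF44 (mcCode x) = mcCode (mcE44 • x) := by
  unfold mcF44
  exact mcMv24_spec mcE44_pk (by decide +kernel) x hn

/-- element `45` -/
noncomputable def mcE45 : Co0 := List.prod [mcE19, mcE1, mcE22, mcE3, mcE4, mcE4, mcE2, mcE23, mcE0, mcE18]

theorem mcE45_pk : IsPk mcE45 mcP45 :=
  (isMat_prod_pk (gs := [mcE19, mcE1, mcE22, mcE3, mcE4, mcE4, mcE2, mcE23, mcE0, mcE18]) (Cs := [mcP19, mcP1, mcP22, mcP3, mcP4, mcP4, mcP2, mcP23, mcP0, mcP18])
    (.cons mcE19_pk (.cons mcE1_pk (.cons mcE22_pk (.cons mcE3_pk (.cons mcE4_pk (.cons mcE4_pk (.cons mcE2_pk (.cons mcE23_pk (.cons mcE0_pk (.cons mcE18_pk .nil)))))))))) (M := mcM45) (by decide +kernel)).isPk (by decide +kernel)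

theorem mcE45_mem : mcE45 ∈ mclSub := by
  unfold mcE45
  simp only [List.prod_cons, List.prod_nil]
  exact (Subgroup.mul_mem _ mcE19_mem (Subgroup.mul_mem _ mcE1_mem (Subgroup.mul_mem _ mcE22_mem (Subgroup.mul_mem _ mcE3_mem (Subgroup.mul_mem _ mcE4_mem (Subgroup.mul_mem _ mcE4_mem (Subgroup.mul_mem _ mcE2_mem (Subgroup.mul_mem _ mcE23_mem (Subgroup.mul_mem _ mcE0_mem (Subgroup.mul_mem _ mcE18_mem (Subgroup.one_mem _)))))))))))

theorem mcF45_spec (x : leechLattice) (hn : sqNorm (x : GolayPt → ℤ) ≤ 1024) :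
    mcF45 (mcCode x) = mcCode (mcE45 • x) := by
  unfold mcF45
  exact mcMv24_spec mcE45_pk (by decide +kernel) x hn

/-- element `46` -/
noncomputable def mcE46 : Co0 := List.prod [mcE11, mcE11, mcE31, mcE10, mcE4, mcE4, mcE11, mcE30, mcE10, mcE10]

theorem mcE46_pk : IsPk mcE46 mcP46 :=
  (isMat_prod_pk (gs := [mcE11, mcE11, mcE31, mcE10, mcE4, mcE4, mcE11, mcE30, mcE10, mcE10]) (Cs := [mcP11, mcP11, mcP31, mcP10, mcP4, mcP4, mcP11, mcP30, mcP10, mcP10])
    (.cons mcE11_pk (.cons mcE11_pk (.cons mcE31_pk (.cons mcE10_pk (.cons mcE4_pk (.cons mcE4_pk (.cons mcE11_pk (.cons mcE30_pk (.cons mcE10_pk (.cons mcE10_pk .nil)))))))))) (M := mcM46) (by decide +kernel)).isPk (by decide +kernel)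

theorem mcE46_mem : mcE46 ∈ mclSub := by
  unfold mcE46
  simp only [List.prod_cons, List.prod_nil]
  exact (Subgroup.mul_mem _ mcE11_mem (Subgroup.mul_mem _ mcE11_mem (Subgroup.mul_mem _ mcE31_mem (Subgroup.mul_mem _ mcE10_mem (Subgroup.mul_mem _ mcE4_mem (Subgroup.mul_mem _ mcE4_mem (Subgroup.mul_mem _ mcE11_mem (Subgroup.mul_mem _ mcE30_mem (Subgroup.mul_mem _ mcE10_mem (Subgroup.mul_mem _ mcE10_mem (Subgroup.one_mem _)))))))))))

theorem mcF46_spec (x : leechLattice) (hn : sqNorm (x : GolayPt → ℤ) ≤ 1024) :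
    mcF46 (mcCode x) = mcCode (mcE46 • x) := by
  unfold mcF46
  exact mcMv24_spec mcE46_pk (by decide +kernel) x hn

/-- element `47` -/
noncomputable def mcE47 : Co0 := List.prod [mcE21, mcE22, mcE10, mcE10, mcE4, mcE4, mcE11, mcE11, mcE23, mcE20]

theorem mcE47_pk : IsPk mcE47 mcP47 :=
  (isMat_prod_pk (gs := [mcE21, mcE22, mcE10, mcE10, mcE4, mcE4, mcE11, mcE11, mcE23, mcE20]) (Cs := [mcP21, mcP22, mcP10, mcP10, mcP4, mcP4, mcP11, mcP11, mcP23, mcP20])
    (.cons mcE21_pk (.cons mcE22_pk (.cons mcE10_pk (.cons mcE10_pk (.cons mcE4_pk (.cons mcE4_pk (.cons mcE11_pk (.cons mcE11_pk (.cons mcE23_pk (.cons mcE20_pk .nil)))))))))) (M := mcM47) (by decide +kernel)).isPk (by decide +kernel)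

theorem mcE47_mem : mcE47 ∈ mclSub := by
  unfold mcE47
  simp only [List.prod_cons, List.prod_nil]
  exact (Subgroup.mul_mem _ mcE21_mem (Subgroup.mul_mem _ mcE22_mem (Subgroup.mul_mem _ mcE10_mem (Subgroup.mul_mem _ mcE10_mem (Subgroup.mul_mem _ mcE4_mem (Subgroup.mul_mem _ mcE4_mem (Subgroup.mul_mem _ mcE11_mem (Subgroup.mul_mem _ mcE11_mem (Subgroup.mul_mem _ mcE23_mem (Subgroup.mul_mem _ mcE20_mem (Subgroup.one_mem _)))))))))))

theorem mcF47_spec (x : leechLattice) (hn : sqNorm (x : GolayPt → ℤ) ≤ 1024) :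
    mcF47 (mcCode x) = mcCode (mcE47 • x) := by
  unfold mcF47
  exact mcMv24_spec mcE47_pk (by decide +kernel) x hn

/-- element `48` -/
noncomputable def mcE48 : Co0 := List.prod [mcE4, mcE4]

theorem mcE48_pk : IsPk mcE48 mcP48 :=
  (isMat_prod_pk (gs := [mcE4, mcE4]) (Cs := [mcP4, mcP4])
    (.cons mcE4_pk (.cons mcE4_pk .nil)) (M := mcM48) (by decide +kernel)).isPk (by decide +kernel)

theorem mcE48_mem : mcE48 ∈ mclSub := by
  unfold mcE48
  simp only [List.prod_cons, List.prod_nil]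
  exact (Subgroup.mul_mem _ mcE4_mem (Subgroup.mul_mem _ mcE4_mem (Subgroup.one_mem _)))

theorem mcF48_spec (x : leechLattice) (hn : sqNorm (x : GolayPt → ℤ) ≤ 1024) :
    mcF48 (mcCode x) = mcCode (mcE48 • x) := by
  unfold mcF48
  exact mcMv24_spec mcE48_pk (by decide +kernel) x hn

/-- element `49` -/
noncomputable def mcE49 : Co0 := List.prod [mcE2, mcE29, mcE15, mcE29, mcE4, mcE4, mcE28, mcE14, mcE28, mcE3]

theorem mcE49_pk : IsPk mcE49 mcP49 :=
  (isMat_prod_pk (gs := [mcE2, mcE29, mcE15, mcE29, mcE4, mcE4, mcE28, mcE14, mcE28, mcE3]) (Cs := [mcP2, mcP29, mcP15, mcP29, mcP4, mcP4, mcP28, mcP14, mcP28, mcP3])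
    (.cons mcE2_pk (.cons mcE29_pk (.cons mcE15_pk (.cons mcE29_pk (.cons mcE4_pk (.cons mcE4_pk (.cons mcE28_pk (.cons mcE14_pk (.cons mcE28_pk (.cons mcE3_pk .nil)))))))))) (M := mcM49) (by decide +kernel)).isPk (by decide +kernel)

theorem mcE49_mem : mcE49 ∈ mclSub := by
  unfold mcE49
  simp only [List.prod_cons, List.prod_nil]
  exact (Subgroup.mul_mem _ mcE2_mem (Subgroup.mul_mem _ mcE29_mem (Subgroup.mul_mem _ mcE15_mem (Subgroup.mul_mem _ mcE29_mem (Subgroup.mul_mem _ mcE4_mem (Subgroup.mul_mem _ mcE4_mem (Subgroup.mul_mem _ mcE28_mem (Subgroup.mul_mem _ mcE14_mem (Subgroup.mul_mem _ mcE28_mem (Subgroup.mul_mem _ mcE3_mem (Subgroup.one_mem _)))))))))))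

theorem mcF49_spec (x : leechLattice) (hn : sqNorm (x : GolayPt → ℤ) ≤ 1024) :
    mcF49 (mcCode x) = mcCode (mcE49 • x) := by
  unfold mcF49
  exact mcMv24_spec mcE49_pk (by decide +kernel) x hn

/-- element `50` -/
noncomputable def mcE50 : Co0 := List.prod [mcE21, mcE29, mcE19, mcE31, mcE4, mcE4, mcE30, mcE18, mcE28, mcE20]

theorem mcE50_pk : IsPk mcE50 mcP50 :=
  (isMat_prod_pk (gs := [mcE21, mcE29, mcE19, mcE31, mcE4, mcE4, mcE30, mcE18, mcE28, mcE20]) (Cs := [mcP21, mcP29, mcP19, mcP31, mcP4, mcP4, mcP30, mcP18, mcP28, mcP20])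
    (.cons mcE21_pk (.cons mcE29_pk (.cons mcE19_pk (.cons mcE31_pk (.cons mcE4_pk (.cons mcE4_pk (.cons mcE30_pk (.cons mcE18_pk (.cons mcE28_pk (.cons mcE20_pk .nil)))))))))) (M := mcM50) (by decide +kernel)).isPk (by decide +kernel)

theorem mcE50_mem : mcE50 ∈ mclSub := by
  unfold mcE50
  simp only [List.prod_cons, List.prod_nil]
  exact (Subgroup.mul_mem _ mcE21_mem (Subgroup.mul_mem _ mcE29_mem (Subgroup.mul_mem _ mcE19_mem (Subgroup.mul_mem _ mcE31_mem (Subgroup.mul_mem _ mcE4_mem (Subgroup.mul_mem _ mcE4_mem (Subgroup.mul_mem _ mcE30_mem (Subgroup.mul_mem _ mcE18_mem (Subgroup.mul_mem _ mcE28_mem (Subgroup.mul_mem _ mcE20_mem (Subgroup.one_mem _)))))))))))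

theorem mcF50_spec (x : leechLattice) (hn : sqNorm (x : GolayPt → ℤ) ≤ 1024) :
    mcF50 (mcCode x) = mcCode (mcE50 • x) := by
  unfold mcF50
  exact mcMv24_spec mcE50_pk (by decide +kernel) x hn

/-- the fast action of element `j` -/
def mcAct (j X : ℕ) : ℕ :=
  cond (Nat.ble j (nat_lit 50))
    (cond (Nat.ble j (nat_lit 25)) (cond (Nat.ble j (nat_lit 12)) (cond (Nat.ble j (nat_lit 6)) (cond (Nat.ble j (nat_lit 3)) (cond (Nat.ble j (nat_lit 1)) (cond (Nat.ble j (nat_lit 0)) (mcF0 X) (mcF1 X)) (cond (Nat.ble j (nat_lit 2)) (mcF2 X) (mcF3 X))) (cond (Nat.ble j (nat_lit 5)) (cond (Nat.ble j (nat_lit 4)) (mcF4 X) (mcF5 X)) (mcF6 X))) (cond (Nat.ble j (nat_lit 9)) (cond (Nat.ble j (nat_lit 8)) (cond (Nat.ble j (nat_lit 7)) (mcF7 X) (mcF8 X)) (mcF9 X)) (cond (Nat.ble j (nat_lit 11)) (cond (Nat.ble j (nat_lit 10)) (mcF10 X) (mcF11 X)) (mcF12 X)))) (cond (Nat.ble j (nat_lit 19)) (cond (Nat.ble j (nat_lit 16)) (cond (Nat.ble j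 (nat_lit 14)) (cond (Nat.ble j (nat_lit 13)) (mcF13 X) (mcF14 X)) (cond (Nat.ble j (nat_lit 15)) (mcF15 X) (mcF16 X))) (cond (Nat.ble j (nat_lit 18)) (cond (Nat.ble j (nat_lit 17)) (mcF17 X) (mcF18 X)) (mcF19 X))) (cond (Nat.ble j (nat_lit 22)) (cond (Nat.ble j (nat_lit 21)) (cond (Nat.ble j (nat_lit 20)) (mcF20 X) (mcF21 X)) (mcF22 X)) (cond (Nat.ble j (nat_lit 24)) (cond (Nat.ble j (nat_lit 23)) (mcF23 X) (mcF24 X)) (mcF25 X))))) (cond (Nat.ble j (nat_lit 38)) (cond (Nat.ble j (nat_lit 32)) (cond (Nat.ble j (nat_lit 29)) (cond (Nat.ble j (nat_lit 27)) (cond (Nat.ble j (nat_lit 26)) (mcF26 X) (mcF27 X)) (cond (Nat.ble j (nat_lit 28)) (mcF28 X) (mcF29 X))) (cond (Nat.ble j (nat_lit 31)) (cond (Nat.ble j (nat_lit 30)) (mcF30 X) (mcF31 X)) (mcF32 X))) (cond (Nat.ble j (nat_lit 35)) (cond (Nat.ble j (nat_lit 34)) (cond (Nat.ble j (nat_lit 33)) (mcF33 X) (mcF34 X)) (mcF35 X)) (cond (Nat.ble j (nat_lit 37)) (cond (Nat.ble j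 (nat_lit 36)) (mcF36 X) (mcF37 X)) (mcF38 X)))) (cond (Nat.ble j (nat_lit 44)) (cond (Nat.ble j (nat_lit 41)) (cond (Nat.ble j (nat_lit 40)) (cond (Nat.ble j (nat_lit 39)) (mcF39 X) (mcF40 X)) (mcF41 X)) (cond (Nat.ble j (nat_lit 43)) (cond (Nat.ble j (nat_lit 42)) (mcF42 X) (mcF43 X)) (mcF44 X))) (cond (Nat.ble j (nat_lit 47)) (cond (Nat.ble j (nat_lit 46)) (cond (Nat.ble j (nat_lit 45)) (mcF45 X) (mcF46 X)) (mcF47 X)) (cond (Nat.ble j (nat_lit 49)) (cond (Nat.ble j (nat_lit 48)) (mcF48 X) (mcF49 X)) (mcF50 X))))))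
    X

/-- element `j` -/
noncomputable def mcElt (j : ℕ) : Co0 :=
  cond (Nat.ble j (nat_lit 50))
    (cond (Nat.ble j (nat_lit 25)) (cond (Nat.ble j (nat_lit 12)) (cond (Nat.ble j (nat_lit 6)) (cond (Nat.ble j (nat_lit 3)) (cond (Nat.ble j (nat_lit 1)) (cond (Nat.ble j (nat_lit 0)) mcE0 mcE1) (cond (Nat.ble j (nat_lit 2)) mcE2 mcE3)) (cond (Nat.ble j (nat_lit 5)) (cond (Nat.ble j (nat_lit 4)) mcE4 mcE5) mcE6)) (cond (Nat.ble j (nat_lit 9)) (cond (Nat.ble j (nat_lit 8)) (cond (Nat.ble j (nat_lit 7)) mcE7 mcE8) mcE9) (cond (Nat.ble j (nat_lit 11)) (cond (Nat.ble j (nat_lit 10)) mcE10 mcE11) mcE12))) (cond (Nat.ble j (nat_lit 19)) (cond (Nat.ble j (nat_lit 16)) (cond (Nat.ble j (nat_lit 14)) (cond (Nat.ble j (nat_lit 13)) mcE13 mcE14) (cond (Nat.ble j (nat_lit 15)) mcE15 mcE16)) (cond (Nat.ble j (nat_lit 18)) (cond (Nat.ble j (nat_lit 17)) mcE17 mcE18) mcE19)) (cond (Nat.ble j (nat_lit 22)) (cond (Nat.ble j (nat_lit 21))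 (cond (Nat.ble j (nat_lit 20)) mcE20 mcE21) mcE22) (cond (Nat.ble j (nat_lit 24)) (cond (Nat.ble j (nat_lit 23)) mcE23 mcE24) mcE25)))) (cond (Nat.ble j (nat_lit 38)) (cond (Nat.ble j (nat_lit 32)) (cond (Nat.ble j (nat_lit 29)) (cond (Nat.ble j (nat_lit 27)) (cond (Nat.ble j (nat_lit 26)) mcE26 mcE27) (cond (Nat.ble j (nat_lit 28)) mcE28 mcE29)) (cond (Nat.ble j (nat_lit 31)) (cond (Nat.ble j (nat_lit 30)) mcE30 mcE31) mcE32)) (cond (Nat.ble j (nat_lit 35)) (cond (Nat.ble j (nat_lit 34)) (cond (Nat.ble j (nat_lit 33)) mcE33 mcE34) mcE35) (cond (Nat.ble j (nat_lit 37)) (cond (Nat.ble j (nat_lit 36)) mcE36 mcE37) mcE38))) (cond (Nat.ble j (nat_lit 44)) (cond (Nat.ble j (nat_lit 41)) (cond (Nat.ble j (nat_lit 40)) (cond (Nat.ble j (nat_lit 39)) mcE39 mcE40) mcE41) (cond (Nat.ble j (nat_lit 43)) (cond (Nat.ble j (nat_lit 42)) mcE42 mcE43) mcE44)) (cond (Nat.ble j (nat_lit 47)) (cond (Nat.ble j (nat_lit 46)) (cond (Nat.ble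 j (nat_lit 45)) mcE45 mcE46) mcE47) (cond (Nat.ble j (nat_lit 49)) (cond (Nat.ble j (nat_lit 48)) mcE48 mcE49) mcE50)))))
    1

theorem mcAct_s0 (x : leechLattice) (hn : sqNorm (x : GolayPt → ℤ) ≤ 1024) :
    mcAct 0 (mcCode x) = mcCode (mcElt 0 • x) := mcF0_spec x hn

theorem mcElt_m0 : mcElt 0 ∈ mclSub := mcE0_mem

theorem mcAct_s1 (x : leechLattice) (hn : sqNorm (x : GolayPt → ℤ) ≤ 1024) :
    mcAct 1 (mcCode x) = mcCode (mcElt 1 • x) := mcF1_spec x hn

theorem mcElt_m1 : mcElt 1 ∈ mclSub := mcE1_mem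

theorem mcAct_s2 (x : leechLattice) (hn : sqNorm (x : GolayPt → ℤ) ≤ 1024) :
    mcAct 2 (mcCode x) = mcCode (mcElt 2 • x) := mcF2_spec x hn

theorem mcElt_m2 : mcElt 2 ∈ mclSub := mcE2_mem

theorem mcAct_s3 (x : leechLattice) (hn : sqNorm (x : GolayPt → ℤ) ≤ 1024) :
    mcAct 3 (mcCode x) = mcCode (mcElt 3 • x) := mcF3_spec x hn

theorem mcElt_m3 : mcElt 3 ∈ mclSub := mcE3_mem

theorem mcAct_s4 (x : leechLattice) (hn : sqNorm (x : GolayPt → ℤ) ≤ 1024) :
    mcAct 4 (mcCode x) = mcCode (mcElt 4 • x) := mcF4_spec x hn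

theorem mcElt_m4 : mcElt 4 ∈ mclSub := mcE4_mem

theorem mcAct_s5 (x : leechLattice) (hn : sqNorm (x : GolayPt → ℤ) ≤ 1024) :
    mcAct 5 (mcCode x) = mcCode (mcElt 5 • x) := mcF5_spec x hn

theorem mcElt_m5 : mcElt 5 ∈ mclSub := mcE5_mem

theorem mcAct_s6 (x : leechLattice) (hn : sqNorm (x : GolayPt → ℤ) ≤ 1024) :
    mcAct 6 (mcCode x) = mcCode (mcElt 6 • x) := mcF6_spec x hn

theorem mcElt_m6 : mcElt 6 ∈ mclSub := mcE6_mem

theorem mcAct_s7 (x : leechLattice) (hn : sqNorm (x : GolayPt → ℤ) ≤ 1024) :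
    mcAct 7 (mcCode x) = mcCode (mcElt 7 • x) := mcF7_spec x hn

theorem mcElt_m7 : mcElt 7 ∈ mclSub := mcE7_mem

theorem mcAct_s8 (x : leechLattice) (hn : sqNorm (x : GolayPt → ℤ) ≤ 1024) :
    mcAct 8 (mcCode x) = mcCode (mcElt 8 • x) := mcF8_spec x hn

theorem mcElt_m8 : mcElt 8 ∈ mclSub := mcE8_mem

theorem mcAct_s9 (x : leechLattice) (hn : sqNorm (x : GolayPt → ℤ) ≤ 1024) :
    mcAct 9 (mcCode x) = mcCode (mcElt 9 • x) := mcF9_spec x hn

theorem mcElt_m9 : mcElt 9 ∈ mclSub := mcE9_mem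

theorem mcAct_s10 (x : leechLattice) (hn : sqNorm (x : GolayPt → ℤ) ≤ 1024) :
    mcAct 10 (mcCode x) = mcCode (mcElt 10 • x) := mcF10_spec x hn

theorem mcElt_m10 : mcElt 10 ∈ mclSub := mcE10_mem

theorem mcAct_s11 (x : leechLattice) (hn : sqNorm (x : GolayPt → ℤ) ≤ 1024) :
    mcAct 11 (mcCode x) = mcCode (mcElt 11 • x) := mcF11_spec x hn

theorem mcElt_m11 : mcElt 11 ∈ mclSub := mcE11_mem

theorem mcAct_s12 (x : leechLattice) (hn : sqNorm (x : GolayPt → ℤ) ≤ 1024) :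
    mcAct 12 (mcCode x) = mcCode (mcElt 12 • x) := mcF12_spec x hn

theorem mcElt_m12 : mcElt 12 ∈ mclSub := mcE12_mem

theorem mcAct_s13 (x : leechLattice) (hn : sqNorm (x : GolayPt → ℤ) ≤ 1024) :
    mcAct 13 (mcCode x) = mcCode (mcElt 13 • x) := mcF13_spec x hn

theorem mcElt_m13 : mcElt 13 ∈ mclSub := mcE13_mem

theorem mcAct_s14 (x : leechLattice) (hn : sqNorm (x : GolayPt → ℤ) ≤ 1024) :
    mcAct 14 (mcCode x) = mcCode (mcElt 14 • x) := mcF14_spec x hn

theorem mcElt_m14 : mcElt 14 ∈ mclSub := mcE14_mem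

theorem mcAct_s15 (x : leechLattice) (hn : sqNorm (x : GolayPt → ℤ) ≤ 1024) :
    mcAct 15 (mcCode x) = mcCode (mcElt 15 • x) := mcF15_spec x hn

theorem mcElt_m15 : mcElt 15 ∈ mclSub := mcE15_mem

theorem mcAct_s16 (x : leechLattice) (hn : sqNorm (x : GolayPt → ℤ) ≤ 1024) :
    mcAct 16 (mcCode x) = mcCode (mcElt 16 • x) := mcF16_spec x hn

theorem mcElt_m16 : mcElt 16 ∈ mclSub := mcE16_mem

theorem mcAct_s17 (x : leechLattice) (hn : sqNorm (x : GolayPt → ℤ) ≤ 1024) :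
    mcAct 17 (mcCode x) = mcCode (mcElt 17 • x) := mcF17_spec x hn

theorem mcElt_m17 : mcElt 17 ∈ mclSub := mcE17_mem

theorem mcAct_s18 (x : leechLattice) (hn : sqNorm (x : GolayPt → ℤ) ≤ 1024) :
    mcAct 18 (mcCode x) = mcCode (mcElt 18 • x) := mcF18_spec x hn

theorem mcElt_m18 : mcElt 18 ∈ mclSub := mcE18_mem

theorem mcAct_s19 (x : leechLattice) (hn : sqNorm (x : GolayPt → ℤ) ≤ 1024) :
    mcAct 19 (mcCode x) = mcCode (mcElt 19 • x) := mcF19_spec x hn

theorem mcElt_m19 : mcElt 19 ∈ mclSub := mcE19_mem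

theorem mcAct_s20 (x : leechLattice) (hn : sqNorm (x : GolayPt → ℤ) ≤ 1024) :
    mcAct 20 (mcCode x) = mcCode (mcElt 20 • x) := mcF20_spec x hn

theorem mcElt_m20 : mcElt 20 ∈ mclSub := mcE20_mem

theorem mcAct_s21 (x : leechLattice) (hn : sqNorm (x : GolayPt → ℤ) ≤ 1024) :
    mcAct 21 (mcCode x) = mcCode (mcElt 21 • x) := mcF21_spec x hn

theorem mcElt_m21 : mcElt 21 ∈ mclSub := mcE21_mem

theorem mcAct_s22 (x : leechLattice) (hn : sqNorm (x : GolayPt → ℤ) ≤ 1024) :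
    mcAct 22 (mcCode x) = mcCode (mcElt 22 • x) := mcF22_spec x hn

theorem mcElt_m22 : mcElt 22 ∈ mclSub := mcE22_mem

theorem mcAct_s23 (x : leechLattice) (hn : sqNorm (x : GolayPt → ℤ) ≤ 1024) :
    mcAct 23 (mcCode x) = mcCode (mcElt 23 • x) := mcF23_spec x hn

theorem mcElt_m23 : mcElt 23 ∈ mclSub := mcE23_mem

theorem mcAct_s24 (x : leechLattice) (hn : sqNorm (x : GolayPt → ℤ) ≤ 1024) :
    mcAct 24 (mcCode x) = mcCode (mcElt 24 • x) := mcF24_spec x hn

theorem mcElt_m24 : mcElt 24 ∈ mclSub := mcE24_mem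

theorem mcAct_s25 (x : leechLattice) (hn : sqNorm (x : GolayPt → ℤ) ≤ 1024) :
    mcAct 25 (mcCode x) = mcCode (mcElt 25 • x) := mcF25_spec x hn

theorem mcElt_m25 : mcElt 25 ∈ mclSub := mcE25_mem

theorem mcAct_s26 (x : leechLattice) (hn : sqNorm (x : GolayPt → ℤ) ≤ 1024) :
    mcAct 26 (mcCode x) = mcCode (mcElt 26 • x) := mcF26_spec x hn

theorem mcElt_m26 : mcElt 26 ∈ mclSub := mcE26_mem

theorem mcAct_s27 (x : leechLattice) (hn : sqNorm (x : GolayPt → ℤ) ≤ 1024) :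
    mcAct 27 (mcCode x) = mcCode (mcElt 27 • x) := mcF27_spec x hn

theorem mcElt_m27 : mcElt 27 ∈ mclSub := mcE27_mem

theorem mcAct_s28 (x : leechLattice) (hn : sqNorm (x : GolayPt → ℤ) ≤ 1024) :
    mcAct 28 (mcCode x) = mcCode (mcElt 28 • x) := mcF28_spec x hn

theorem mcElt_m28 : mcElt 28 ∈ mclSub := mcE28_mem

theorem mcAct_s29 (x : leechLattice) (hn : sqNorm (x : GolayPt → ℤ) ≤ 1024) :
    mcAct 29 (mcCode x) = mcCode (mcElt 29 • x) := mcF29_spec x hn

theorem mcElt_m29 : mcElt 29 ∈ mclSub := mcE29_mem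

theorem mcAct_s30 (x : leechLattice) (hn : sqNorm (x : GolayPt → ℤ) ≤ 1024) :
    mcAct 30 (mcCode x) = mcCode (mcElt 30 • x) := mcF30_spec x hn

theorem mcElt_m30 : mcElt 30 ∈ mclSub := mcE30_mem

theorem mcAct_s31 (x : leechLattice) (hn : sqNorm (x : GolayPt → ℤ) ≤ 1024) :
    mcAct 31 (mcCode x) = mcCode (mcElt 31 • x) := mcF31_spec x hn

theorem mcElt_m31 : mcElt 31 ∈ mclSub := mcE31_mem

theorem mcAct_s32 (x : leechLattice) (hn : sqNorm (x : GolayPt → ℤ) ≤ 1024) :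
    mcAct 32 (mcCode x) = mcCode (mcElt 32 • x) := mcF32_spec x hn

theorem mcElt_m32 : mcElt 32 ∈ mclSub := mcE32_mem

theorem mcAct_s33 (x : leechLattice) (hn : sqNorm (x : GolayPt → ℤ) ≤ 1024) :
    mcAct 33 (mcCode x) = mcCode (mcElt 33 • x) := mcF33_spec x hn

theorem mcElt_m33 : mcElt 33 ∈ mclSub := mcE33_mem

theorem mcAct_s34 (x : leechLattice) (hn : sqNorm (x : GolayPt → ℤ) ≤ 1024) :
    mcAct 34 (mcCode x) = mcCode (mcElt 34 • x) := mcF34_spec x hn

theorem mcElt_m34 : mcElt 34 ∈ mclSub := mcE34_mem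

theorem mcAct_s35 (x : leechLattice) (hn : sqNorm (x : GolayPt → ℤ) ≤ 1024) :
    mcAct 35 (mcCode x) = mcCode (mcElt 35 • x) := mcF35_spec x hn

theorem mcElt_m35 : mcElt 35 ∈ mclSub := mcE35_mem

theorem mcAct_s36 (x : leechLattice) (hn : sqNorm (x : GolayPt → ℤ) ≤ 1024) :
    mcAct 36 (mcCode x) = mcCode (mcElt 36 • x) := mcF36_spec x hn

theorem mcElt_m36 : mcElt 36 ∈ mclSub := mcE36_mem

theorem mcAct_s37 (x : leechLattice) (hn : sqNorm (x : GolayPt → ℤ) ≤ 1024) :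
    mcAct 37 (mcCode x) = mcCode (mcElt 37 • x) := mcF37_spec x hn

theorem mcElt_m37 : mcElt 37 ∈ mclSub := mcE37_mem

theorem mcAct_s38 (x : leechLattice) (hn : sqNorm (x : GolayPt → ℤ) ≤ 1024) :
    mcAct 38 (mcCode x) = mcCode (mcElt 38 • x) := mcF38_spec x hn

theorem mcElt_m38 : mcElt 38 ∈ mclSub := mcE38_mem

theorem mcAct_s39 (x : leechLattice) (hn : sqNorm (x : GolayPt → ℤ) ≤ 1024) :
    mcAct 39 (mcCode x) = mcCode (mcElt 39 • x) := mcF39_spec x hn

theorem mcElt_m39 : mcElt 39 ∈ mclSub := mcE39_mem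

theorem mcAct_s40 (x : leechLattice) (hn : sqNorm (x : GolayPt → ℤ) ≤ 1024) :
    mcAct 40 (mcCode x) = mcCode (mcElt 40 • x) := mcF40_spec x hn

theorem mcElt_m40 : mcElt 40 ∈ mclSub := mcE40_mem

theorem mcAct_s41 (x : leechLattice) (hn : sqNorm (x : GolayPt → ℤ) ≤ 1024) :
    mcAct 41 (mcCode x) = mcCode (mcElt 41 • x) := mcF41_spec x hn

theorem mcElt_m41 : mcElt 41 ∈ mclSub := mcE41_mem

theorem mcAct_s42 (x : leechLattice) (hn : sqNorm (x : GolayPt → ℤ) ≤ 1024) :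
    mcAct 42 (mcCode x) = mcCode (mcElt 42 • x) := mcF42_spec x hn

theorem mcElt_m42 : mcElt 42 ∈ mclSub := mcE42_mem

theorem mcAct_s43 (x : leechLattice) (hn : sqNorm (x : GolayPt → ℤ) ≤ 1024) :
    mcAct 43 (mcCode x) = mcCode (mcElt 43 • x) := mcF43_spec x hn

theorem mcElt_m43 : mcElt 43 ∈ mclSub := mcE43_mem

theorem mcAct_s44 (x : leechLattice) (hn : sqNorm (x : GolayPt → ℤ) ≤ 1024) :
    mcAct 44 (mcCode x) = mcCode (mcElt 44 • x) := mcF44_spec x hn

theorem mcElt_m44 : mcElt 44 ∈ mclSub := mcE44_mem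

theorem mcAct_s45 (x : leechLattice) (hn : sqNorm (x : GolayPt → ℤ) ≤ 1024) :
    mcAct 45 (mcCode x) = mcCode (mcElt 45 • x) := mcF45_spec x hn

theorem mcElt_m45 : mcElt 45 ∈ mclSub := mcE45_mem

theorem mcAct_s46 (x : leechLattice) (hn : sqNorm (x : GolayPt → ℤ) ≤ 1024) :
    mcAct 46 (mcCode x) = mcCode (mcElt 46 • x) := mcF46_spec x hn

theorem mcElt_m46 : mcElt 46 ∈ mclSub := mcE46_mem

theorem mcAct_s47 (x : leechLattice) (hn : sqNorm (x : GolayPt → ℤ) ≤ 1024) :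
    mcAct 47 (mcCode x) = mcCode (mcElt 47 • x) := mcF47_spec x hn

theorem mcElt_m47 : mcElt 47 ∈ mclSub := mcE47_mem

theorem mcAct_s48 (x : leechLattice) (hn : sqNorm (x : GolayPt → ℤ) ≤ 1024) :
    mcAct 48 (mcCode x) = mcCode (mcElt 48 • x) := mcF48_spec x hn

theorem mcElt_m48 : mcElt 48 ∈ mclSub := mcE48_mem

theorem mcAct_s49 (x : leechLattice) (hn : sqNorm (x : GolayPt → ℤ) ≤ 1024) :
    mcAct 49 (mcCode x) = mcCode (mcElt 49 • x) := mcF49_spec x hn

theorem mcElt_m49 : mcElt 49 ∈ mclSub := mcE49_mem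

theorem mcAct_s50 (x : leechLattice) (hn : sqNorm (x : GolayPt → ℤ) ≤ 1024) :
    mcAct 50 (mcCode x) = mcCode (mcElt 50 • x) := mcF50_spec x hn

theorem mcElt_m50 : mcElt 50 ∈ mclSub := mcE50_mem

theorem mcAct_big {j : ℕ} (h : ¬ j ≤ 50) (X : ℕ) : mcAct j X = X := by
  have hb : Nat.ble j (nat_lit 50) = false := by
    rw [Bool.eq_false_iff]
    intro hc
    exact h (Nat.le_of_ble_eq_true hc)
  unfold mcAct
  rw [hb]
  rfl

theorem mcElt_big {j : ℕ} (h : ¬ j ≤ 50) : mcElt j = 1 := by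
  have hb : Nat.ble j (nat_lit 50) = false := by
    rw [Bool.eq_false_iff]
    intro hc
    exact h (Nat.le_of_ble_eq_true hc)
  unfold mcElt
  rw [hb]
  rfl

/-- **The fast action of element `j` computes the action.** -/
theorem mcAct_spec (j : ℕ) (x : leechLattice) (hn : sqNorm (x : GolayPt → ℤ) ≤ 1024) :
    mcAct j (mcCode x) = mcCode (mcElt j • x) := by
  by_cases h : j ≤ 50
  · interval_cases j
    · exact mcAct_s0 x hn
    · exact mcAct_s1 x hn
    · exact mcAct_s2 x hn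
    · exact mcAct_s3 x hn
    · exact mcAct_s4 x hn
    · exact mcAct_s5 x hn
    · exact mcAct_s6 x hn
    · exact mcAct_s7 x hn
    · exact mcAct_s8 x hn
    · exact mcAct_s9 x hn
    · exact mcAct_s10 x hn
    · exact mcAct_s11 x hn
    · exact mcAct_s12 x hn
    · exact mcAct_s13 x hn
    · exact mcAct_s14 x hn
    · exact mcAct_s15 x hn
    · exact mcAct_s16 x hn
    · exact mcAct_s17 x hn
    · exact mcAct_s18 x hn
    · exact mcAct_s19 x hn
    · exact mcAct_s20 x hn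
    · exact mcAct_s21 x hn
    · exact mcAct_s22 x hn
    · exact mcAct_s23 x hn
    · exact mcAct_s24 x hn
    · exact mcAct_s25 x hn
    · exact mcAct_s26 x hn
    · exact mcAct_s27 x hn
    · exact mcAct_s28 x hn
    · exact mcAct_s29 x hn
    · exact mcAct_s30 x hn
    · exact mcAct_s31 x hn
    · exact mcAct_s32 x hn
    · exact mcAct_s33 x hn
    · exact mcAct_s34 x hn
    · exact mcAct_s35 x hn
    · exact mcAct_s36 x hn
    · exact mcAct_s37 x hn
    · exact mcAct_s38 x hn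
    · exact mcAct_s39 x hn
    · exact mcAct_s40 x hn
    · exact mcAct_s41 x hn
    · exact mcAct_s42 x hn
    · exact mcAct_s43 x hn
    · exact mcAct_s44 x hn
    · exact mcAct_s45 x hn
    · exact mcAct_s46 x hn
    · exact mcAct_s47 x hn
    · exact mcAct_s48 x hn
    · exact mcAct_s49 x hn
    · exact mcAct_s50 x hn
  · rw [mcAct_big h, mcElt_big h, one_smul]

theorem mcElt_mem (j : ℕ) : mcElt j ∈ mclSub := by
  by_cases h : j ≤ 50
  · interval_cases j
    · exact mcElt_m0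
    · exact mcElt_m1
    · exact mcElt_m2
    · exact mcElt_m3
    · exact mcElt_m4
    · exact mcElt_m5
    · exact mcElt_m6
    · exact mcElt_m7
    · exact mcElt_m8
    · exact mcElt_m9
    · exact mcElt_m10
    · exact mcElt_m11
    · exact mcElt_m12
    · exact mcElt_m13
    · exact mcElt_m14
    · exact mcElt_m15
    · exact mcElt_m16
    · exact mcElt_m17
    · exact mcElt_m18
    · exact mcElt_m19
    · exact mcElt_m20
    · exact mcElt_m21
    · exact mcElt_m22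
    · exact mcElt_m23
    · exact mcElt_m24
    · exact mcElt_m25
    · exact mcElt_m26
    · exact mcElt_m27
    · exact mcElt_m28
    · exact mcElt_m29
    · exact mcElt_m30
    · exact mcElt_m31
    · exact mcElt_m32
    · exact mcElt_m33
    · exact mcElt_m34
    · exact mcElt_m35
    · exact mcElt_m36
    · exact mcElt_m37
    · exact mcElt_m38
    · exact mcElt_m39
    · exact mcElt_m40
    · exact mcElt_m41
    · exact mcElt_m42
    · exact mcElt_m43
    · exact mcElt_m44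
    · exact mcElt_m45
    · exact mcElt_m46
    · exact mcElt_m47
    · exact mcElt_m48
    · exact mcElt_m49
    · exact mcElt_m50
  · rw [mcElt_big h]
    exact Subgroup.one_mem _

end Cfsg.Agent.Helper86
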