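import Cfsg.Agent.Helper86.FunctorW
import Cfsg.Agent.Helper49.PCore
import Cfsg.Agent.Helper32.PPrime

/-!
# Central `p`-th powers under a quadratic hypothesis (helper86)

Let `W` be a characteristic `p`-functor such that in every finite group `G` with Sylow `p`-subgroup `P` in which
`W(P)` is not normal there is `g ∈ P` outside `O_p(G)` with `[Z(O_p(G)), g, g] = 1`. Then in every finite group
`G` with `C_G(O_p(G)) ≤ O_p(G)`, every `p`-th power of an element of `Z(P)` that is centralized by `N_G(W(P))` is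
central in `G` (Glauberman).
-/

set_option autoImplicit false

namespace Cfsg.Agent.Helper86

open Cfsg

open scoped commutatorElement

universe u

/-- The quadratic hypothesis on the functor `W`. -/
def WQuad (p : ℕ) [Fact p.Prime] (W : ∀ (Q : Type u) [Group Q], Subgroup Q) : Prop :=
  ∀ (G : Type u) [Group G] [Finite G] (P : Sylow p G),
    ¬ (((W ↥(P : Subgroup G)).map (P : Subgroup G).subtype : Subgroup G)).Normal →
    ∃ g : G, g ∈ (P : Subgroup G) ∧ g ∉ Cfsg.pCore p G ∧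
      ⁅⁅Subgroup.center ↥(Cfsg.pCore p G) |>.map (Cfsg.pCore p G).subtype, Subgroup.zpowers g⁆,
        Subgroup.zpowers g⁆ = ⊥

section QuadCenter

variable {p : ℕ} [Fact p.Prime] (W : ∀ (Q : Type u) [Group Q], Subgroup Q)

/-- **Glauberman**: central `p`-th powers. -/
theorem pow_central_of_quad (hW2 : WIso p W) (hq : WQuad p W) :
    ∀ (n : ℕ) (G : Type u) [Group G] [Finite G], Nat.card G = n →
      Subgroup.centralizer ((pCore p G : Subgroup G) : Set G) ≤ pCore p G →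
      ∀ (P : Sylow p G) (y : G), y ∈ (P : Subgroup G) → (∀ s ∈ (P : Subgroup G), s * y = y * s) →
        (∀ m ∈ Subgroup.normalizer ((Wsub W (P : Subgroup G) : Subgroup G) : Set G),
          m * y ^ p = y ^ p * m) →
        ∀ x : G, x * y ^ p = y ^ p * x := by
  intro n
  induction n using Nat.strong_induction_on with
  | _ n ih =>
  intro G _ _ hn hcR P y hyP hyc hyN x
  by_cases hWn : (Wsub W (P : Subgroup G)).Normal
  · exact hyN x (by rw [Subgroup.normalizer_eq_top]; exact Subgroup.mem_top x)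
  obtain ⟨g₀, hg₀P, hg₀c, hg₀q⟩ := hq G P hWn
  have hcn : (pCore p G).Normal := Helper49.pCore_normal' p G
  have hcP : pCore p G ≤ (P : Subgroup G) := Helper49.pCore_le_sylow P
  -- a quadratic element `g ∉ O_p(G)` with `g ^ p ∈ O_p(G)`
  have hex : ∃ k : ℕ, g₀ ^ (p ^ k) ∈ pCore p G := by
    obtain ⟨k, hk⟩ := P.2 ⟨g₀, hg₀P⟩
    refine ⟨k, ?_⟩
    have h1 : g₀ ^ (p ^ k) = 1 := congrArg Subtype.val hk
    rw [h1]
    exact Subgroup.one_mem _
  classical
  obtain ⟨k, hk, hmin⟩ : ∃ k, g₀ ^ (p ^ k) ∈ pCore p G ∧ ∀ j < k, g₀ ^ (p ^ j) ∉ pCore p G :=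
    ⟨Nat.find hex, Nat.find_spec hex, fun j hj => Nat.find_min hex hj⟩
  have hk0 : k ≠ 0 := by
    intro h
    rw [h, pow_zero, pow_one] at hk
    exact hg₀c hk
  obtain ⟨k', hk'⟩ := Nat.exists_eq_succ_of_ne_zero hk0
  obtain ⟨g, hg⟩ : ∃ g, g = g₀ ^ (p ^ k') := ⟨_, rfl⟩
  have hgc : g ∉ pCore p G := by
    rw [hg]
    exact hmin k' (by omega)
  have hgp : g ^ p ∈ pCore p G := by
    rw [hg, ← pow_mul, ← pow_succ, ← Nat.succ_eq_add_one, ← hk']
    exact hk
  have hgP : g ∈ (P : Subgroup G) := by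
    rw [hg]
    exact Subgroup.pow_mem _ hg₀P _
  have hzp : Subgroup.zpowers g ≤ Subgroup.zpowers g₀ := by
    rw [Subgroup.zpowers_le, hg]
    exact Subgroup.pow_mem _ (Subgroup.mem_zpowers g₀) _
  have hgq : ⁅⁅Subgroup.center ↥(Cfsg.pCore p G) |>.map (Cfsg.pCore p G).subtype, Subgroup.zpowers g⁆,
      Subgroup.zpowers g⁆ = ⊥ := by
    rw [eq_bot_iff, ← hg₀q]
    exact Subgroup.commutator_mono (Subgroup.commutator_mono le_rfl hzp) hzp
  -- the subgroup `V = Z(O_p(G))`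
  have hVmem : ∀ v : G, v ∈ (Subgroup.center ↥(Cfsg.pCore p G)).map (Cfsg.pCore p G).subtype ↔
      v ∈ pCore p G ∧ ∀ c ∈ pCore p G, c * v = v * c := by
    intro v
    constructor
    · rintro ⟨c, hc, rfl⟩
      refine ⟨c.2, fun d hd => ?_⟩
      exact congrArg Subtype.val (Subgroup.mem_center_iff.1 hc ⟨d, hd⟩)
    · rintro ⟨hv, hvc⟩
      exact ⟨⟨v, hv⟩, Subgroup.mem_center_iff.2 (fun d => Subtype.ext (hvc d d.2)), rfl⟩
  have hyV : y ∈ (Subgroup.center ↥(Cfsg.pCore p G)).map (Cfsg.pCore p G).subtype := by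
    have h1 : ∀ c ∈ pCore p G, c * y = y * c := fun c hc => hyc c (hcP hc)
    refine (hVmem y).2 ⟨hcR ?_, h1⟩
    rw [Subgroup.mem_centralizer_iff]
    intro c hc
    exact h1 c hc
  have hVconj : ∀ v ∈ (Subgroup.center ↥(Cfsg.pCore p G)).map (Cfsg.pCore p G).subtype, ∀ a : G,
      a * v * a⁻¹ ∈ (Subgroup.center ↥(Cfsg.pCore p G)).map (Cfsg.pCore p G).subtype := by
    intro v hv a
    obtain ⟨hv1, hv2⟩ := (hVmem v).1 hv
    refine (hVmem _).2 ⟨hcn.conj_mem v hv1 a, fun c hc => ?_⟩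
    have h1 : a⁻¹ * c * a ∈ pCore p G := by
      have := hcn.conj_mem c hc a⁻¹
      rwa [inv_inv] at this
    have h2 := hv2 _ h1
    calc c * (a * v * a⁻¹) = a * ((a⁻¹ * c * a) * v) * a⁻¹ := by group
      _ = a * (v * (a⁻¹ * c * a)) * a⁻¹ := by rw [h2]
      _ = a * v * a⁻¹ * c := by group
  have hVcomm : ∀ v ∈ (Subgroup.center ↥(Cfsg.pCore p G)).map (Cfsg.pCore p G).subtype,
      ∀ w ∈ (Subgroup.center ↥(Cfsg.pCore p G)).map (Cfsg.pCore p G).subtype, v * w = w * v := by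
    intro v hv w hw
    exact ((hVmem w).1 hw).2 v ((hVmem v).1 hv).1
  -- every conjugate of `g` centralizes `y ^ p`
  have key : ∀ a : G, (a * g * a⁻¹) * y ^ p = y ^ p * (a * g * a⁻¹) := by
    intro a
    have hvV : a⁻¹ * y * a ∈ (Subgroup.center ↥(Cfsg.pCore p G)).map (Cfsg.pCore p G).subtype := by
      have := hVconj y hyV a⁻¹
      rwa [inv_inv] at this
    have hcg : ⁅a⁻¹ * y * a, g⁆ * g = g * ⁅a⁻¹ * y * a, g⁆ := by
      have h1 : ⁅⁅a⁻¹ * y * a, g⁆, g⁆ ∈ ⁅⁅Subgroup.center ↥(Cfsg.pCore p G) |>.map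
          (Cfsg.pCore p G).subtype, Subgroup.zpowers g⁆, Subgroup.zpowers g⁆ :=
        Subgroup.commutator_mem_commutator
          (Subgroup.commutator_mem_commutator hvV (Subgroup.mem_zpowers g)) (Subgroup.mem_zpowers g)
      rw [hgq, Subgroup.mem_bot] at h1
      exact commutatorElement_eq_one_iff_mul_comm.1 h1
    have hdV : g * (a⁻¹ * y * a) * g⁻¹ * (a⁻¹ * y * a)⁻¹ ∈
        (Subgroup.center ↥(Cfsg.pCore p G)).map (Cfsg.pCore p G).subtype :=
      Subgroup.mul_mem _ (hVconj _ hvV g) (Subgroup.inv_mem _ hvV)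
    have hdg : Commute g (g * (a⁻¹ * y * a) * g⁻¹ * (a⁻¹ * y * a)⁻¹) := by
      have e1 : g * (a⁻¹ * y * a) * g⁻¹ * (a⁻¹ * y * a)⁻¹ = ⁅a⁻¹ * y * a, g⁆⁻¹ := by
        rw [commutatorElement_def]
        group
      rw [e1]
      show g * ⁅a⁻¹ * y * a, g⁆⁻¹ = ⁅a⁻¹ * y * a, g⁆⁻¹ * g
      calc g * ⁅a⁻¹ * y * a, g⁆⁻¹ = ⁅a⁻¹ * y * a, g⁆⁻¹ * (⁅a⁻¹ * y * a, g⁆ * g) * ⁅a⁻¹ * y * a, g⁆⁻¹ := by
            group
        _ = ⁅a⁻¹ * y * a, g⁆⁻¹ * (g * ⁅a⁻¹ * y * a, g⁆) * ⁅a⁻¹ * y * a, g⁆⁻¹ := by rw [hcg]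
        _ = ⁅a⁻¹ * y * a, g⁆⁻¹ * g := by group
    have h1 := Helper49.conj_pow_eq_pow_mul (y := g) (u := a⁻¹ * y * a)
      (d := g * (a⁻¹ * y * a) * g⁻¹ * (a⁻¹ * y * a)⁻¹) (by group) hdg p
    have h2 : g ^ p * (a⁻¹ * y * a) = (a⁻¹ * y * a) * g ^ p := by
      have h3 : a * g ^ p * a⁻¹ ∈ (P : Subgroup G) := hcP (hcn.conj_mem _ hgp a)
      have h4 := hyc _ h3
      calc g ^ p * (a⁻¹ * y * a) = a⁻¹ * ((a * g ^ p * a⁻¹) * y) * a := by group
        _ = a⁻¹ * (y * (a * g ^ p * a⁻¹)) * a := by rw [h4]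
        _ = (a⁻¹ * y * a) * g ^ p := by group
    have h5 : (g * (a⁻¹ * y * a) * g⁻¹ * (a⁻¹ * y * a)⁻¹) ^ p = 1 := by
      have h6 : g ^ p * (a⁻¹ * y * a) * (g ^ p)⁻¹ = a⁻¹ * y * a := by
        rw [h2]
        group
      rw [h6] at h1
      exact (mul_eq_right.1 h1.symm)
    have h7 : g * (a⁻¹ * y * a) ^ p * g⁻¹ = (a⁻¹ * y * a) ^ p := by
      have e2 : g * (a⁻¹ * y * a) * g⁻¹ =
          (g * (a⁻¹ * y * a) * g⁻¹ * (a⁻¹ * y * a)⁻¹) * (a⁻¹ * y * a) := by group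
      have hcv : Commute (g * (a⁻¹ * y * a) * g⁻¹ * (a⁻¹ * y * a)⁻¹) (a⁻¹ * y * a) :=
        hVcomm _ hdV _ hvV
      rw [← conj_pow, e2, hcv.mul_pow, h5, one_mul]
    have e3 : (a⁻¹ * y * a) ^ p = a⁻¹ * y ^ p * a := by
      have := conj_pow (a := a⁻¹) (b := y) (i := p)
      rwa [inv_inv] at this
    rw [e3] at h7
    calc a * g * a⁻¹ * y ^ p = a * (g * (a⁻¹ * y ^ p * a) * g⁻¹) * (g * a⁻¹) := by group
      _ = a * (a⁻¹ * y ^ p * a) * (g * a⁻¹) := by rw [h7]
      _ = y ^ p * (a * g * a⁻¹) := by group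
  -- the normal closure of `g` centralizes `y ^ p`
  have hN : Subgroup.normalClosure ({g} : Set G) ≤ Subgroup.centralizer ({y ^ p} : Set G) := by
    refine (Subgroup.closure_le _).2 ?_
    intro e he
    obtain ⟨b, hb, hbe⟩ := Group.mem_conjugatesOfSet_iff.1 he
    rw [Set.mem_singleton_iff] at hb
    subst hb
    obtain ⟨c, rfl⟩ := isConj_iff.1 hbe
    show c * b * c⁻¹ ∈ Subgroup.centralizer ({y ^ p} : Set G)
    rw [Subgroup.mem_centralizer_iff]
    intro h hh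
    rw [Set.mem_singleton_iff] at hh
    rw [hh]
    exact (key c).symm
  have hgN : g ∈ Subgroup.normalClosure ({g} : Set G) :=
    Subgroup.subset_normalClosure (Set.mem_singleton g)
  -- Frattini argument
  have hP1 : IsPGroup p ↥(((P : Subgroup G) ⊓ Subgroup.normalClosure ({g} : Set G)).subgroupOf
      (Subgroup.normalClosure ({g} : Set G))) := (P.2.to_le inf_le_left).comap_subtype
  have hP2 : ¬ p ∣ (((P : Subgroup G) ⊓ Subgroup.normalClosure ({g} : Set G)).subgroupOf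
      (Subgroup.normalClosure ({g} : Set G))).index :=
    Helper32.not_dvd_relIndex_sylow_inf_normal P (Subgroup.normalClosure ({g} : Set G))
  have hfrat := Sylow.normalizer_sup_eq_top (hP1.toSylow hP2)
  rw [IsPGroup.toSylow_coe, Subgroup.subgroupOf_map_subtype, inf_assoc, inf_idem] at hfrat
  have hPK : (P : Subgroup G) ≤ Subgroup.normalizer
      (((P : Subgroup G) ⊓ Subgroup.normalClosure ({g} : Set G) : Subgroup G) : Set G) := by
    intro u hu
    apply Helper84.mem_normalizer_of_forall_conj_mem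
    intro h hh
    exact ⟨Subgroup.mul_mem _ (Subgroup.mul_mem _ hu hh.1) (Subgroup.inv_mem _ hu),
      Subgroup.normalClosure_normal.conj_mem h hh.2 u⟩
  have hKne : Subgroup.normalizer
      (((P : Subgroup G) ⊓ Subgroup.normalClosure ({g} : Set G) : Subgroup G) : Set G) ≠ ⊤ := by
    intro h
    have hnorm : ((P : Subgroup G) ⊓ Subgroup.normalClosure ({g} : Set G)).Normal :=
      Subgroup.normalizer_eq_top_iff.1 h
    exact hgc (Helper49.le_pCore hnorm (P.2.to_le inf_le_left) ⟨hgP, hgN⟩)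
  have hKlt : Nat.card ↥(Subgroup.normalizer
      (((P : Subgroup G) ⊓ Subgroup.normalClosure ({g} : Set G) : Subgroup G) : Set G)) < n := by
    by_contra hcon
    rw [← hn] at hcon
    exact hKne (Subgroup.eq_top_of_le_card _ (not_lt.1 hcon))
  -- the induction hypothesis for `K = N_G(P ∩ N)`
  obtain ⟨K, hK⟩ : ∃ K : Subgroup G, K = Subgroup.normalizer
      (((P : Subgroup G) ⊓ Subgroup.normalClosure ({g} : Set G) : Subgroup G) : Set G) := ⟨_, rfl⟩
  rw [← hK] at hPK hKne hKlt hfrat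
  have hcK : pCore p G ≤ K := hcP.trans hPK
  have hcRK : Subgroup.centralizer ((pCore p ↥K : Subgroup ↥K) : Set ↥K) ≤ pCore p ↥K := by
    intro c hc
    have h1 : (pCore p G).subgroupOf K ≤ pCore p ↥K :=
      Helper49.subgroupOf_le_pCore hcK (by rw [Subgroup.normalizer_eq_top]; exact le_top)
        (Helper49.pCore_isPGroup p G)
    apply h1
    rw [Subgroup.mem_subgroupOf]
    apply hcR
    rw [Subgroup.mem_centralizer_iff]
    intro d hd
    have h2 := Subgroup.mem_centralizer_iff.1 hc ⟨d, hcK hd⟩ (h1 (Subgroup.mem_subgroupOf.2 hd))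
    exact congrArg Subtype.val h2
  have hres := ih (Nat.card ↥K) hKlt ↥K rfl hcRK (P.subtype hPK) ⟨y, hPK hyP⟩ ?_ ?_ ?_
  · have hKc : K ≤ Subgroup.centralizer ({y ^ p} : Set G) := by
      intro k hk
      rw [Subgroup.mem_centralizer_iff]
      intro h hh
      rw [Set.mem_singleton_iff] at hh
      rw [hh]
      exact (congrArg Subtype.val (hres ⟨k, hk⟩)).symm
    have hle := sup_le hKc hN
    rw [hfrat] at hle
    have := Subgroup.mem_centralizer_iff.1 (hle (Subgroup.mem_top x)) (y ^ p) (Set.mem_singleton _)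
    exact this.symm
  · show (⟨y, hPK hyP⟩ : ↥K) ∈ (P : Subgroup G).subgroupOf K
    exact Subgroup.mem_subgroupOf.2 hyP
  · intro s hs
    have hs' : (s : G) ∈ (P : Subgroup G) := Subgroup.mem_subgroupOf.1 hs
    exact Subtype.ext (hyc s hs')
  · intro m hm
    apply Subtype.ext
    show (m : G) * y ^ p = y ^ p * m
    apply hyN
    have hPKp : IsPGroup p ↥((P.subtype hPK : Sylow p ↥K) : Subgroup ↥K) := (P.subtype hPK).2
    obtain ⟨hWe1, hWe2⟩ := Wsub_equiv W hW2 (S := ((P.subtype hPK : Sylow p ↥K) : Subgroup ↥K))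
      (T := (P : Subgroup G)) hPKp (Subgroup.subgroupOfEquivOfLe hPK)
    apply Helper84.mem_normalizer_of_forall_conj_mem
    intro w hw
    obtain ⟨x', hx', hxW, hxw⟩ := hWe2 w hw
    have h1 : m * x' * m⁻¹ ∈ Wsub W ((P.subtype hPK : Sylow p ↥K) : Subgroup ↥K) :=
      (Subgroup.mem_normalizer_iff.1 hm x').1 hxW
    have h2 := hWe1 _ (Wsub_le W _ h1) h1
    have e1 : (x' : G) = w := hxw
    rw [← e1]
    exact h2

end QuadCenter

end Cfsg.Agent.Helper86
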