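import Cfsg.Agent.Helper86.WeakClosureB
import Cfsg.Agent.Helper86.QuadCenter

/-!
# Central `p`-th powers and a functor: the induction, part A (helper86)

A variant of the induction of `WeakClosureA/B` for subgroups `Z ≤ S` all of whose elements are `p`-th powers of
central elements of `S` (`PowCen p S Z`): `XP W p F` says that such a `Z` whose elements are fixed by the maps of
`N_F(W(S))` consists of elements fixed by all maps of `F`.
-/

set_option autoImplicit false

namespace Cfsg.Agent.Helper86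

open Cfsg Cfsg.FusionSystem Cfsg.Agent.Helper84

universe u

section PowDefs

variable {Ω : Type*} [Group Ω]

/-- Every element of `Z` is the `p`-th power of a central element of `S`. -/
def PowCen (p : ℕ) (S Z : Subgroup Ω) : Prop :=
  ∀ z ∈ Z, ∃ y ∈ S, (∀ s ∈ S, s * y * s⁻¹ = y) ∧ z = y ^ p

theorem powCen_of_eq {p : ℕ} {S S' Z : Subgroup Ω} (h : S' = S) (hZ : PowCen p S Z) :
    PowCen p S' Z := by
  subst h
  exact hZ

theorem powCen_normalizerIn {p : ℕ} {S Z : Subgroup Ω} [Finite S] (hZ : PowCen p S Z)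
    {Q : Subgroup Ω} (hQS : Q ≤ S) : PowCen p (normalizerIn S Q) Z := by
  intro z hz
  obtain ⟨y, hyS, hyc, rfl⟩ := hZ z hz
  have : Finite Q := finite_of_le hQS
  refine ⟨y, ⟨hyS, mem_normalizer_of_forall_conj_mem Q (fun q hq => ?_)⟩, fun s hs => hyc s hs.1, rfl⟩
  have h1 := hyc q (hQS hq)
  have h2 : y * q * y⁻¹ = q := by
    calc y * q * y⁻¹ = (q * y * q⁻¹) * q * y⁻¹ := by rw [h1]
      _ = q := by group
  rw [h2]
  exact hq

end PowDefs

section PowA

variable {p : ℕ} [Fact p.Prime] (W : ∀ (Q : Type u) [Group Q], Subgroup Q)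

/-- Control of weak closure of central `p`-th powers, in element form. -/
def XP (p : ℕ) {Ω : Type u} [Group Ω] {S : Subgroup Ω} (F : FusionSystem S) : Prop :=
  ∀ Z : Subgroup Ω, Z ≤ S → PowCen p S Z → (∀ z ∈ Z, FixN F (Wsub W S) z) → ∀ z ∈ Z, FixAll F z

/-- The induction hypothesis: `XP` for all smaller saturated systems. -/
def IHP (p : ℕ) {Ω : Type u} [Group Ω] {S : Subgroup Ω} (F : FusionSystem S) : Prop :=
  ∀ (Ω' : Type u) [Group Ω'] (S' : Subgroup Ω') [Finite S'], IsPGroup p S' →
    ∀ F' : FusionSystem S', F'.IsSaturated p →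
      (Nat.card S' < Nat.card S ∨ (Nat.card S' = Nat.card S ∧ dnn F' < dnn F)) → XP W p F'

variable {Ω : Type u} [Group Ω] {S : Subgroup Ω}

/-- Elements fixed by `N_F(W(S))` are fixed by `N_F(R)` for `R` normal in `S` but not in `F`. -/
theorem fixN_of_normal_in_S_pow [Finite S] (hS : IsPGroup p S) (F : FusionSystem S) (hF : F.IsSaturated p)
    (ih : IHP W p F) {R : Subgroup Ω} (hRS : R ≤ S) (hR : S ≤ Subgroup.normalizer (R : Set Ω))
    (hRn : ¬ F.IsNormal R) {Z : Subgroup Ω} (hZS : Z ≤ S) (hZp : PowCen p S Z)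
    (hZ : ∀ z ∈ Z, FixN F (Wsub W S) z) :
    ∀ z ∈ Z, FixN F R z := by
  obtain ⟨E, hE⟩ := exists_normalizerSystem F R hRS
  have hEsat := normalizerSystem_saturated p hS F hF R (fullyNormalized_of_le_normalizer F hRS hR) E hE
  have hNS : normalizerIn S R = S := normalizerIn_eq_of_le_normalizer hR
  have hXE := ih Ω (normalizerIn S R) (hS.to_le inf_le_left) E hEsat
    (Or.inr ⟨congrArg (fun X : Subgroup Ω => Nat.card X) hNS, dnn_lt F hRS hR hRn E hE⟩)
  have h1 : ∀ z ∈ Z, FixN E (Wsub W (normalizerIn S R)) z := by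
    intro z hz P φ hφ x hx
    have h2 := normalizerHom_nsys_subset F E hE _ P hφ
    rw [Wsub_congr W hNS] at h2
    exact hZ z hz P φ h2 x hx
  intro z hz P φ hφ x hx
  exact hXE Z (hZS.trans (le_of_eq hNS.symm)) (powCen_of_eq hNS hZp) h1 z hz P φ (by rw [hE P]; exact hφ) x hx

/-- The case without nontrivial normal subgroups. -/
theorem xp_caseA (hW1 : WPos p W) (hW2 : WIso p W) [Finite S] (hS : IsPGroup p S) (F : FusionSystem S)
    (hF : F.IsSaturated p) (ih : IHP W p F) (hA : ∀ Q, F.IsNormal Q → Q = ⊥)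
    {Z : Subgroup Ω} (hZS : Z ≤ S) (hZp : PowCen p S Z) (hZ : ∀ z ∈ Z, FixN F (Wsub W S) z) :
    ∀ z ∈ Z, FixAll F z := by
  have hcent : ∀ z ∈ Z, ∀ s ∈ S, s * z * s⁻¹ = z := fun z hz =>
    central_of_fixN W hW2 hS F (hZS hz) (hZ z hz)
  have claim : ∀ m : ℕ, ∀ Q : Subgroup Ω, Q ≠ ⊥ → F.IsFullyNormalized Q →
      Nat.card S - Nat.card (normalizerIn S Q) = m → ∀ z ∈ Z, FixN F Q z := by
    intro m
    induction m using Nat.strong_induction_on with
    | _ m ihm =>
    intro Q hQbot hQfn hm
    have hQS := hQfn.1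
    by_cases hQn : S ≤ Subgroup.normalizer (Q : Set Ω)
    · exact fixN_of_normal_in_S_pow W hS F hF ih hQS hQn (fun h => hQbot (hA Q h)) hZS hZp hZ
    · obtain ⟨E, hE⟩ := exists_normalizerSystem F Q hQS
      have hEsat := normalizerSystem_saturated p hS F hF Q hQfn E hE
      have hS₁ : IsPGroup p (normalizerIn S Q) := hS.to_le inf_le_left
      have hXE := ih Ω (normalizerIn S Q) hS₁ E hEsat (Or.inl (card_normalizerIn_lt hQn))
      have hS₁S : normalizerIn S Q ≤ S := inf_le_left
      have hS₁ne : normalizerIn S Q ≠ S := by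
        intro e
        apply hQn
        rw [← e]
        exact inf_le_right
      have hS₁bot : normalizerIn S Q ≠ ⊥ := by
        intro e
        apply hQbot
        rw [eq_bot_iff, ← e]
        exact le_normalizerIn hQS
      have hVS₁ : Wsub W (normalizerIn S Q) ≤ normalizerIn S Q := Wsub_le W _
      have hVS : Wsub W (normalizerIn S Q) ≤ S := hVS₁.trans hS₁S
      have hVbot : Wsub W (normalizerIn S Q) ≠ ⊥ := Wsub_ne_bot W hW1 hS₁ hS₁bot
      have hS₁N₂ : normalizerIn S (normalizerIn S Q) ≤ normalizerIn S (Wsub W (normalizerIn S Q)) :=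
        inf_le_inf_left S (Wsub_normalizer W hW2 hS₁)
      have hcard1 : Nat.card (normalizerIn S Q) <
          Nat.card (normalizerIn S (Wsub W (normalizerIn S Q))) :=
        lt_of_lt_of_le (Helper87.card_lt_card_normalizerIn hS hS₁S hS₁ne) (Subgroup.card_le_of_le hS₁N₂)
      obtain ⟨V', hVV', hV'fn⟩ := exists_fullyNormalized_conj F hVS
      obtain ⟨hV'fa, hV'rec⟩ := saturated_fullyNormalized hS F hF hV'fn
      obtain ⟨χ, hχ, hχN, hχV⟩ := exists_normalizer_map p hS F V' _ hV'fa hV'rec hVV'
      have hV'bot : V' ≠ ⊥ := by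
        intro e
        apply hVbot
        rw [eq_bot_iff]
        intro v hv
        have h1 : χ ⟨v, le_normalizerIn hVS hv⟩ ∈ V' := (le_of_eq hχV) ⟨_, hv, rfl⟩
        rw [e, Subgroup.mem_bot] at h1
        have h2 := F.injective_of_mem hχ (h1.trans (map_one χ).symm)
        exact Subgroup.mem_bot.2 (congrArg Subtype.val h2)
      have hcard2 : Nat.card (normalizerIn S (Wsub W (normalizerIn S Q))) ≤
          Nat.card (normalizerIn S V') :=
        Nat.card_le_card_of_injective (fun x => (⟨χ x, hχN x⟩ : normalizerIn S V'))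
          (fun a b hab => F.injective_of_mem hχ (congrArg Subtype.val hab))
      have hcard3 : Nat.card (normalizerIn S V') ≤ Nat.card S := Subgroup.card_le_of_le inf_le_left
      have hV'fix : ∀ z ∈ Z, FixN F V' z := ihm _ (by omega) V' hV'bot hV'fn rfl
      have hχfix : ∀ z ∈ Z, ∀ x : ↥(normalizerIn S (Wsub W (normalizerIn S Q))),
          (χ x = z ↔ (x : Ω) = z) := by
        intro z hz
        refine fix_iff_of_aut hS F hF z (Nat.card (normalizerIn S (Wsub W (normalizerIn S Q)))) ?_
          _ χ hχ le_rfl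
        intro R hRfn hRcard α hα hαR x hx
        have hRS := hRfn.1
        have : Finite R := finite_of_le hRS
        have hRbot : R ≠ ⊥ := by
          intro e
          rw [e, Subgroup.card_bot] at hRcard
          have : 0 < Nat.card (normalizerIn S Q) := Nat.card_pos
          omega
        have hcard4 : Nat.card R ≤ Nat.card (normalizerIn S R) :=
          Subgroup.card_le_of_le (le_normalizerIn hRS)
        have hcard5 : Nat.card (normalizerIn S R) ≤ Nat.card S := Subgroup.card_le_of_le inf_le_left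
        have h1 := ihm _ (by omega) R hRbot hRfn rfl z hz
        exact h1 R α (normalizerHom_of_self F le_rfl (le_normalizerIn hRS) hα
          (map_subgroupOf_eq_of_forall_mem le_rfl (F.injective_of_mem hα) (fun x _ => hαR x))) x hx
      have h1 : ∀ z ∈ Z, FixN E (Wsub W (normalizerIn S Q)) z := by
        intro z hz P φ hφ x hx
        obtain ⟨hφE, hPN, hφN, ψ, hψE, hψφ, hψV⟩ := hφ
        have hψF := nsys_hom_le F E hE hψE
        have hAle : P ⊔ Wsub W (normalizerIn S Q) ≤ normalizerIn S (Wsub W (normalizerIn S Q)) :=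
          sup_le (hPN.trans (normalizerIn_normalizerIn_le S Q _)) (le_normalizerIn hVS)
        have hS₁N : normalizerIn S Q ≤ normalizerIn S (Wsub W (normalizerIn S Q)) :=
          (le_normalizerIn hS₁S).trans hS₁N₂
        have hψN : ∀ a, ψ a ∈ normalizerIn S (Wsub W (normalizerIn S Q)) :=
          fun a => hS₁N (hom_mem E hψE a)
        obtain ⟨A', ψ', hψ', hform⟩ :=
          exists_transport_normalizerHom F hχ hχV le_sup_right hAle hψF hψN hψV
        obtain ⟨h2, h3⟩ := hform (Subgroup.inclusion le_sup_left x)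
        have hχz := (hχfix z hz ⟨_, hAle (Subgroup.inclusion le_sup_left x).2⟩).2 hx
        have h4 := hV'fix z hz A' ψ' hψ' ⟨_, h2⟩ hχz
        rw [h3] at h4
        have h5 := (hχfix z hz ⟨_, hψN _⟩).1 h4
        rw [← hψφ x]
        exact h5
      intro z hz P φ hφ x hx
      exact hXE Z (le_normalizerIn_of_central hZS hcent hQS) (powCen_normalizerIn hZp hQS) h1 z hz P φ (by rw [hE P]; exact hφ) x hx
  intro z hz
  refine fixAll_of_aut hS F hF z ?_
  intro R hRfn α hα hαR x hx
  have hRS := hRfn.1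
  have : Finite R := finite_of_le hRS
  by_cases hRbot : R = ⊥
  · subst hRbot
    have h1 : x = 1 := Subtype.ext (Subgroup.mem_bot.1 x.2)
    rw [← hx, h1, map_one]
    rfl
  · exact claim _ R hRbot hRfn rfl z hz R α (normalizerHom_of_self F le_rfl (le_normalizerIn hRS) hα
      (map_subgroupOf_eq_of_forall_mem le_rfl (F.injective_of_mem hα) (fun x _ => hαR x))) x hx

end PowA

end Cfsg.Agent.Helper86
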