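import Cfsg.Agent.Helper86.Biset

/-!
# A stable biset for an arbitrary fusion system, in numerical form (helper86)

For any fusion system `F` over a finite group `S` (no saturation) there is a multiplicity function `mult` on the
subgroups of `S × S`, supported on graphs of maps of `F`, whose weighted fixed point numbers on graphs of maps
of `F` depend only on the `F`-conjugacy class of the source, and for which the diagonal has a fixed point.
The Burnside congruences are killed by multiplying all multiplicities by `|S × S|!` at each stage.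
-/

set_option autoImplicit false

namespace Cfsg.Agent.Helper86

open Cfsg Cfsg.FusionSystem Cfsg.Agent.Helper87 MulAction

universe u

variable {Ω : Type u} [Group Ω] {S : Subgroup Ω}

theorem cnt_scale {G : Type u} [Group G] [Finite G] (c : ℕ) (mult : Subgroup G → ℕ) (D : Subgroup G) :
    cnt (fun K => c * mult K) D = c * cnt mult D := by
  unfold cnt
  have := Fintype.ofFinite (Subgroup G)
  rw [finsum_eq_sum_of_fintype, finsum_eq_sum_of_fintype, Finset.mul_sum]
  exact Finset.sum_congr rfl (fun K _ => by rw [mul_assoc])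

theorem inv_scale (F : FusionSystem S) [Finite S] (c : ℕ) (mult : Subgroup (↥S × ↥S) → ℕ) (k : ℕ)
    (h : Inv F mult k) : Inv F (fun K => c * mult K) k := by
  intro P P' φ φ' hφ hφ' hc hk
  rw [cnt_scale, cnt_scale, h P P' φ φ' hφ hφ' hc hk]

/-- One step of the construction for an arbitrary fusion system: after multiplying the multiplicities by
`|S × S|!`, the fixed point numbers on the graphs whose source has `ℓ` elements can be adjusted. -/
theorem biset_step_any [Finite S] (F : FusionSystem S)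
    (mult : Subgroup (↥S × ↥S) → ℕ) (hsupp : ∀ K, mult K ≠ 0 → IsGraph F K)
    (ℓ : ℕ) (hinv : Inv F mult ℓ) :
    ∃ mult' : Subgroup (↥S × ↥S) → ℕ, (∀ K, mult' K ≠ 0 → IsGraph F K) ∧
      (∀ D, cnt mult D ≤ cnt mult' D) ∧ ∀ k, ℓ ≤ k + 1 → Inv F mult' k := by
  classical
  obtain ⟨c, hc⟩ : ∃ c : ℕ, c = (Nat.card (↥S × ↥S)).factorial := ⟨_, rfl⟩
  have hcpos : 0 < c := by rw [hc]; exact Nat.factorial_pos _
  obtain ⟨m1, hm1⟩ : ∃ m1 : Subgroup (↥S × ↥S) → ℕ, m1 = fun K => c * mult K := ⟨_, rfl⟩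
  have hcnt1 : ∀ D, cnt m1 D = c * cnt mult D := fun D => by rw [hm1, cnt_scale]
  have hsupp1 : ∀ K, m1 K ≠ 0 → IsGraph F K := by
    intro K hK
    apply hsupp K
    intro h
    apply hK
    rw [hm1]
    show c * mult K = 0
    rw [h, mul_zero]
  have hinv1 : Inv F m1 ℓ := by rw [hm1]; exact inv_scale F c mult ℓ hinv
  obtain ⟨V, hV⟩ : ∃ V : ℕ, V = c * ∑ᶠ D : Subgroup (↥S × ↥S), cnt mult D := ⟨_, rfl⟩
  have hv2 : ∀ K ∈ levelSet F ℓ, cnt m1 K ≤ V := by
    intro K _
    rw [hcnt1, hV]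
    exact Nat.mul_le_mul_left c (cnt_le_finsum mult K)
  have hv3 : ∀ K ∈ levelSet F ℓ, V ≡ cnt m1 K [MOD Nat.card (fixedPoints K ((↥S × ↥S) ⧸ K))] := by
    intro K _
    have hd : Nat.card (fixedPoints K ((↥S × ↥S) ⧸ K)) ∣ c := by rw [hc]; exact fix_dvd_factorial K
    have h1 : V ≡ 0 [MOD Nat.card (fixedPoints K ((↥S × ↥S) ⧸ K))] :=
      (Nat.modEq_zero_iff_dvd).2 (by rw [hV]; exact Dvd.dvd.mul_right hd _)
    have h2 : cnt m1 K ≡ 0 [MOD Nat.card (fixedPoints K ((↥S × ↥S) ⧸ K))] :=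
      (Nat.modEq_zero_iff_dvd).2 (by rw [hcnt1]; exact Dvd.dvd.mul_right hd _)
    exact h1.trans h2.symm
  obtain ⟨add, hadd1, hadd2, hadd3⟩ := exists_add m1 (levelSet F ℓ) ℓ (levelSet_card F ℓ)
    (levelSet_conj F ℓ) (fun _ => V) (fun _ _ _ _ => rfl) hv2 hv3
  refine ⟨m1 + add, ?_, ?_, ?_⟩
  · intro K hK
    by_cases hm : m1 K = 0
    · have : add K ≠ 0 := by
        intro h
        apply hK
        rw [Pi.add_apply, hm, h]
      exact levelSet_isGraph F _ K (hadd1 K this)
    · exact hsupp1 K hm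
  · intro D
    rw [cnt_add, hcnt1]
    calc cnt mult D = 1 * cnt mult D := (one_mul _).symm
      _ ≤ c * cnt mult D := Nat.mul_le_mul_right _ hcpos
      _ ≤ c * cnt mult D + cnt add D := Nat.le_add_right _ _
  · intro k hk P P' φ φ' hφ hφ' hcj hkP
    have hcc : Nat.card P' = Nat.card P := isConj_card F hcj
    by_cases hP : Nat.card P = ℓ
    · rw [hadd2 _ ⟨P, φ, hφ, hP, rfl⟩, hadd2 _ ⟨P', φ', hφ', hcc.trans hP, rfl⟩]
    · have h1 : ℓ < Nat.card (graph S P φ) := by
        rw [card_graph (hom_le F hφ) (hom_mem F hφ)]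
        omega
      have h2 : ℓ < Nat.card (graph S P' φ') := by
        rw [card_graph (hom_le F hφ') (hom_mem F hφ')]
        omega
      rw [cnt_add, cnt_add, hadd3 _ h1, hadd3 _ h2, add_zero, add_zero]
      exact hinv1 P P' φ φ' hφ hφ' hcj (by omega)

/-- The top level for an arbitrary fusion system. -/
theorem biset_top_any [Finite S] (F : FusionSystem S) :
    ∃ add : Subgroup (↥S × ↥S) → ℕ, (∀ K, add K ≠ 0 → K ∈ levelSet F (Nat.card S)) ∧
      (∀ K ∈ levelSet F (Nat.card S), cnt add K = Nat.card (Subgroup.center ↥S)) := by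
  classical
  have hw : ∀ K ∈ levelSet F (Nat.card S),
      Nat.card (fixedPoints K ((↥S × ↥S) ⧸ K)) = Nat.card (Subgroup.center ↥S) := by
    intro K hK
    obtain ⟨φ, hφ, rfl⟩ := levelSet_top F hK
    exact fix_graph_top F hφ
  have hcnt0 : ∀ D, cnt (0 : Subgroup (↥S × ↥S) → ℕ) D = 0 := by
    intro D
    unfold cnt
    simp
  obtain ⟨add, hadd1, hadd2, -⟩ := exists_add (0 : Subgroup (↥S × ↥S) → ℕ) (levelSet F (Nat.card S))
    (Nat.card S) (levelSet_card F _) (levelSet_conj F _) (fun _ => Nat.card (Subgroup.center ↥S))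
    (fun _ _ _ _ => rfl) (fun K _ => by rw [hcnt0]; exact Nat.zero_le _)
    (fun K hK => by rw [hcnt0, hw K hK]; exact (Nat.modEq_zero_iff_dvd.2 dvd_rfl))
  refine ⟨add, hadd1, ?_⟩
  intro K hK
  have := hadd2 K hK
  rwa [zero_add] at this

/-- **A stable biset for an arbitrary fusion system, in numerical form.** -/
theorem exists_biset_any [Finite S] (F : FusionSystem S) :
    ∃ mult : Subgroup (↥S × ↥S) → ℕ, (∀ K, mult K ≠ 0 → IsGraph F K) ∧ Inv F mult 0 ∧
      0 < cnt mult (graph S S S.subtype) := by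
  have hSpos : 0 < Nat.card S := Nat.card_pos
  have key : ∀ j : ℕ, ∃ mult : Subgroup (↥S × ↥S) → ℕ, (∀ K, mult K ≠ 0 → IsGraph F K) ∧
      Inv F mult (Nat.card S - 1 - j) ∧ 0 < cnt mult (graph S S S.subtype) := by
    intro j
    induction j with
    | zero =>
      obtain ⟨add, hadd1, hadd2⟩ := biset_top_any F
      refine ⟨add, fun K hK => levelSet_isGraph F _ K (hadd1 K hK), ?_, ?_⟩
      · intro P P' φ φ' hφ hφ' hc hk
        have h1 : Nat.card P = Nat.card S := by
          have := card_le_card_S (hom_le F hφ)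
          omega
        rw [hadd2 _ ⟨P, φ, hφ, h1, rfl⟩, hadd2 _ ⟨P', φ', hφ', (isConj_card F hc).trans h1, rfl⟩]
      · rw [hadd2 _ ⟨S, S.subtype, subtype_mem F (le_refl S), rfl, rfl⟩]
        exact Nat.card_pos
    | succ j ih =>
      obtain ⟨mult, h1, h2, h3⟩ := ih
      obtain ⟨mult', hm1, hm2, hm3⟩ := biset_step_any F mult h1 _ h2
      exact ⟨mult', hm1, hm3 _ (by omega), lt_of_lt_of_le h3 (hm2 _)⟩
  obtain ⟨mult, h1, h2, h3⟩ := key (Nat.card S)
  refine ⟨mult, h1, ?_, h3⟩
  have : Nat.card S - 1 - Nat.card S = 0 := by omega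
  rwa [this] at h2

end Cfsg.Agent.Helper86
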