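import Cfsg.Agent.Helper86.RealA
import Cfsg.Agent.Helper86.Marks

/-!
# Realizing a fusion system inside a finite group (helper86)

Park's construction: from a stable biset `X` for the fusion system `F` over `S` (given by a multiplicity function
on the subgroups of `S × S`), the group of permutations of `X` commuting with the right action of `S` realizes `F`
through the left action of `S`.
-/

set_option autoImplicit false

namespace Cfsg.Agent.Helper86

open Cfsg Cfsg.FusionSystem Cfsg.Agent.Helper87 MulAction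

universe u

variable {Ω : Type u} [Group Ω] {S : Subgroup Ω}

/-- The `S × S`-set `⨆ K, mult K • ((S × S) ⧸ K)`. -/
def BSet (S : Subgroup Ω) (mult : Subgroup (↥S × ↥S) → ℕ) : Type u :=
  Σ K : Subgroup (↥S × ↥S), Fin (mult K) × ((↥S × ↥S) ⧸ K)

/-- The point of the biset in the copy `i` of `(S × S) ⧸ K` given by the coset `q`. -/
def bmk (mult : Subgroup (↥S × ↥S) → ℕ) (K : Subgroup (↥S × ↥S)) (i : Fin (mult K))
    (q : (↥S × ↥S) ⧸ K) : BSet S mult := ⟨K, i, q⟩

theorem bset_exists (mult : Subgroup (↥S × ↥S) → ℕ) (x : BSet S mult) :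
    ∃ (K : Subgroup (↥S × ↥S)) (i : Fin (mult K)) (q : (↥S × ↥S) ⧸ K), x = bmk mult K i q := by
  obtain ⟨K, i, q⟩ := x
  exact ⟨K, i, q, rfl⟩

theorem bmk_inj (mult : Subgroup (↥S × ↥S) → ℕ) (K : Subgroup (↥S × ↥S)) (i : Fin (mult K))
    (q q' : (↥S × ↥S) ⧸ K) (h : bmk mult K i q = bmk mult K i q') : q = q' := by
  have h1 := eq_of_heq (Sigma.mk.inj_iff.1 h).2
  exact congrArg Prod.snd h1

instance bsetSMul (mult : Subgroup (↥S × ↥S) → ℕ) : SMul (↥S × ↥S) (BSet S mult) :=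
  ⟨fun g x => ⟨x.1, x.2.1, g • x.2.2⟩⟩

theorem bset_smul_mk (mult : Subgroup (↥S × ↥S) → ℕ) (g : ↥S × ↥S) (K : Subgroup (↥S × ↥S))
    (i : Fin (mult K)) (q : (↥S × ↥S) ⧸ K) :
    g • bmk mult K i q = bmk mult K i (g • q) := rfl

instance bsetAction (mult : Subgroup (↥S × ↥S) → ℕ) : MulAction (↥S × ↥S) (BSet S mult) where
  one_smul := by
    intro x
    obtain ⟨K, i, q, rfl⟩ := bset_exists mult x
    rw [bset_smul_mk, one_smul]
  mul_smul := by
    intro g h x
    obtain ⟨K, i, q, rfl⟩ := bset_exists mult x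
    rw [bset_smul_mk, bset_smul_mk, bset_smul_mk, mul_smul]

instance bsetFinite [Finite S] (mult : Subgroup (↥S × ↥S) → ℕ) : Finite (BSet S mult) := by
  unfold BSet
  infer_instance

/-- The stabilizer of a point of the biset. -/
theorem bset_smul_eq_iff (mult : Subgroup (↥S × ↥S) → ℕ) (g : ↥S × ↥S) (K : Subgroup (↥S × ↥S))
    (i : Fin (mult K)) (c : ↥S × ↥S) :
    g • bmk mult K i (c : (↥S × ↥S) ⧸ K) = bmk mult K i (c : (↥S × ↥S) ⧸ K) ↔ c⁻¹ * g * c ∈ K := by
  rw [bset_smul_mk]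
  constructor
  · intro h
    have h2 : ((g * c : ↥S × ↥S) : (↥S × ↥S) ⧸ K) = (c : (↥S × ↥S) ⧸ K) := bmk_inj mult K i _ _ h
    rw [QuotientGroup.eq] at h2
    have h3 : c⁻¹ * g * c = ((g * c)⁻¹ * c)⁻¹ := by group
    rw [h3]
    exact K.inv_mem h2
  · intro h
    have h2 : ((g * c : ↥S × ↥S) : (↥S × ↥S) ⧸ K) = (c : (↥S × ↥S) ⧸ K) := by
      rw [QuotientGroup.eq]
      have h3 : (g * c)⁻¹ * c = (c⁻¹ * g * c)⁻¹ := by group
      rw [h3]
      exact K.inv_mem h
    exact congrArg (bmk mult K i) h2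

/-- The number of fixed points of `D` on the biset is the weighted fixed point number. -/
theorem card_fix_bset [Finite S] (mult : Subgroup (↥S × ↥S) → ℕ) (D : Subgroup (↥S × ↥S)) :
    Nat.card (fixedPoints D (BSet S mult)) = cnt mult D := by
  have := Fintype.ofFinite (Subgroup (↥S × ↥S))
  have e : fixedPoints D (BSet S mult) ≃
      Σ K : Subgroup (↥S × ↥S), Fin (mult K) × fixedPoints D ((↥S × ↥S) ⧸ K) :=
    { toFun := fun x => ⟨x.1.1, x.1.2.1, ⟨x.1.2.2, fun d => bmk_inj mult x.1.1 x.1.2.1 _ _ (x.2 d)⟩⟩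
      invFun := fun y => ⟨bmk mult y.1 y.2.1 y.2.2.1, fun d => congrArg (bmk mult y.1 y.2.1) (y.2.2.2 d)⟩
      left_inv := by
        rintro ⟨⟨K, i, q⟩, hx⟩
        rfl
      right_inv := by
        rintro ⟨K, i, q, hq⟩
        rfl }
  rw [Nat.card_congr e, Nat.card_sigma]
  unfold cnt
  rw [finsum_eq_sum_of_fintype]
  refine Finset.sum_congr rfl (fun K _ => ?_)
  rw [Nat.card_prod, Nat.card_fin]

/-- The group of permutations of the biset commuting with the right action of `S`. -/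
def RGroup (S : Subgroup Ω) (mult : Subgroup (↥S × ↥S) → ℕ) : Subgroup (Equiv.Perm (BSet S mult)) where
  carrier := {σ | ∀ (t : ↥S) (x : BSet S mult), σ (((1 : ↥S), t) • x) = ((1 : ↥S), t) • σ x}
  mul_mem' := by
    intro σ τ hσ hτ t x
    show σ (τ (((1 : ↥S), t) • x)) = ((1 : ↥S), t) • σ (τ x)
    rw [hτ, hσ]
  one_mem' := fun t x => rfl
  inv_mem' := by
    intro σ hσ t x
    apply σ.injective
    rw [hσ]
    show σ (σ.symm (((1 : ↥S), t) • x)) = ((1 : ↥S), t) • σ (σ.symm x)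
    rw [Equiv.apply_symm_apply, Equiv.apply_symm_apply]

theorem mem_rgroup (mult : Subgroup (↥S × ↥S) → ℕ) (σ : Equiv.Perm (BSet S mult)) :
    σ ∈ RGroup S mult ↔ ∀ (t : ↥S) (x : BSet S mult), σ (((1 : ↥S), t) • x) = ((1 : ↥S), t) • σ x :=
  Iff.rfl

instance rgroupFinite [Finite S] (mult : Subgroup (↥S × ↥S) → ℕ) : Finite ↥(RGroup S mult) :=
  inferInstance

/-- The left action of `S`, as a homomorphism into the group of right-equivariant permutations. -/
def leftHom (S : Subgroup Ω) (mult : Subgroup (↥S × ↥S) → ℕ) : ↥S →* ↥(RGroup S mult) :=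
  ((MulAction.toPermHom (↥S × ↥S) (BSet S mult)).comp (MonoidHom.inl ↥S ↥S)).codRestrict (RGroup S mult)
    (by
      intro s t x
      show ((s, (1 : ↥S)) : ↥S × ↥S) • (((1 : ↥S), t) • x) = ((1 : ↥S), t) • (((s, (1 : ↥S)) : ↥S × ↥S) • x)
      rw [← mul_smul, ← mul_smul]
      congr 1
      ext <;> simp)

theorem leftHom_apply (mult : Subgroup (↥S × ↥S) → ℕ) (s : ↥S) (x : BSet S mult) :
    ((leftHom S mult s : ↥(RGroup S mult)) : Equiv.Perm (BSet S mult)) x = ((s, (1 : ↥S)) : ↥S × ↥S) • x := rfl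

end Cfsg.Agent.Helper86
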