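import Cfsg.Agent.Helper86.RealC

/-!
# Realizing a fusion system inside a finite group, II (helper86)

The group of right-equivariant permutations of a stable biset realizes the fusion system.
-/

set_option autoImplicit false

namespace Cfsg.Agent.Helper86

open Cfsg Cfsg.FusionSystem Cfsg.Agent.Helper87 MulAction

universe u

variable {Ω : Type u} [Group Ω] {S : Subgroup Ω}

/-- Fixed points of a twisted action. -/
theorem card_fix_tw {N G : Type*} [Group N] [Group G] (Θ : N →* G) (X : Type*) [MulAction G X]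
    (D : Subgroup N) :
    Nat.card (fixedPoints D (Tw Θ X)) = Nat.card (fixedPoints (D.map Θ) X) := by
  apply Nat.card_congr
  refine Equiv.subtypeEquivRight (fun q => ?_)
  constructor
  · rintro hq ⟨_, d, hd, rfl⟩
    exact hq ⟨d, hd⟩
  · rintro hq ⟨d, hd⟩
    exact hq ⟨Θ d, d, hd, rfl⟩

/-- A map of the system is induced by a right-equivariant permutation of the biset. -/
theorem exists_perm_of_mem [Finite S] (F : FusionSystem S) (mult : Subgroup (↥S × ↥S) → ℕ)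
    (hsupp : ∀ K, mult K ≠ 0 → IsGraph F K) (hinv : Inv F mult 0)
    {P : Subgroup Ω} (hP : P ≤ S) (φ : P →* Ω) (hφ : ∀ x : P, φ x ∈ S) (hφF : φ ∈ F.Hom P) :
    ∃ g : ↥(RGroup S mult), ∀ x : P,
      leftHom S mult ⟨φ x, hφ x⟩ = g * leftHom S mult ⟨x, hP x.2⟩ * g⁻¹ := by
  have : Finite ↥P := finite_of_le hP
  obtain ⟨Θ₁, hΘ₁⟩ : ∃ Θ₁ : ↥P × ↥S →* ↥S × ↥S, ∀ u t, Θ₁ (u, t) = (⟨u, hP u.2⟩, t) :=
    ⟨MonoidHom.prodMap (Subgroup.inclusion hP) (MonoidHom.id ↥S), fun u t => rfl⟩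
  obtain ⟨Θ₂, hΘ₂⟩ : ∃ Θ₂ : ↥P × ↥S →* ↥S × ↥S, ∀ u t, Θ₂ (u, t) = (⟨φ u, hφ u⟩, t) :=
    ⟨MonoidHom.prodMap (φ.codRestrict S hφ) (MonoidHom.id ↥S), fun u t => rfl⟩
  have hcard : ∀ D : Subgroup (↥P × ↥S), Nat.card (fixedPoints D (Tw Θ₁ (BSet S mult))) =
      Nat.card (fixedPoints D (Tw Θ₂ (BSet S mult))) := by
    intro D
    rw [card_fix_tw, card_fix_tw, card_fix_bset, card_fix_bset]
    refine cnt_eq_of_maps F mult hsupp 0 hinv (A := P) (B := S) (θ₁ := φ) (θ₂ := S.subtype) hφF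
      (subtype_mem F le_rfl) ?_ ?_ Nat.card_pos
    · rintro _ ⟨⟨u, t⟩, hd, rfl⟩
      rw [hΘ₁]
      exact ⟨u.2, t.2⟩
    · intro x'
      constructor
      · rintro ⟨⟨u, t⟩, hd, rfl⟩
        refine ⟨Θ₁ (u, t), ⟨(u, t), hd, rfl⟩, ?_⟩
        rw [hΘ₁, hΘ₂]
        exact ⟨u.2, t.2, rfl, rfl⟩
      · rintro ⟨_, ⟨⟨u, t⟩, hd, rfl⟩, h1, h2, h3, h4⟩
        refine ⟨(u, t), hd, ?_⟩
        rw [hΘ₂]
        have e1 : (⟨((Θ₁ (u, t)).1 : Ω), h1⟩ : P) = u := Subtype.ext (by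
          show ((Θ₁ (u, t)).1 : Ω) = (u : Ω)
          rw [hΘ₁])
        have e2 : ((Θ₁ (u, t)).2 : Ω) = t := by rw [hΘ₁]
        rw [e1] at h3
        have h4' : (x'.2 : Ω) = t := h4.trans e2
        apply Prod.ext
        · apply Subtype.ext
          exact h3.symm
        · apply Subtype.ext
          exact h4'.symm
  obtain ⟨e, he⟩ := exists_equiv_of_card_fixedPoints (N := ↥P × ↥S) (X := Tw Θ₁ (BSet S mult))
    (Y := Tw Θ₂ (BSet S mult)) hcard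
  obtain ⟨σ, hσ⟩ : ∃ σ : Equiv.Perm (BSet S mult), ∀ (n : ↥P × ↥S) (x : BSet S mult),
      σ (Θ₁ n • x) = Θ₂ n • σ x := ⟨e, he⟩
  have hσR : σ ∈ RGroup S mult := by
    intro t x
    have h1 := hσ (1, t) x
    rw [hΘ₁, hΘ₂] at h1
    have h2 : (⟨φ (1 : P), hφ 1⟩ : ↥S) = 1 := Subtype.ext (map_one φ)
    rw [h2] at h1
    exact h1
  refine ⟨⟨σ, hσR⟩, fun u => ?_⟩
  rw [eq_mul_inv_iff_mul_eq]
  apply Subtype.ext
  apply Equiv.ext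
  intro x
  show ((⟨φ u, hφ u⟩ : ↥S), (1 : ↥S)) • σ x = σ (((⟨u, hP u.2⟩ : ↥S), (1 : ↥S)) • x)
  have h1 := hσ (u, 1) x
  rw [hΘ₁, hΘ₂] at h1
  exact h1.symm

/-- A point of the biset fixed by the diagonal. -/
theorem exists_fix_diag [Finite S] (mult : Subgroup (↥S × ↥S) → ℕ)
    (hpos : 0 < cnt mult (graph S S S.subtype)) :
    ∃ x₀ : BSet S mult, ∀ s : ↥S, ((s, s) : ↥S × ↥S) • x₀ = x₀ := by
  rw [← card_fix_bset] at hpos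
  obtain ⟨⟨x₀, hx₀⟩⟩ := (Nat.card_pos_iff.1 hpos).1
  refine ⟨x₀, fun s => ?_⟩
  exact hx₀ ⟨(s, s), ⟨s.2, rfl⟩⟩

/-- The left action of `S` on a nonempty biset supported on graphs of maps of the system is faithful. -/
theorem leftHom_injective (F : FusionSystem S) (mult : Subgroup (↥S × ↥S) → ℕ)
    (hsupp : ∀ K, mult K ≠ 0 → IsGraph F K) (x₀ : BSet S mult) :
    Function.Injective (leftHom S mult) := by
  intro s s' h
  obtain ⟨K, i, q, rfl⟩ := bset_exists mult x₀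
  obtain ⟨c, rfl⟩ := QuotientGroup.mk_surjective q
  have hK : mult K ≠ 0 := fun h0 => by
    have := i.2
    omega
  obtain ⟨Q, ψ, hψ, rfl⟩ := hsupp K hK
  have h1 : ((s, (1 : ↥S)) : ↥S × ↥S) • bmk mult _ i (c : (↥S × ↥S) ⧸ graph S Q ψ) =
      ((s', (1 : ↥S)) : ↥S × ↥S) • bmk mult _ i (c : (↥S × ↥S) ⧸ graph S Q ψ) := by
    rw [← leftHom_apply, ← leftHom_apply, h]
  have h2 : ((s⁻¹ * s', (1 : ↥S)) : ↥S × ↥S) • bmk mult _ i (c : (↥S × ↥S) ⧸ graph S Q ψ) =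
      bmk mult _ i (c : (↥S × ↥S) ⧸ graph S Q ψ) := by
    have h3 : ((s⁻¹ * s', (1 : ↥S)) : ↥S × ↥S) = ((s, (1 : ↥S)) : ↥S × ↥S)⁻¹ * (s', 1) := by
      ext <;> simp
    rw [h3, mul_smul, ← h1, inv_smul_smul]
  rw [bset_smul_eq_iff] at h2
  obtain ⟨h4, h5⟩ := mem_graph.1 h2
  have h6 : ((c⁻¹ * ((s⁻¹ * s', (1 : ↥S)) : ↥S × ↥S) * c).2 : Ω) = 1 := by simp
  rw [h6] at h5
  have h7 : (⟨_, h4⟩ : Q) = 1 := F.injective_of_mem hψ (h5.trans (map_one ψ).symm)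
  have h8 : (c.1 : Ω)⁻¹ * ((s : Ω)⁻¹ * (s' : Ω)) * (c.1 : Ω) = 1 := congrArg Subtype.val h7
  apply Subtype.ext
  have h9 : (s : Ω)⁻¹ * (s' : Ω) = 1 := by
    have h10 := congrArg (fun z => (c.1 : Ω) * z * (c.1 : Ω)⁻¹) h8
    simpa [mul_assoc] using h10
  exact inv_mul_eq_one.1 h9

/-- A map between subgroups of `S` which is induced by a right-equivariant permutation of the biset belongs to the
system. -/
theorem mem_of_perm (F : FusionSystem S) (mult : Subgroup (↥S × ↥S) → ℕ)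
    (hsupp : ∀ K, mult K ≠ 0 → IsGraph F K) (x₀ : BSet S mult)
    (hx₀ : ∀ s : ↥S, ((s, s) : ↥S × ↥S) • x₀ = x₀)
    {P : Subgroup Ω} (hP : P ≤ S) (φ : P →* Ω) (hφ : ∀ x : P, φ x ∈ S) (g : ↥(RGroup S mult))
    (hg : ∀ x : P, leftHom S mult ⟨φ x, hφ x⟩ = g * leftHom S mult ⟨x, hP x.2⟩ * g⁻¹) :
    φ ∈ F.Hom P := by
  obtain ⟨K, j, q, hy⟩ := bset_exists mult ((g : Equiv.Perm (BSet S mult)) x₀)
  obtain ⟨c, rfl⟩ := QuotientGroup.mk_surjective q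
  have hK : mult K ≠ 0 := fun h0 => by
    have := j.2
    omega
  obtain ⟨Q, ψ, hψ, rfl⟩ := hsupp K hK
  have key : ∀ u : P, c⁻¹ * ((⟨φ u, hφ u⟩ : ↥S), (⟨u, hP u.2⟩ : ↥S)) * c ∈ graph S Q ψ := by
    intro u
    rw [← bset_smul_eq_iff mult _ _ j c, ← hy]
    have h0 : leftHom S mult ⟨φ u, hφ u⟩ * g = g * leftHom S mult ⟨u, hP u.2⟩ := by
      rw [hg u]
      group
    have h1 := congrArg (fun τ : ↥(RGroup S mult) => (τ : Equiv.Perm (BSet S mult)) x₀) h0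
    have h2 : ((⟨φ u, hφ u⟩ : ↥S), (1 : ↥S)) • (g : Equiv.Perm (BSet S mult)) x₀ =
        (g : Equiv.Perm (BSet S mult)) (((⟨u, hP u.2⟩ : ↥S), (1 : ↥S)) • x₀) := h1
    have h3 : ((⟨u, hP u.2⟩ : ↥S), (1 : ↥S)) • x₀ = ((1 : ↥S), (⟨u, hP u.2⟩ : ↥S)⁻¹) • x₀ := by
      conv_rhs => rw [← hx₀ ⟨u, hP u.2⟩]
      rw [← mul_smul]
      congr 1
      ext <;> simp
    rw [h3, g.2 _ x₀] at h2
    have h4 : ((⟨φ u, hφ u⟩ : ↥S), (⟨u, hP u.2⟩ : ↥S)) =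
        ((1 : ↥S), (⟨u, hP u.2⟩ : ↥S)) * ((⟨φ u, hφ u⟩ : ↥S), (1 : ↥S)) := by
      ext <;> simp
    rw [h4, mul_smul, h2, ← mul_smul]
    have h5 : ((1 : ↥S), (⟨u, hP u.2⟩ : ↥S)) * ((1 : ↥S), (⟨u, hP u.2⟩ : ↥S)⁻¹) = 1 := by
      ext <;> simp
    rw [h5, one_smul]
  have key' : ∀ u : P, ∃ h : (c.1 : Ω)⁻¹ * φ u * (c.1 : Ω) ∈ Q,
      ψ ⟨(c.1 : Ω)⁻¹ * φ u * (c.1 : Ω), h⟩ = (c.2 : Ω)⁻¹ * (u : Ω) * (c.2 : Ω) := by
    intro u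
    obtain ⟨h, h'⟩ := mem_graph.1 (key u)
    exact ⟨h, h'⟩
  obtain ⟨R, hR⟩ : ∃ R : Subgroup Ω, ψ.range = R := ⟨_, rfl⟩
  obtain ⟨ψ', hψ', -, hψ1, -⟩ := hom_inv F hψ hR
  have hθ₁ : conjHom P ((c.2 : Ω)⁻¹) ∈ F.Hom P := F.conj_mem hP (S.inv_mem c.2.2)
  have hθ₁R : ∀ u : P, conjHom P ((c.2 : Ω)⁻¹) u ∈ R := by
    intro u
    obtain ⟨h, h'⟩ := key' u
    rw [conjHom_apply, inv_inv, ← h']
    exact (le_of_eq hR) (MonoidHom.mem_range.2 ⟨_, rfl⟩)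
  have hθ₂ : (MulAut.conj ((c.1 : Ω)⁻¹)).toMonoidHom.comp φ ∈ F.Hom P := by
    refine hom_of_comp F hθ₁ hψ' hθ₁R (fun u => ?_)
    obtain ⟨h, h'⟩ := key' u
    have e1 : (⟨conjHom P ((c.2 : Ω)⁻¹) u, hθ₁R u⟩ : R) =
        ⟨ψ ⟨_, h⟩, (le_of_eq hR) (MonoidHom.mem_range.2 ⟨_, rfl⟩)⟩ := by
      apply Subtype.ext
      show conjHom P ((c.2 : Ω)⁻¹) u = ψ ⟨_, h⟩
      rw [conjHom_apply, inv_inv]
      exact h'.symm
    rw [e1, hψ1]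
    show (c.1 : Ω)⁻¹ * φ u * ((c.1 : Ω)⁻¹)⁻¹ = _
    rw [inv_inv]
  have hθ₂S : ∀ u : P, (MulAut.conj ((c.1 : Ω)⁻¹)).toMonoidHom.comp φ u ∈ S := hom_mem F hθ₂
  refine hom_of_comp F hθ₂ (F.conj_mem le_rfl c.1.2) hθ₂S (fun u => ?_)
  rw [conjHom_apply]
  show φ u = (c.1 : Ω) * ((c.1 : Ω)⁻¹ * φ u * ((c.1 : Ω)⁻¹)⁻¹) * (c.1 : Ω)⁻¹
  group

/-- **Park.** The group of right-equivariant permutations of a stable biset realizes the fusion system. -/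
theorem realized_of_biset [Finite S] (F : FusionSystem S) (mult : Subgroup (↥S × ↥S) → ℕ)
    (hsupp : ∀ K, mult K ≠ 0 → IsGraph F K) (hinv : Inv F mult 0)
    (hpos : 0 < cnt mult (graph S S S.subtype)) :
    F.IsRealizedBy (leftHom S mult) := by
  obtain ⟨x₀, hx₀⟩ := exists_fix_diag mult hpos
  refine ⟨leftHom_injective F mult hsupp x₀, fun P hP φ hφ =>
    ⟨fun h => exists_perm_of_mem F mult hsupp hinv hP φ hφ h, ?_⟩⟩
  rintro ⟨g, hg⟩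
  exact mem_of_perm F mult hsupp x₀ hx₀ hP φ hφ g hg

end Cfsg.Agent.Helper86
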