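import Mathlib
import Cfsg.Prelude.Def_GeometricClasses
import Cfsg.Prelude.Def_Classical
import Cfsg.Agent.Helper35.S88Defs
import Cfsg.Agent.Helper86.ELNDIVCore
import Cfsg.Agent.Helper86.ELBADMAX

set_option autoImplicit false

/-!
# CALL S88 (row S5988; top architect helper90) - hypothesis stage NDIV (helper86), verbatim
`s88_ndiv` of `tools/calls/S88HypSkel.lean.txt`, ALL characteristics.
-/

namespace Cfsg.Agent.Helper86.S88

open Module Cfsg Cfsg.Geo Cfsg.Agent.Helper35.S88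
open scoped MatrixGroups

variable {ι : Type} [Fintype ι] [DecidableEq ι] {F : Type*} [Field F] [Fintype F]

/-- NDIV: if `m < (2 d) % c`, or `i` is even, `m = (2 d) % c` and `(2 d) / i` is odd, then `r`
does not divide the number of elliptic `m`-spaces. -/
theorem s88_ndiv {p : ℕ} [Fact p.Prime] [CharP F p] {q : ℕ} (hq : Fintype.card F = q)
    (Q : (ι → F) → F) (hQ : IsNondegenerateQuadraticForm Q) (d m : ℕ)
    (hcard : Fintype.card ι = 2 * d) (hplus : IsPlusTypeOn Q ⊤)
    (hm : 2 ≤ m) (hme : Even m) (hmd : m < d) (r : ℕ) [Fact r.Prime] (hr2 : 2 < r) (hrp : r ≠ p)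
    (i c : ℕ) (hi : i = orderOf (q : ZMod r)) (hc : c = if Even i then i else 2 * i)
    (hmc : m < c) (hcd : c ≤ 2 * d)
    (hk : m < (2 * d) % c ∨ (Even i ∧ m = (2 * d) % c ∧ Odd ((2 * d) / i))) :
    ¬ r ∣ Nat.card {W : Submodule F (ι → F) // Module.finrank F ↥W = m ∧
      IsNondegenerateOn (QuadraticMap.polar Q) W ∧ ¬ IsPlusTypeOn Q W} := by
  subst hq
  have hr : r.Prime := Fact.out
  have hrF : (r : F) ≠ 0 :=
    Cfsg.Agent.Helper43.CycFactors.natCast_ne_zero_of_ne (p := p) hr hrp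
  have hpos : 0 < (2 * d) % c := by
    rcases hk with h | ⟨-, h, -⟩ <;> omega
  obtain ⟨T, hT, hTr, hker⟩ :=
    Cfsg.Agent.Helper86.EL5988.el_badmax Q hQ d hcard hplus p r hr2 hrp i c hi hc hcd hpos
  have hcpos : 0 < c := by omega
  have hfix : finrank F (LinearMap.ker (T - 1)) < c := by
    rw [hker]
    exact Nat.mod_lt _ hcpos
  exact Cfsg.Agent.Helper86.EL5988.el_ndiv_of_bad Q hQ hplus d hcard r hr2 hrF i c hi hc m hme
    (by omega) hmc T hT hTr hfix (by rw [hker, hcard]; exact hk)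

end Cfsg.Agent.Helper86.S88
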