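import Mathlib
import Cfsg.Agent.Helper13.TLDefs
import Cfsg.Agent.Helper41.TLUPERP
import Cfsg.Agent.Helper47.TLUXFERSUB
import Cfsg.Agent.Helper51.TLUCDVD
import Cfsg.Agent.Helper50.TLUTRANSFIX0

set_option autoImplicit false

/-!
# CALL S5954 piece UNDSUBCARD (helper86): `u_nd_sub_card`, statement verbatim from the skeleton
(mirror of the symplectic piece `nd_sub_card`).
-/

namespace Cfsg.Agent.Helper86.TI5954

open Module Polynomial
open Cfsg.Agent.Helper13.TIu Cfsg.Agent.Helper13.TIsp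
open Cfsg.Agent.Helper41.TI5954 Cfsg.Agent.Helper47.TI5954 Cfsg.Agent.Helper51.TI5954
open Cfsg.Agent.Helper50.TI5954

section std2

variable {F : Type*} [Field F] {σ : F →+* F}

/-- the group of isometries of `stdH σ n` fixing `K^⊥` pointwise -/
def uFixPerp (σ : F →+* F) (n : ℕ) (K : Submodule F (Fin n → F)) :
    Subgroup ((Fin n → F) ≃ₗ[F] (Fin n → F)) where
  carrier := {g | (∀ u v, stdH σ n (g u) (g v) = stdH σ n u v) ∧
    ∀ v, (∀ u ∈ K, stdH σ n u v = 0) → g v = v}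
  mul_mem' := by
    rintro g h ⟨hg1, hg2⟩ ⟨hh1, hh2⟩
    refine ⟨fun u v => ?_, fun v hv => ?_⟩
    · rw [LinearEquiv.mul_apply, LinearEquiv.mul_apply, hg1, hh1]
    · rw [LinearEquiv.mul_apply, hh2 v hv, hg2 v hv]
  one_mem' := ⟨fun _ _ => rfl, fun _ _ => rfl⟩
  inv_mem' := by
    rintro g ⟨hg1, hg2⟩
    refine ⟨fun u v => ?_, fun v hv => ?_⟩
    · have h1 := hg1 (g.symm u) (g.symm v)
      rw [LinearEquiv.apply_symm_apply, LinearEquiv.apply_symm_apply] at h1
      exact h1.symm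
    · have h1 := hg2 v hv
      have h2 : g.symm (g v) = v := LinearEquiv.symm_apply_apply g v
      rw [h1] at h2
      exact h2

/-- UTRANSFIX for the standard form, from helper50's generic core `u_trans_fix_of` with UPERP and
UXFERSUB plugged in. -/
theorem u_trans_fix_std [Finite F] (hσ2 : ∀ a, σ (σ a) = a) (hσne : σ ≠ RingHom.id F) (n : ℕ)
    (K W W' : Submodule F (Fin n → F)) (hK : UNd (stdH σ n) K) (hW : UNd (stdH σ n) W)
    (hW' : UNd (stdH σ n) W') (hWK : W ≤ K) (hW'K : W' ≤ K)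
    (hdim : finrank F W = finrank F W') :
    ∃ g : (Fin n → F) ≃ₗ[F] (Fin n → F), (∀ u v, stdH σ n (g u) (g v) = stdH σ n u v) ∧
      W.map (g : (Fin n → F) →ₗ[F] (Fin n → F)) = W' ∧
      ∀ v, (∀ u ∈ K, stdH σ n u v = 0) → g v = v := by
  refine u_trans_fix_of (stdH σ n) (stdH_symm σ hσ2 n) (stdH_nd_top σ n) ?_ ?_ K W W' hK hW hW'
    hWK hW'K hdim
  · intro M M₁ hM hM₁ hle
    obtain ⟨P, h1, -, h3, h4, h5, h6, h7, h8⟩ := u_perp (stdH σ n) hσ2 (stdH_symm σ hσ2 n)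
      (1 : Module.End F (Fin n → F)) (fun _ _ => rfl) 1 Nat.one_pos (one_pow 1) M M₁ hM hM₁ hle
      (by rintro _ ⟨v, hv, rfl⟩; exact hv) (by rintro _ ⟨v, hv, rfl⟩; exact hv)
    exact ⟨P, h1, h3, h4, h5, h6, h7, h8⟩
  · intro U hU d hd
    subst hd
    exact u_xfer_sub (stdH σ n) hσ2 hσne (stdH_symm σ hσ2 n) U hU

theorem u_nd_sub_card [Fintype F] (q : ℕ) (hq : Fintype.card F = q ^ 2) (hσ : ∀ a, σ a = a ^ q)
    (hσ2 : ∀ a, σ (σ a) = a) (hσne : σ ≠ RingHom.id F) (r : ℕ) [Fact r.Prime] (hr2 : 2 < r)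
    (hrq : ¬ r ∣ q) (hrF : (r : F) ≠ 0) (i c : ℕ) (hi : i = orderOf (q : ZMod r))
    (hc : c = if i % 4 = 0 then i else if i % 4 = 2 then i / 2 else 2 * i) (n m : ℕ)
    (K : Submodule F (Fin n → F)) (hK : UNd (stdH σ n) K) (hKc : finrank F K < c)
    (W₀ : Submodule F (Fin n → F)) (hW₀ : (finrank F W₀ = m ∧ UNd (stdH σ n) W₀) ∧ W₀ ≤ K) :
    ¬ r ∣ Nat.card {W : Submodule F (Fin n → F) //
      (finrank F W = m ∧ UNd (stdH σ n) W) ∧ W ≤ K} := by
  classical
  have hrpr : r.Prime := Fact.out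
  haveI : Finite ((Fin n → F) ≃ₗ[F] (Fin n → F)) :=
    Finite.of_injective (fun g => (g : (Fin n → F) → (Fin n → F))) DFunLike.coe_injective
  -- the complement of K
  obtain ⟨P, -, -, hPnd, hdisj, hsup, hKP, hPK, hPdim⟩ := u_perp (stdH σ n) hσ2
    (stdH_symm σ hσ2 n) (1 : Module.End F (Fin n → F)) (fun _ _ => rfl) 1 Nat.one_pos (one_pow 1)
    ⊤ K (stdH_nd_top σ n) hK le_top le_top (by rintro _ ⟨v, hv, rfl⟩; exact hv)
  rw [finrank_top, Module.finrank_fin_fun] at hPdim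
  have hfixP : ∀ g ∈ uFixPerp σ n K, ∀ y ∈ P, g y = y := by
    intro g hg y hy
    exact hg.2 y (fun u hu => hKP u hu y hy)
  -- elements of the subgroup preserve K
  have hKinv : ∀ g ∈ uFixPerp σ n K, ∀ w ∈ K, g w ∈ K := by
    intro g hg w hw
    have h1 : g w ∈ K ⊔ P := by rw [hsup]; exact Submodule.mem_top
    obtain ⟨k, hk, y, hy, hky⟩ := Submodule.mem_sup.mp h1
    have hy0 : y = 0 := by
      apply hPnd y hy
      intro y' hy'
      have h3 : stdH σ n (g w) y' = 0 := by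
        rw [← hfixP g hg y' hy', hg.1]
        exact hKP w hw y' hy'
      rw [← hky, map_add, LinearMap.add_apply, hKP k hk y' hy', zero_add] at h3
      exact h3
    rw [hy0, add_zero] at hky
    rw [← hky]
    exact hk
  -- the action
  have hpres : ∀ g ∈ uFixPerp σ n K, ∀ W : Submodule F (Fin n → F),
      ((finrank F W = m ∧ UNd (stdH σ n) W) ∧ W ≤ K) →
      ((finrank F (W.map (g : (Fin n → F) →ₗ[F] (Fin n → F))) = m ∧
        UNd (stdH σ n) (W.map (g : (Fin n → F) →ₗ[F] (Fin n → F)))) ∧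
        W.map (g : (Fin n → F) →ₗ[F] (Fin n → F)) ≤ K) := by
    rintro g hg W ⟨⟨hW1, hW2⟩, hW3⟩
    refine ⟨⟨?_, ?_⟩, ?_⟩
    · rw [← hW1]
      exact (Submodule.equivMapOfInjective (g : (Fin n → F) →ₗ[F] (Fin n → F))
        g.injective W).symm.finrank_eq
    · rintro _ ⟨u₀, hu₀, rfl⟩ hall
      have h1 : u₀ = 0 := by
        apply hW2 u₀ hu₀
        intro w hw
        rw [← hg.1]
        exact hall _ (Submodule.mem_map_of_mem hw)
      rw [h1, map_zero]
    · rintro _ ⟨w, hw, rfl⟩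
      exact hKinv g hg w (hW3 hw)
  letI inst : MulAction (uFixPerp σ n K) {W : Submodule F (Fin n → F) //
      (finrank F W = m ∧ UNd (stdH σ n) W) ∧ W ≤ K} :=
    { smul := fun g W => ⟨W.1.map (g.1 : (Fin n → F) →ₗ[F] (Fin n → F)), hpres g.1 g.2 W.1 W.2⟩
      one_smul := by
        intro W
        apply Subtype.ext
        show W.1.map (((1 : (Fin n → F) ≃ₗ[F] (Fin n → F))) : (Fin n → F) →ₗ[F] (Fin n → F)) = W.1
        exact Submodule.map_id _
      mul_smul := by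
        intro g h W
        apply Subtype.ext
        show W.1.map ((g.1 * h.1 : (Fin n → F) ≃ₗ[F] (Fin n → F)) :
            (Fin n → F) →ₗ[F] (Fin n → F)) =
          (W.1.map (h.1 : (Fin n → F) →ₗ[F] (Fin n → F))).map
            (g.1 : (Fin n → F) →ₗ[F] (Fin n → F))
        exact Submodule.map_comp _ _ _ }
  haveI : MulAction.IsPretransitive (uFixPerp σ n K) {W : Submodule F (Fin n → F) //
      (finrank F W = m ∧ UNd (stdH σ n) W) ∧ W ≤ K} := by
    refine ⟨fun W W' => ?_⟩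
    obtain ⟨g, hg0, hg1, hg2⟩ := u_trans_fix_std hσ2 hσne n K W.1 W'.1 hK W.2.1.2 W'.2.1.2 W.2.2
      W'.2.2 (by rw [W.2.1.1, W'.2.1.1])
    exact ⟨⟨g, hg0, hg2⟩, Subtype.ext hg1⟩
  have hdvd : Nat.card {W : Submodule F (Fin n → F) //
      (finrank F W = m ∧ UNd (stdH σ n) W) ∧ W ≤ K} ∣ Nat.card (uFixPerp σ n K) := by
    rw [← MulAction.index_stabilizer_of_transitive (G := uFixPerp σ n K)
      (x := (⟨W₀, hW₀⟩ : {W : Submodule F (Fin n → F) //
      (finrank F W = m ∧ UNd (stdH σ n) W) ∧ W ≤ K}))]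
    exact Subgroup.index_dvd_card _
  intro hr
  have hr' : r ∣ Nat.card (uFixPerp σ n K) := dvd_trans hr hdvd
  obtain ⟨g, hg⟩ := exists_prime_orderOf_dvd_card' r hr'
  have hgr : g.1 ^ r = 1 := by
    have h1 : g ^ r = 1 := by rw [← hg]; exact pow_orderOf_eq_one g
    have h3 := congrArg Subtype.val h1
    simpa using h3
  obtain ⟨T, hTdef⟩ : ∃ T : Module.End F (Fin n → F),
      T = (g.1 : (Fin n → F) →ₗ[F] (Fin n → F)) := ⟨_, rfl⟩
  have hTapp : ∀ v, T v = g.1 v := fun v => by rw [hTdef]; rfl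
  have hTpow : ∀ k : ℕ, ∀ v, (T ^ k) v = (g.1 ^ k) v := by
    intro k
    induction k with
    | zero => intro v; rfl
    | succ k ih =>
      intro v
      rw [pow_succ, pow_succ, Module.End.mul_apply, LinearEquiv.mul_apply, hTapp, ih]
  have hTr : T ^ r = 1 := by
    apply LinearMap.ext
    intro v
    rw [hTpow, hgr]
    rfl
  have hT : UPres (stdH σ n) T := by
    intro u v
    rw [hTapp, hTapp]
    exact g.2.1 u v
  have h1 := u_cdvd (stdH σ n) q hq hσ hσ2 hσne (stdH_symm σ hσ2 n) T hT r hr2 hrq hrF hTr i c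
    hi hc ⊤ le_top (stdH_nd_top σ n)
  rw [top_inf_eq, finrank_top, Module.finrank_fin_fun] at h1
  have hPle : P ≤ LinearMap.ker (T - 1) := by
    intro y hy
    rw [LinearMap.mem_ker, LinearMap.sub_apply, Module.End.one_apply, hTapp,
      hfixP g.1 g.2 y hy, sub_self]
  have h4 := Submodule.finrank_mono hPle
  have h5 : finrank F (LinearMap.ker (T - 1)) ≤ n := by
    have h := Submodule.finrank_le (LinearMap.ker (T - 1))
    rw [Module.finrank_fin_fun] at h
    exact h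
  have h6 := Nat.eq_zero_of_dvd_of_lt h1 (by omega)
  have h7 : LinearMap.ker (T - 1) = ⊤ := by
    apply Submodule.eq_top_of_finrank_eq
    rw [Module.finrank_fin_fun]
    omega
  have h8 : T - 1 = 0 := LinearMap.ker_eq_top.mp h7
  have h9 : T = 1 := sub_eq_zero.mp h8
  have h10 : g = 1 := by
    apply Subtype.ext
    apply LinearEquiv.ext
    intro v
    rw [← hTapp, h9]
    rfl
  rw [h10, orderOf_one] at hg
  exact hrpr.ne_one hg.symm

end std2

end Cfsg.Agent.Helper86.TI5954
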