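import Mathlib
import Cfsg.Agent.Helper17.ChevUniMem

/-!
CALL S2314 (helper40), piece CV1 (helper86, double): `card_rootsSubgroup_ge`, statement verbatim
from `tools/calls/UCSkel.lean.txt`.
-/

set_option autoImplicit false

namespace Cfsg.Agent.Helper86.UCCV1

open Cfsg.Lie

variable {F : Type*} [Field F] [Fintype F] {D : ChevalleyDatum}

/-- CV1: an ordered list of `m` positive roots generates a subgroup of order at least `q ^ m`. -/
theorem card_rootsSubgroup_ge (hD : D ∈ [chevG2, chevB2, chevD4, chevF4, chevE6, chevE7, chevE8])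
    (L : List ℕ) (hs : L.Pairwise (· < ·)) (hp : ∀ r ∈ L, D.IsPosRoot r) :
    Fintype.card F ^ L.length ≤ Nat.card ↥(Cfsg.Agent.Helper17.rootsSubgroup D F L) := by
  classical
  obtain ⟨f, hW⟩ := Cfsg.Agent.Helper17.wtFacts_of_mem hD
  have hE : Cfsg.Agent.Helper17.RootElts D F := Cfsg.Agent.Helper17.rootElts_of_mem hD
  have hpos : ∀ r ∈ L, r < D.nroots ∧ 0 < f r := fun r hr =>
    ⟨(hp r hr).1, (hW.pos r (hp r hr).1).mp (hp r hr)⟩
  have hnd : L.Nodup := hs.imp (fun h => ne_of_lt h)
  -- extension of a coefficient function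
  obtain ⟨ext, hext⟩ : ∃ ext : (↥L.toFinset → F) → ℕ → F,
      ∀ t r (h : r ∈ L.toFinset), ext t r = t ⟨r, h⟩ :=
    ⟨fun t r => if h : r ∈ L.toFinset then t ⟨r, h⟩ else 0, fun t r h => dif_pos h⟩
  have hex : ∀ t : ↥L.toFinset → F, ∃ g : GL D.Idx F,
      g ∈ Cfsg.Agent.Helper17.rootsSubgroup D F L ∧
      (g : Matrix D.Idx D.Idx F) = D.wordMat F (L.map fun r => (r, ext t r)) := by
    intro t
    refine Cfsg.Agent.Helper17.exists_wordGL hE L _ ?_
    intro p hp'
    rw [List.mem_map] at hp'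
    obtain ⟨r, hr, rfl⟩ := hp'
    exact hr
  choose φ hφ1 hφ2 using hex
  have hinj : Function.Injective (fun t : ↥L.toFinset → F =>
      (⟨φ t, hφ1 t⟩ : ↥(Cfsg.Agent.Helper17.rootsSubgroup D F L))) := by
    intro t t' htt
    have h1 : φ t = φ t' := congrArg Subtype.val htt
    have h2 : D.wordMat F (L.map fun r => (r, ext t r)) =
        D.wordMat F (L.map fun r => (r, ext t' r)) := by
      rw [← hφ2 t, ← hφ2 t', h1]
    have h3 := Cfsg.Agent.Helper17.coeff_unique hW hE L hs hpos (ext t) (ext t') h2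
    funext ⟨r, hr⟩
    have h4 := h3 r (List.mem_toFinset.mp hr)
    rw [hext t r hr, hext t' r hr] at h4
    exact h4
  have hcard := Nat.card_le_card_of_injective _ hinj
  rw [Nat.card_fun, Nat.card_eq_fintype_card (α := F),
    Nat.card_eq_fintype_card (α := ↥L.toFinset), Fintype.card_coe,
    List.toFinset_card_of_nodup hnd] at hcard
  exact hcard

end Cfsg.Agent.Helper86.UCCV1
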