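import Mathlib
import Cfsg.Agent.Helper17.ChevUniMem
import Cfsg.Agent.Helper86.UCCV1

/-!
CALL S2314 (helper40), piece CV2 (helper86, double): `card_unipotentRadical_ge`, statement
verbatim from `tools/calls/UCSkel.lean.txt`.
-/

set_option autoImplicit false

namespace Cfsg.Agent.Helper86.UCCV2

open Cfsg.Lie

variable {F : Type*} [Field F] [Fintype F] {D : ChevalleyDatum}

/-- CV2: lower bound for `|U_J|`. -/
theorem card_unipotentRadical_ge (hD : D ∈ [chevG2, chevB2, chevD4, chevF4, chevE6, chevE7, chevE8])
    (J : Set ℕ) :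
    Fintype.card F ^ (D.nroots / 2) ≤ Nat.card ↥(D.unipotentRadical F J) *
      Fintype.card F ^ (Nat.card {r : ℕ // D.IsPosRoot r ∧ D.InRootSub J r}) := by
  classical
  have h1 := Cfsg.Agent.Helper86.UCCV1.card_rootsSubgroup_ge (F := F) hD
    (D.posRoots.filter (fun r => !decide (D.InRootSub J r)))
    (Cfsg.Agent.Helper17.posRoots_sorted.filter _)
    (fun r hr => Cfsg.Agent.Helper17.mem_posRoots.mp (List.mem_filter.mp hr).1)
  have hle : Cfsg.Agent.Helper17.rootsSubgroup D F
      (D.posRoots.filter (fun r => !decide (D.InRootSub J r))) ≤ D.unipotentRadical F J := by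
    apply Subgroup.closure_mono
    rintro g ⟨r, hr, t, hg⟩
    rw [List.mem_filter] at hr
    refine ⟨r, t, Cfsg.Agent.Helper17.mem_posRoots.mp hr.1, ?_, hg⟩
    simpa using hr.2
  have h2 := Subgroup.card_le_of_le hle
  have hlen := List.length_eq_length_filter_add (l := D.posRoots)
    (fun r => decide (D.InRootSub J r))
  rw [Cfsg.Agent.Helper17.posRoots_length_of_mem hD] at hlen
  have hcard : Nat.card {r : ℕ // D.IsPosRoot r ∧ D.InRootSub J r} =
      (D.posRoots.filter (fun r => decide (D.InRootSub J r))).length := by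
    have hnd : (D.posRoots.filter (fun r => decide (D.InRootSub J r))).Nodup :=
      Cfsg.Agent.Helper17.posRoots_nodup.filter _
    rw [← List.toFinset_card_of_nodup hnd, ← Fintype.card_coe, ← Nat.card_eq_fintype_card]
    apply Nat.card_congr
    apply Equiv.subtypeEquivRight
    intro r
    rw [List.mem_toFinset, List.mem_filter, Cfsg.Agent.Helper17.mem_posRoots]
    simp
  rw [hcard, hlen, pow_add, mul_comm]
  exact Nat.mul_le_mul_right _ (h1.trans h2)

end Cfsg.Agent.Helper86.UCCV2
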